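import Groth.Agent.HodgePnLib.FreeHom
import Groth.Agent.HorrocksPnLib.Ext1
import Groth.Agent.VBLib.HomPair
import Groth.Agent.VBLib.DualOps
import Groth.Agent.VBLib.Twist
import Groth.Agent.VBLib.Cst
import Groth.Agent.CMRegLib.Seq
import Mathlib.CategoryTheory.Limits.Shapes.Pullback.HasPullback
import Mathlib.CategoryTheory.Abelian.Basic

/-!
# Extending, lifting and computing endomorphisms
-/

set_option autoImplicit false
set_option backward.isDefEq.respectTransparency false
set_option linter.style.haveILetI false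
set_option linter.unusedSectionVars false
set_option maxHeartbeats 1000000

universe u

open CategoryTheory CategoryTheory.Limits AlgebraicGeometry TopologicalSpace Opposite

noncomputable section

namespace Groth.Agent.HodgePnLib

variable {X : Scheme.{u}}

local instance hasHFE (M : X.Modules) : ModSite.HasSheafHom (O := X.sheaf) M :=
  ModTensor.hasSheafHom (O := X.sheaf) M

/-- The dual of a line bundle is its inverse. -/
theorem nonempty_dd_inverse {L L' : X.Modules} (η : CohB1.tensorMod L L' ≅ Coh.structureModule X) :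
    Nonempty (VBLib.DualDeg.dd L ≅ L') := by
  let adj : CurveLib.tensR L ⊣ CurveLib.tensR L' :=
    (CategoryTheory.Equivalence.mk (CurveLib.tensR L) (CurveLib.tensR L') (VBLib.untwist η).symm
      (VBLib.untwist (AmpleLib.comm L' L ≪≫ η))).toAdjunction
  exact ⟨(Adjunction.rightAdjointUniq (ModSite.sheafHomAdj (O := X.sheaf) L) adj).app (Coh.structureModule X) ≪≫
    AmpleLib.unitL L'⟩

variable (k : Type u) [Field k] [X.Over (Spec (CommRingCat.of k))]

include k in
/-- Maps extend across an extension of a line bundle when the obstruction group vanishes. -/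
theorem exists_extend {S : ShortComplex X.Modules} (hS : S.ShortExact) {B L' : X.Modules}
    (η : CohB1.tensorMod S.X₃ L' ≅ Coh.structureModule X) (hL' : ∀ x : X, PullbackMod.FreeAt 1 L' x)
    (h : Subsingleton (Coh.HH X (CohB1.tensorMod B L') 1)) (a : S.X₁ ⟶ B) :
    ∃ b : S.X₂ ⟶ B, S.f ≫ b = a := by
  haveI := hS.mono_f
  haveI := hS.epi_g
  let p : pushout S.f a ⟶ S.X₃ := pushout.desc S.g 0 (by rw [S.zero, comp_zero])
  have hw : pushout.inr S.f a ≫ p = 0 := pushout.inr_desc _ _ _
  haveI : Mono (pushout.inr S.f a) := inferInstance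
  haveI : Epi p := epi_of_epi_fac (pushout.inl_desc (f := S.f) (g := a) _ _ (by rw [S.zero, comp_zero]))
  let hc : IsColimit (CokernelCofork.ofπ p hw) := CokernelCofork.IsColimit.ofπ p hw
    (fun {Z} f hf => hS.gIsCokernel.desc (CokernelCofork.ofπ (pushout.inl S.f a ≫ f)
      (by rw [← Category.assoc, pushout.condition, Category.assoc, hf, comp_zero])))
    (fun {Z} f hf => by
      refine pushout.hom_ext ?_ ?_
      · rw [← Category.assoc, pushout.inl_desc]
        exact hS.gIsCokernel.fac _ WalkingParallelPair.one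
      · rw [← Category.assoc, pushout.inr_desc, zero_comp, hf])
    (fun {Z} f hf m hm => by
      refine (cancel_epi S.g).1 ?_
      have := hS.gIsCokernel.fac (CokernelCofork.ofπ (pushout.inl S.f a ≫ f)
        (by rw [← Category.assoc, pushout.condition, Category.assoc, hf, comp_zero])) WalkingParallelPair.one
      refine Eq.trans ?_ this.symm
      show S.g ≫ m = pushout.inl S.f a ≫ f
      rw [← hm, ← Category.assoc, pushout.inl_desc])
  have hT : (ShortComplex.mk _ p hw).ShortExact :=
    { exact := (ShortComplex.mk _ p hw).exact_of_g_is_cokernel hc }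
  haveI := VBLib.isEquivalence_tensR (AmpleLib.comm L' S.X₃ ≪≫ η)
  have hT' := CurveLib.shortExact_tensR hT (E := L') hL'
  obtain ⟨s, hs⟩ := HorrocksPnLib.exists_section_of_subsingleton_H1 k hT' h η.symm
  haveI : (CurveLib.tensR L').Additive := CurveLib.additive_tensR L'
  obtain ⟨σ⟩ := HorrocksPnLib.nonempty_splitting_of_map (CurveLib.tensR L') hT s hs
  refine ⟨pushout.inl S.f a ≫ σ.r, ?_⟩
  rw [← Category.assoc, pushout.condition, Category.assoc]
  exact (congrArg (a ≫ ·) σ.f_r).trans (Category.comp_id a)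

include k in
/-- Maps into a cokernel lift when the obstruction group vanishes. -/
theorem exists_lift_cokernel {n : ℕ} {Q A B : X.Modules} (hQ : FlatMod.IsFinLocFreeOfRank n Q)
    (u : B ⟶ A) [Mono u] (h : Subsingleton (Coh.HH X (CohB1.tensorMod B (VBLib.DualDeg.dd Q)) 1))
    (f : Q ⟶ cokernel u) : ∃ g : Q ⟶ A, g ≫ cokernel.π u = f := by
  have hd := VBLib.DualDeg.rank_dd hQ
  have hT := CurveLib.shortExact_tensR (CMRegLib.shortExact_coker u) (E := VBLib.DualDeg.dd Q)
    (n := n) (CurveLib.freeAt_of_isFinLocFreeOfRank hd)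
  obtain ⟨t, rfl⟩ := (VBLib.HomPair.toHom_bijective hQ (cokernel u)).2 f
  have hsurj : Function.Surjective (CurveLib.hMap (k := k)
      ((CurveLib.tensR (VBLib.DualDeg.dd Q)).map (cokernel.π u)) 0) := fun y =>
    (CurveLib.range_hMap_g (k := k) hT 0).ge
      (show y ∈ LinearMap.ker _ from LinearMap.mem_ker.2 (@Subsingleton.elim _ h _ _))
  obtain ⟨σ, hσ⟩ := (CMRegLib.surjective_hMap_zero (k := k)
    ((CurveLib.tensR (VBLib.DualDeg.dd Q)).map (cokernel.π u))).1 hsurj (AmpleLib.sec t)
  refine ⟨VBLib.HomPair.toHom Q (DCohLib.secHom _ σ), ?_⟩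
  rw [← VBLib.HomPair.toHom_natural]
  refine congrArg (VBLib.HomPair.toHom Q) ?_
  refine Eq.trans (AmpleLib.secHom_sec _).symm (Eq.trans (congrArg _ ?_) (AmpleLib.secHom_sec t))
  refine Eq.trans ?_ hσ
  exact congrArg (((CurveLib.tensR (VBLib.DualDeg.dd Q)).map (cokernel.π u)).app ⊤) (AmpleLib.sec_secHom σ)

variable [IsProper (X ↘ Spec (CommRingCat.of k))]
  (hO : Module.finrank k (Coh.HH X (Coh.structureModule X) 0) = 1)

include hO in
/-- The endomorphisms of the structure sheaf are the constants. -/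
theorem exists_cst_structure (θ : Coh.structureModule X ⟶ Coh.structureModule X) :
    ∃ r : k, θ = (VBLib.cst k (Coh.structureModule X) r : _ ⟶ _) := by
  obtain ⟨r, hr⟩ := exists_smul_eq_of_finrank_eq_one hO (one₀_ne_zero hO)
    ((CurveLib.secOf (Coh.structureModule X)).symm (AmpleLib.sec θ))
  have h := congrArg (CurveLib.secOf (Coh.structureModule X)) hr
  rw [CurveLib.secOf_smul, AddEquiv.apply_symm_apply, one₀, AddEquiv.apply_symm_apply] at h
  refine ⟨r, ?_⟩
  rw [← AmpleLib.secHom_sec θ, ← AmpleLib.secHom_sec (VBLib.cst k (Coh.structureModule X) r : _ ⟶ _), ← h]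
  refine congrArg _ ?_
  show _ = (FactorOne.mulEnd (Coh.structureModule X) _).app ⊤ (1 : Γ(X, ⊤))
  rw [FactorOne.mulEnd_app]
  exact congrArg (fun g : Γ(X, ⊤) => g • (1 : Γ(X, ⊤))) (ConcreteCategory.congr_hom (X.presheaf.map_id _) _).symm

end Groth.Agent.HodgePnLib
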