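import Groth.Agent.HodgePnLib.Seq
import Groth.Agent.DegDevLib.Frame
import Groth.Agent.DCohLib.FlatPerf
import Groth.Agent.ExactConstrLib.LocFree
import Groth.Agent.KVbLib.Rank
import Mathlib.RingTheory.LocalRing.Module

/-!
# Skew pairings of generating sections of a line bundle
-/

set_option autoImplicit false
set_option backward.isDefEq.respectTransparency false
set_option linter.style.haveILetI false
set_option maxHeartbeats 1000000

universe u

open CategoryTheory CategoryTheory.Limits AlgebraicGeometry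
open Groth.Agent.PullbackMod Groth.Agent.DCohLib
open scoped TensorProduct

noncomputable section

namespace Groth.Agent.HodgePnLib

variable {X : Scheme.{u}} {L L' : X.Modules} (φ : CohB1.tensorMod L L' ≅ Coh.structureModule X)

local notation "𝒪" => Coh.structureModule X

/-- A section tensored with a module. -/
def tw (L' : X.Modules) (s : 𝒪 ⟶ L) : CohB1.tensorMod (Coh.structureModule X) L' ⟶ CohB1.tensorMod L L' :=
  ((DCoh.tensorBi (X := X)).map s).app L'

/-- The cofactor of a section of a line bundle. -/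
def cof (s : 𝒪 ⟶ L) : L' ⟶ 𝒪 :=
  (AmpleLib.unitL L').inv ≫ tw L' s ≫ φ.hom

theorem stalkLin_cof_comp (s : 𝒪 ⟶ L) (x : X) (z : L'.presheaf.stalk x) :
    ∃ w, stalkLin (cof φ s) x z = stalkLin φ.hom x (stalkTensor x L L' ((stalkLin s x).rTensor _ w)) ∧
      stalkTensor x (Coh.structureModule X) L' w = stalkLin (AmpleLib.unitL L').inv x z := by
  obtain ⟨w, hw⟩ := (stalkTensor x (Coh.structureModule X) L').surjective (stalkLin (AmpleLib.unitL L').inv x z)
  refine ⟨w, ?_, hw⟩
  rw [cof, stalkLin_comp, stalkLin_comp, LinearMap.comp_apply, LinearMap.comp_apply, ← hw]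
  exact congrArg _ (stalkTensor_natural_left x s w)

/-- Cofactors pair symmetrically. -/
theorem cof_symm (hL : ∀ x : X, FreeAt 1 L x) (s t : 𝒪 ⟶ L) : cof φ s ≫ t = cof φ t ≫ s := by
  refine hom_ext_stalk fun x => LinearMap.ext fun z => ?_
  obtain ⟨eL⟩ := hL x
  let e := eL.symm fun _ => 1
  have hgen : ∀ v : L.presheaf.stalk x, ∃ a : X.presheaf.stalk x, v = a • e := fun v => ⟨eL v 0, eL.injective (by
    rw [map_smul, LinearEquiv.apply_symm_apply]; funext j; simp [Subsingleton.elim j 0])⟩
  obtain ⟨a, ha⟩ := hgen (stalkLin s x (ParaFLib.oneG x))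
  obtain ⟨b, hb⟩ := hgen (stalkLin t x (ParaFLib.oneG x))
  obtain ⟨w, hs, hw⟩ := stalkLin_cof_comp φ s x z
  obtain ⟨w', ht, hw'⟩ := stalkLin_cof_comp φ t x z
  obtain rfl : w = w' := (stalkTensor x (Coh.structureModule X) L').injective (hw.trans hw'.symm)
  rw [stalkLin_comp, stalkLin_comp, LinearMap.comp_apply, LinearMap.comp_apply, hs, ht]
  clear hs ht hw hw'
  induction w using TensorProduct.induction_on with
  | zero => simp
  | add u v hu hv => simp only [map_add, hu, hv]
  | tmul p q =>
    obtain ⟨r, rfl⟩ := (ParaFLib.bijective_oneG x).2 p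
    obtain ⟨c, hc⟩ := (ParaFLib.bijective_oneG x).2 (stalkLin φ.hom x (stalkTensor x L L' (e ⊗ₜ q)))
    simp only [LinearMap.rTensor_tmul, map_smul, ha, hb, ← TensorProduct.smul_tmul', ← hc, smul_smul]
    congr 1
    ring

/-- The cofactor of a section is bijective where the section generates. -/
theorem bijective_cof (s : 𝒪 ⟶ L) (x : X) (hs : Function.Bijective (stalkLin s x)) :
    Function.Bijective (stalkLin (cof φ s) x) := by
  have h1 : ∀ {A B : X.Modules} (e : A ≅ B), Function.Bijective (stalkLin e.hom x) := fun {A B} e =>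
    Function.bijective_iff_has_inverse.2 ⟨stalkLin e.inv x,
      fun z => by rw [← LinearMap.comp_apply, ← stalkLin_comp, e.hom_inv_id, stalkLin_id, LinearMap.id_apply],
      fun z => by rw [← LinearMap.comp_apply, ← stalkLin_comp, e.inv_hom_id, stalkLin_id, LinearMap.id_apply]⟩
  have h2 : Function.Bijective (stalkLin (tw L' s) x) := by
    refine (Function.Bijective.of_comp_iff _ (stalkTensor x (Coh.structureModule X) L').bijective).1 ?_
    have : stalkLin (tw L' s) x ∘ stalkTensor x (Coh.structureModule X) L' =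
        stalkTensor x L L' ∘ (LinearEquiv.rTensor (L'.presheaf.stalk x) (LinearEquiv.ofBijective _ hs)) :=
      funext fun w => stalkTensor_natural_left x s w
    rw [this]
    exact (stalkTensor x L L').bijective.comp (LinearEquiv.bijective _)
  rw [cof, stalkLin_comp, stalkLin_comp]
  exact ((h1 φ).comp h2).comp (h1 (AmpleLib.unitL L').symm)

/-- An epimorphism onto a line bundle has a generating component at each point. -/
theorem exists_bijective_component {N : ℕ} (q : FlatMod.freeMod X N ⟶ L) [Epi q] (hL : ∀ x : X, FreeAt 1 L x)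
    (x : X) : ∃ l, Function.Bijective (stalkLin (Sigma.ι (fun _ : Fin N => 𝒪) l ≫ q) x) := by
  obtain ⟨eL⟩ := hL x
  let e := eL.symm fun _ => 1
  let a : Fin N → X.presheaf.stalk x := fun l => eL (stalkLin q x (DegDevLib.stdGerm N x l)) 0
  have ha : ∀ l, stalkLin (Sigma.ι (fun _ : Fin N => 𝒪) l ≫ q) x (ParaFLib.oneG x) = a l • e := fun l => by
    refine eL.injective ?_
    rw [map_smul, LinearEquiv.apply_symm_apply, stalkLin_comp]
    funext j
    simp [a, DegDevLib.stdGerm, Subsingleton.elim j 0]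
  have hu : ∃ l, IsUnit (a l) := by
    by_contra! hne
    obtain ⟨z, hz⟩ := (epi_iff_stalk q).1 inferInstance x e
    obtain ⟨r, rfl⟩ := (DegDevLib.stdGerm_bijective N x).2 z
    have h := congrArg (fun v => eL v 0) hz
    simp only [Fintype.linearCombination_apply, map_sum, map_smul, e, LinearEquiv.apply_symm_apply,
      Finset.sum_apply, Pi.smul_apply, smul_eq_mul] at h
    exact one_ne_zero (α := IsLocalRing.ResidueField (X.presheaf.stalk x)) (by
      rw [← map_one (IsLocalRing.residue _), ← h, map_sum]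
      refine Finset.sum_eq_zero fun l _ => ?_
      rw [map_mul]
      exact mul_eq_zero_of_right _ ((IsLocalRing.residue_eq_zero_iff _).2 (hne l)))
  obtain ⟨l, hl⟩ := hu
  refine ⟨l, ?_⟩
  have he : stalkLin (Sigma.ι (fun _ : Fin N => 𝒪) l ≫ q) x = ((LinearEquiv.ofBijective
      (LinearMap.toSpanSingleton _ _ (ParaFLib.oneG x)) (ParaFLib.bijective_oneG x)).symm.trans
      ((LinearEquiv.smulOfUnit hl.unit).trans ((LinearEquiv.funUnique (Fin 1) _ _).symm.trans eL.symm))).toLinearMap := by
    refine LinearMap.ext fun p => ?_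
    obtain ⟨r, rfl⟩ := (ParaFLib.bijective_oneG x).2 p
    rw [map_smul, ha]
    refine eL.injective ?_
    have : (LinearEquiv.ofBijective (LinearMap.toSpanSingleton _ _ (ParaFLib.oneG x))
        (ParaFLib.bijective_oneG x)).symm (r • ParaFLib.oneG x) = r :=
      (LinearEquiv.symm_apply_eq _).2 rfl
    have h1 : (LinearEquiv.ofBijective (LinearMap.toSpanSingleton _ _ (ParaFLib.oneG x))
        (ParaFLib.bijective_oneG x)).symm (ParaFLib.oneG x) = 1 :=
      (LinearEquiv.symm_apply_eq _).2 (by simp)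
    simp only [LinearEquiv.coe_coe, LinearEquiv.trans_apply, this, map_smul, LinearEquiv.apply_symm_apply, e]
    funext j
    simp [h1, LinearEquiv.smulOfUnit, DistribMulAction.toLinearEquiv, Units.smul_def, mul_comm]
  rw [he]
  exact LinearEquiv.bijective _

/-- A monomorphism split on every stalk has a finite locally free cokernel. -/
theorem rank_cokernel {A B : X.Modules} (f : A ⟶ B) {b : ℕ} (hA : FlatMod.IsFinLocFreeOfRank 1 A)
    (hB : FlatMod.IsFinLocFreeOfRank (b + 1) B)
    (hf : ∀ x, ∃ ρ : B.presheaf.stalk x →ₗ[X.presheaf.stalk x] A.presheaf.stalk x,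
      ρ.comp (stalkLin f x) = LinearMap.id) :
    Mono f ∧ FlatMod.IsFinLocFreeOfRank b (cokernel f) := by
  have hA' := KVb.isFinLocFree_of_rank hA
  have hB' := KVb.isFinLocFree_of_rank hB
  haveI : Mono f := (mono_iff_stalk f).2 fun x => by
    obtain ⟨ρ, hρ⟩ := hf x
    exact Function.LeftInverse.injective (g := ρ) fun z => LinearMap.congr_fun hρ z
  refine ⟨inferInstance, ?_⟩
  obtain ⟨hqA, hpA⟩ := isQCoh_and_isFP_of_isFinLocFree A hA'
  obtain ⟨hqB, hpB⟩ := isQCoh_and_isFP_of_isFinLocFree B hB'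
  haveI := hqA
  haveI := hqB
  haveI : Coh.IsQCoh (cokernel f) := (QCohLib.isQCoh_image f hqA hqB).2
  have hFP : CohB1.IsFP (cokernel f) := DCohLib.isFP_cokernel f hqA hqB (ExactConstrLib.isFT_of_isFP hpA) hpB
  have hS : (ShortComplex.mk f (cokernel.π f) (cokernel.condition f)).ShortExact :=
    { exact := ShortComplex.exact_cokernel f }
  refine (isFinLocFreeOfRank_iff_freeAt (cokernel f) hFP b).2 fun x => ?_
  obtain ⟨ρ, hρ⟩ := hf x
  have hAx := (isFinLocFreeOfRank_iff_freeAt A hpA 1).1 hA x
  have hBx := (isFinLocFreeOfRank_iff_freeAt B hpB (b + 1)).1 hB x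
  obtain ⟨eB⟩ := hBx
  haveI := Module.Free.of_equiv eB.symm
  haveI := Module.Finite.equiv eB.symm
  have hg : Function.Surjective (stalkLin (cokernel.π f) x) := (epi_iff_stalk _).1 inferInstance x
  have hex : Function.Exact (stalkLin f x) (stalkLin (cokernel.π f) x) := exact_stalkLin _ hS.exact x
  obtain ⟨d, hd⟩ := hex.splitInjectiveEquiv hg ⟨ρ, hρ⟩
  haveI : Module.Finite (X.presheaf.stalk x) ((cokernel f).presheaf.stalk x) :=
    Module.Finite.of_surjective _ hg
  haveI : Module.Projective (X.presheaf.stalk x) ((cokernel f).presheaf.stalk x) :=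
    Module.Projective.of_split (d.symm.toLinearMap.comp (LinearMap.inr _ _ _))
      ((LinearMap.snd _ _ _).comp d.toLinearMap) (LinearMap.ext fun z => by simp)
  haveI : Module.Free (X.presheaf.stalk x) ((cokernel f).presheaf.stalk x) :=
    Module.free_of_flat_of_isLocalRing
  have hC : FreeAt (Module.finrank (X.presheaf.stalk x) ((cokernel f).presheaf.stalk x)) (cokernel f) x :=
    KVb.freeAt_of_finrank rfl
  have hmid := freeAt_unique _ (KVb.freeAt_mid hS hAx hC) ((isFinLocFreeOfRank_iff_freeAt B hpB (b + 1)).1 hB x)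
  obtain rfl : b = Module.finrank (X.presheaf.stalk x) ((cokernel f).presheaf.stalk x) := by omega
  exact hC

/-- A trivial bundle is free at every point. -/
theorem freeAt_free (X : Scheme.{u}) (N : ℕ) (x : X) : FreeAt N (FlatMod.freeMod X N) x :=
  haveI := (isQCoh_and_isFP_of_isFinLocFree _ (DCohLib.isFinLocFree_freeMod (Y := X) N)).1
  freeAt_of_restrict_iso _ (DCohLib.restrictFreeMod (⊤ : X.Opens).ι N) (U := ⊤) trivial

include φ in
/-- The null-correlation map for generating sections in pairs. -/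
theorem exists_null {m : ℕ} (q : FlatMod.freeMod X (2 * m) ⟶ L) [Epi q] (hL : ∀ x : X, FreeAt 1 L x) :
    ∃ u : L' ⟶ kernel q, ∀ x, ∃ ρ : (kernel q).presheaf.stalk x →ₗ[X.presheaf.stalk x] L'.presheaf.stalk x,
      ρ.comp (stalkLin u x) = LinearMap.id := by
  classical
  let σ : Fin (2 * m) → Fin (2 * m) := fun l =>
    if h : l.1 % 2 = 0 then ⟨l.1 + 1, by omega⟩ else ⟨l.1 - 1, by omega⟩
  have hσval : ∀ l, (σ l).1 = if l.1 % 2 = 0 then l.1 + 1 else l.1 - 1 := fun l => by
    simp only [σ]
    split_ifs <;> rfl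
  have hσ : ∀ l, σ (σ l) = l := fun l => by
    apply Fin.ext
    rw [hσval, hσval]
    split_ifs <;> omega
  have hσ' : ∀ l, σ l ≠ l := fun l h => by
    have h := congrArg Fin.val h
    rw [hσval] at h
    split_ifs at h <;> omega
  let ι := Sigma.ι (fun _ : Fin (2 * m) => 𝒪)
  let y : Fin (2 * m) → (L' ⟶ 𝒪) := fun l =>
    if l.1 % 2 = 0 then cof φ (ι (σ l) ≫ q) else -cof φ (ι (σ l) ≫ q)
  have hpair : ∀ l, y l ≫ ι l ≫ q + y (σ l) ≫ ι (σ l) ≫ q = 0 := fun l => by
    have hs := cof_symm φ hL (ι (σ l) ≫ q) (ι l ≫ q)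
    have hpar : (σ l).1 % 2 = 0 ↔ ¬ l.1 % 2 = 0 := by
      rw [hσval]
      split_ifs <;> omega
    simp only [y, hσ]
    by_cases h : l.1 % 2 = 0
    · rw [if_pos h, if_neg (fun h' => hpar.1 h' h), Preadditive.neg_comp, hs, add_neg_cancel]
    · rw [if_neg h, if_pos (hpar.2 h), Preadditive.neg_comp, hs, neg_add_cancel]
  let v : L' ⟶ FlatMod.freeMod X (2 * m) := ∑ l, y l ≫ ι l
  have hv : v ≫ q = 0 := by
    rw [Preadditive.sum_comp]
    refine Finset.sum_involution (fun l _ => σ l) (fun l _ => ?_) (fun l _ _ => hσ' l)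
      (fun l _ => Finset.mem_univ _) (fun l _ => hσ l)
    simp only [Category.assoc]
    exact hpair l
  refine ⟨kernel.lift q v hv, fun x => ?_⟩
  obtain ⟨l, hl⟩ := exists_bijective_component q hL x
  let j := σ l
  have hy : Function.Bijective (stalkLin (y j) x) := by
    have hb := bijective_cof φ _ x hl
    simp only [y, j, hσ]
    split_ifs
    · exact hb
    · have hneg : stalkLin (-cof φ (ι l ≫ q)) x = -stalkLin (cof φ (ι l ≫ q)) x := by
        refine eq_neg_of_add_eq_zero_left ?_
        rw [← DevLib.stalkLin_add, neg_add_cancel]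
        exact (eq_zero_iff_stalk _).1 rfl x
      rw [hneg]
      exact (LinearEquiv.neg (X.presheaf.stalk x)).bijective.comp hb
  let p : FlatMod.freeMod X (2 * m) ⟶ 𝒪 := Sigma.desc fun i => if i = j then 𝟙 _ else 0
  have hvp : kernel.lift q v hv ≫ kernel.ι q ≫ p = y j := by
    rw [kernel.lift_ι_assoc, Preadditive.sum_comp, Finset.sum_eq_single j]
    · simp [ι, p]
    · intro i _ hi
      simp [ι, p, hi]
    · exact fun h => absurd (Finset.mem_univ j) h
  let ey := LinearEquiv.ofBijective _ hy
  refine ⟨ey.symm.toLinearMap.comp (stalkLin (kernel.ι q ≫ p) x), LinearMap.ext fun z => ?_⟩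
  rw [LinearMap.comp_assoc, ← stalkLin_comp, hvp]
  exact ey.symm_apply_apply z

end Groth.Agent.HodgePnLib
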