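import Groth.Agent.HodgePnLib.Span
import Groth.Agent.HodgePnLib.EndLib
import Groth.Agent.HodgePnLib.NullCorr
import Groth.Agent.ProjSerreLib.Top
import Groth.Agent.DegDevLib.Det

/-!
# Endomorphisms of the twisted differentials of projective space
-/

set_option autoImplicit false
set_option backward.isDefEq.respectTransparency false
set_option linter.style.haveILetI false
set_option maxHeartbeats 1000000

universe u

open CategoryTheory CategoryTheory.Limits AlgebraicGeometry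
open Groth.Agent.PullbackMod

noncomputable section

namespace Groth.Agent.HodgePnLib

variable {n : ℕ} {k : Type u} [Field k]

/-- `(Twist.twistProjSpace n k (a)) ⊗ (Twist.twistProjSpace n k (b)) ≅ O` for `a + b = 0`. -/
def invO (a b : ℤ) (h : a + b = 0) : CohB1.tensorMod ((Twist.twistProjSpace n k (a))) ((Twist.twistProjSpace n k (b))) ≅ Coh.structureModule (CohB1.ProjSpace n k) :=
  mulO n k h ≪≫ DCohMore.TwistFam.projMulZero n k

theorem freeAt_O (d : ℤ) (x : (CohB1.ProjSpace n k)) : FreeAt 1 ((Twist.twistProjSpace n k (d))) x :=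
  CurveLib.freeAt_one_of_isInvertible (isInvertible_O n k d) x

variable {S : ShortComplex ((CohB1.ProjSpace n k)).Modules} (hS : S.ShortExact) (e₂ : S.X₂ ≅ FlatMod.freeMod (CohB1.ProjSpace n k) (n + 1))
  (e₃ : S.X₃ ≅ (Twist.twistProjSpace n k (1))) (h0 : Subsingleton (Coh.HH (CohB1.ProjSpace n k) S.X₁ 0))

/-- The endomorphisms of a twist are the constants. -/
theorem exists_cst_line (d : ℤ) (ψ : (Twist.twistProjSpace n k (d)) ⟶ (Twist.twistProjSpace n k (d))) :
    ∃ r : k, ψ = (VBLib.cst k (Twist.twistProjSpace n k (d)) r : _ ⟶ _) := by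
  haveI := isProper_PS n k
  let e : (CurveLib.tensR (Twist.twistProjSpace n k (-d))).obj (Twist.twistProjSpace n k (d)) ≅
      Coh.structureModule (CohB1.ProjSpace n k) := invO d (-d) (add_neg_cancel d)
  obtain ⟨r, hr⟩ := exists_cst_structure k (finrank_structure n k)
    (e.inv ≫ (CurveLib.tensR (Twist.twistProjSpace n k (-d))).map ψ ≫ e.hom)
  refine ⟨r, ?_⟩
  haveI := VBLib.isEquivalence_tensR (invO (n := n) (k := k) (-d) d (neg_add_cancel d))
  refine (CurveLib.tensR (Twist.twistProjSpace n k (-d))).map_injective ?_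
  rw [ProjSerreLib.tensR_map_cst, ← cancel_mono e.hom, VBLib.cst_natural, ← hr, Iso.hom_inv_id_assoc]

include hS e₂ e₃ h0 in
/-- The endomorphisms of the kernel of the Euler sequence are the constants. -/
theorem exists_cst_kernel (φ : S.X₁ ⟶ S.X₁) : ∃ r : k, φ = (VBLib.cst k S.X₁ r : _ ⟶ _) := by
  haveI := isProper_PS n k
  haveI := hS.mono_f
  haveI := hS.epi_g
  let G := CurveLib.tensR ((Twist.twistProjSpace n k (-1)))
  haveI : PreservesFiniteColimits G := CurveLib.preservesFiniteColimits_tensR _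
  have h1 : Subsingleton (Coh.HH (CohB1.ProjSpace n k) (CohB1.tensorMod S.X₂ ((Twist.twistProjSpace n k (-1)))) 1) :=
    subsingleton_twists n k
      (G.mapIso e₂ ≪≫ PreservesCoproduct.iso G _ ≪≫ Sigma.mapIso fun _ => AmpleLib.unitL _) (by omega) (by omega)
  obtain ⟨Φ, hΦ⟩ := exists_extend k hS (L' := (Twist.twistProjSpace n k (-1)))
    (AmpleLib.tIso e₃ (Iso.refl _) ≪≫ invO 1 (-1) (by norm_num)) (freeAt_O _) h1 (φ ≫ S.f)
  obtain ⟨ψ, hψ⟩ : ∃ ψ : S.X₃ ⟶ S.X₃, S.g ≫ ψ = Φ ≫ S.g :=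
    ⟨hS.gIsCokernel.desc (CokernelCofork.ofπ (Φ ≫ S.g) (by rw [← Category.assoc, hΦ, Category.assoc, S.zero, comp_zero])),
      hS.gIsCokernel.fac _ WalkingParallelPair.one⟩
  obtain ⟨r, hr⟩ := exists_cst_line 1 (e₃.inv ≫ ψ ≫ e₃.hom)
  have hψr : ψ = (VBLib.cst k S.X₃ r : _ ⟶ _) := by
    rw [← cancel_mono e₃.hom, ← cancel_epi e₃.inv, hr, VBLib.cst_natural, Iso.inv_hom_id_assoc]
  refine ⟨r, ?_⟩
  have hz : (e₂.inv ≫ Φ) ≫ S.g = (e₂.inv ≫ (VBLib.cst k S.X₂ r : _ ⟶ _)) ≫ S.g := by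
    rw [Category.assoc, Category.assoc, ← hψ, hψr, VBLib.cst_natural]
  have hΦr : e₂.inv ≫ Φ = e₂.inv ≫ (VBLib.cst k S.X₂ r : _ ⟶ _) := by
    refine ext_H0 (k := k) (LinearMap.ext fun z => ?_)
    have hinj : Function.Injective (CurveLib.hMap (k := k) S.g 0) :=
      (injective_iff_map_eq_zero _).2 fun x hx => by
        obtain ⟨w, rfl⟩ := (CurveLib.range_hMap_f (k := k) hS 0).ge (show x ∈ LinearMap.ker _ from hx)
        rw [@Subsingleton.elim _ h0 w 0, map_zero]
    refine hinj ?_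
    rw [← hMap_comp, ← hMap_comp, hz]
  rw [cancel_epi] at hΦr
  rw [← cancel_mono S.f, ← hΦ, hΦr, VBLib.cst_natural]

include hS e₂ e₃ in
/-- The kernel of the Euler sequence has rank `n`. -/
theorem rank_kernel : FlatMod.IsFinLocFreeOfRank n S.X₁ := by
  have hf : FlatMod.IsFinLocFree S.X₁ := DCohLib.isFinLocFree_of_shortExact hS
    (DCohLib.isFinLocFree_iso e₂.symm (DCohLib.isFinLocFree_freeMod _))
    (DCohLib.isFinLocFree_iso e₃.symm (flf_O n k 1))
  haveI := (isQCoh_and_isFP_of_isFinLocFree _ hf).1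
  refine (isFinLocFreeOfRank_iff_freeAt _ (isQCoh_and_isFP_of_isFinLocFree _ hf).2 _).2 fun x => ?_
  have h := KVb.isFinLocFree_freeAt hf x
  have h₃ : FreeAt 1 S.X₃ x :=
    CurveLib.freeAt_one_of_isInvertible (ParaFLib.isInvertible_of_iso e₃.symm (isInvertible_O n k 1)) x
  have hmid := KVb.freeAt_mid hS h h₃
  obtain ⟨eF⟩ := freeAt_free (CohB1.ProjSpace n k) (n + 1) x
  have h₂ : FreeAt (n + 1) S.X₂ x :=
    ⟨(LinearEquiv.ofBijective (stalkLin e₂.hom x) ((isIso_iff_stalk _).1 inferInstance x)).trans eF⟩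
  have := freeAt_unique _ hmid h₂
  rwa [show fibreRank S.X₁ x = n by omega] at h

include hS e₂ e₃ h0 in
/-- Maps from the kernel of the Euler sequence to a quotient of it by `(Twist.twistProjSpace n k (-1))` are the constants. -/
theorem exists_cst_lift (u : (Twist.twistProjSpace n k (-1)) ⟶ S.X₁) [Mono u] (f : S.X₁ ⟶ cokernel u) :
    ∃ r : k, f = (VBLib.cst k S.X₁ r : S.X₁ ⟶ S.X₁) ≫ cokernel.π u := by
  have hr := rank_kernel hS e₂ e₃
  have h₂ : FlatMod.IsFinLocFreeOfRank (n + 1) S.X₂ := fun x =>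
    let ⟨U, hU, ⟨i⟩⟩ := DegDevLib.isFinLocFreeOfRank_freeMod (X := (CohB1.ProjSpace n k)) (n + 1) x
    ⟨U, hU, ⟨(Scheme.Modules.restrictFunctor U.ι).mapIso e₂ ≪≫ i⟩⟩
  have h₃ : FlatMod.IsFinLocFreeOfRank 1 S.X₃ :=
    CurveLib.isFinLocFreeOfRank_one (ParaFLib.isInvertible_of_iso e₃.symm (isInvertible_O n k 1))
  obtain ⟨hw, hD⟩ := VBLib.DualDeg.exists_dual_seq hS hr h₂ h₃
  let G := CurveLib.tensR ((Twist.twistProjSpace n k (-1)))
  haveI : PreservesFiniteColimits G := CurveLib.preservesFiniteColimits_tensR _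
  have hD' := CurveLib.shortExact_tensR hD (E := (Twist.twistProjSpace n k (-1))) (freeAt_O _)
  obtain ⟨d₃⟩ := nonempty_dd_inverse (invO (n := n) (k := k) 1 (-1) (by norm_num))
  obtain ⟨dS⟩ := VBLib.DualOps.nonempty_dd_sigma fun _ : Fin (n + 1) => Coh.structureModule (CohB1.ProjSpace n k)
  obtain ⟨dO⟩ := VBLib.DualOps.nonempty_dd_structureModule (X := (CohB1.ProjSpace n k))
  have hv : Subsingleton (Coh.HH (CohB1.ProjSpace n k) (CohB1.tensorMod (VBLib.DualDeg.dd S.X₁) ((Twist.twistProjSpace n k (-1)))) 1) := by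
    refine subsingleton_third k hD' 1 ?_ ?_
    · exact subsingleton_twists n k
        (G.mapIso ((VBLib.DualOps.ddIso e₂.symm) ≪≫ dS ≪≫ Sigma.mapIso fun _ => dO) ≪≫ PreservesCoproduct.iso G _ ≪≫
          Sigma.mapIso fun _ => AmpleLib.unitL _) (by omega) (by omega)
    · exact subsingleton_iso k (G.mapIso ((VBLib.DualOps.ddIso e₃.symm) ≪≫ d₃) ≪≫ mulO n k (c := -2) (by norm_num)).symm
        (subsingleton_O n k (by omega) (by omega))
  obtain ⟨g, hg⟩ := exists_lift_cokernel k hr u (subsingleton_iso k (AmpleLib.comm _ _) hv) f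
  obtain ⟨r, hr'⟩ := exists_cst_kernel hS e₂ e₃ h0 g
  exact ⟨r, by rw [← hg, hr']⟩

variable (n k) in
/-- The Euler sequence with no sections in its kernel. -/
theorem exists_euler_data : ∃ S : ShortComplex ((CohB1.ProjSpace n k)).Modules, S.ShortExact ∧
    Nonempty (S.X₁ ≅ CohB1.tensorMod (Omega.sheaf (CohB1.ProjSpace.toSpec n k)) ((Twist.twistProjSpace n k (1)))) ∧
    Nonempty (S.X₂ ≅ FlatMod.freeMod (CohB1.ProjSpace n k) (n + 1)) ∧ Nonempty (S.X₃ ≅ (Twist.twistProjSpace n k (1))) ∧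
    Subsingleton (Coh.HH (CohB1.ProjSpace n k) S.X₁ 0) := by
  obtain ⟨S, hS, ⟨e₁⟩, h₂, h₃⟩ := exists_euler_ses n k
  refine ⟨S, hS, ⟨e₁⟩, h₂, h₃, subsingleton_iso k e₁.symm ?_⟩
  rcases Nat.eq_zero_or_pos n with hn | hn
  · exact subsingleton_big n k (j := 1) (by omega) 1 (KVb.isExtPow_one _) 0
  · exact subsingleton_H0_small n k (d := 1) (j := 1) hn Nat.one_pos le_rfl (KVb.isExtPow_one _)

end Groth.Agent.HodgePnLib
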