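import Groth.Agent.HodgePnLib.Hyperplane
import Groth.Agent.HodgePnLib.EulerEnd
import Groth.Agent.HodgePnLib.EndLib
import Groth.Agent.HypSqLib.Restrict
import Groth.Agent.JacLib.InverseIdeal
import Groth.Agent.BoundaryConn.Main
import Groth.Agent.VBLib.HomPair
import Groth.Agent.HorrocksPnLib.Main
import Groth.Agent.CIProjLib.Basic
import Groth.Agent.REqLib.P1Irred
import Groth.Agent.S5639
import Groth.Agent.FlagLib.Step

/-!
# Bundles trivial on a line have no sections in negative twists
-/

set_option autoImplicit false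
set_option backward.isDefEq.respectTransparency false
set_option linter.style.haveILetI false
set_option linter.unusedSectionVars false
set_option maxHeartbeats 1000000

universe u

open CategoryTheory CategoryTheory.Limits AlgebraicGeometry TopologicalSpace
open Groth.Agent.PullbackMod

noncomputable section

namespace Groth.Agent.HodgePnLib

section General

variable {X Z : Scheme.{u}}

/-- Sections of a direct image. -/
theorem subsingleton_push (i : Z ⟶ X) {N : Z.Modules} (h : Subsingleton (Coh.HH Z N 0)) :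
    Subsingleton (Coh.HH X ((Scheme.Modules.pushforward i).obj N) 0) := by
  haveI := h
  haveI : Subsingleton Γ(N, ⊤) := (CurveLib.secOf N).symm.injective.subsingleton
  haveI : Subsingleton Γ((Scheme.Modules.pushforward i).obj N, ⊤) := (inferInstance : Subsingleton Γ(N, ⊤))
  exact (CurveLib.secOf ((Scheme.Modules.pushforward i).obj N)).injective.subsingleton

variable (k : Type u) [Field k] [X.Over (Spec (CommRingCat.of k))]

include k in
/-- The middle term of a sequence has no sections when the outer terms have none. -/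
theorem subsingleton_middle {S : ShortComplex X.Modules} (hS : S.ShortExact) {p : ℕ}
    (h₁ : Subsingleton (Coh.HH X S.X₁ p)) (h₃ : Subsingleton (Coh.HH X S.X₃ p)) :
    Subsingleton (Coh.HH X S.X₂ p) := by
  refine subsingleton_of_forall_eq 0 fun z => ?_
  obtain ⟨w, rfl⟩ := (CurveLib.range_hMap_f (k := k) hS p).ge
    (LinearMap.mem_ker.2 (Subsingleton.elim (CurveLib.hMap (k := k) S.g p z) 0))
  rw [Subsingleton.elim w 0, map_zero]

include k in
/-- Sections vanish when they vanish on a divisor and after twisting down by it. -/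
theorem subsingleton_of_divisor {D : X.IdealSheafData} (i : Z ⟶ X) [IsClosedImmersion i] (hi : i.ker = D)
    {J : X.Modules} (eJ : ClSub.idealMod D ≅ J) {M : X.Modules} {r : ℕ} (hM : FlatMod.IsFinLocFreeOfRank r M)
    (h₁ : Subsingleton (Coh.HH X (CohB1.tensorMod J M) 0))
    (h₃ : Subsingleton (Coh.HH Z ((Scheme.Modules.pullback i).obj M) 0)) : Subsingleton (Coh.HH X M 0) := by
  subst hi
  haveI := Groth.Agent.SerreAff.epi_unitToPush i.ker.subschemeι
  haveI : Mono (ClSub.idealModι i.ker) := inferInstanceAs (Mono (kernel.ι _))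
  let S : ShortComplex X.Modules :=
    ShortComplex.mk (ClSub.idealModι i.ker) (ClSub.toSubscheme i.ker) (kernel.condition _)
  have hS : S.ShortExact := ShortComplex.ShortExact.mk'
    (ShortComplex.exact_of_f_is_kernel _ (kernelIsKernel _)) (inferInstanceAs (Mono (ClSub.idealModι i.ker)))
    (inferInstanceAs (Epi (ClSub.toSubscheme i.ker)))
  have hT := CurveLib.shortExact_tensR hS (E := M) fun x => CurveLib.freeAt_of_isFinLocFreeOfRank hM x
  obtain ⟨e⟩ := HypSq.nonempty_quotMod_iso i
  have h2 := subsingleton_middle k hT (subsingleton_iso k (AmpleLib.tIso eJ (Iso.refl M)).symm h₁)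
    (subsingleton_iso k (AmpleLib.tIso e (Iso.refl M) ≪≫ DCohLib.projIso i (Coh.structureModule Z) M ≪≫
      (Scheme.Modules.pushforward i).mapIso (AmpleLib.unitL _)).symm (subsingleton_push i h₃))
  exact subsingleton_iso k (AmpleLib.unitL M) h2

end General

variable {n m : ℕ} {k : Type u} [Field k]

/-- The inverse image of `O(-1)` when `O(1)` restricts to `O(1)`. -/
theorem nonempty_pull_neg_one (i : CohB1.ProjSpace m k ⟶ CohB1.ProjSpace n k)
    (e : (Scheme.Modules.pullback i).obj (Twist.twistProjSpace n k 1) ≅ Twist.twistProjSpace m k 1) :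
    Nonempty ((Scheme.Modules.pullback i).obj (Twist.twistProjSpace n k (-1)) ≅ Twist.twistProjSpace m k (-1)) := by
  obtain ⟨d₁⟩ := nonempty_dd_inverse (invO (n := m) (k := k) 1 (-1) (by norm_num))
  obtain ⟨d₂⟩ := nonempty_dd_inverse (L := Twist.twistProjSpace m k 1)
    (L' := (Scheme.Modules.pullback i).obj (Twist.twistProjSpace n k (-1)))
    (AmpleLib.tIso e.symm (Iso.refl _) ≪≫ (AmpleLib.pullTensor i _ _).symm ≪≫
      (Scheme.Modules.pullback i).mapIso (invO (n := n) (k := k) 1 (-1) (by norm_num)) ≪≫ AmpleLib.pullO i)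
  exact ⟨d₂.symm ≪≫ d₁⟩

/-- The inverse image of `O(-d)`. -/
theorem nonempty_pull_neg (i : CohB1.ProjSpace m k ⟶ CohB1.ProjSpace n k)
    (e : (Scheme.Modules.pullback i).obj (Twist.twistProjSpace n k 1) ≅ Twist.twistProjSpace m k 1) (d : ℕ) :
    Nonempty ((Scheme.Modules.pullback i).obj (Twist.twistProjSpace n k (-(d : ℤ))) ≅
      Twist.twistProjSpace m k (-(d : ℤ))) := by
  induction d with
  | zero =>
    obtain ⟨z⟩ := nonempty_O_zero n k
    obtain ⟨z'⟩ := nonempty_O_zero m k
    exact ⟨(Scheme.Modules.pullback i).mapIso z ≪≫ AmpleLib.pullO i ≪≫ z'.symm⟩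
  | succ d ih =>
    obtain ⟨f⟩ := ih
    obtain ⟨g⟩ := nonempty_pull_neg_one i e
    exact ⟨(Scheme.Modules.pullback i).mapIso (mulO n k (show -(d : ℤ) + -1 = -((d + 1 : ℕ) : ℤ) by omega)).symm ≪≫
      AmpleLib.pullTensor i _ _ ≪≫ AmpleLib.tIso f g ≪≫ mulO m k (by omega)⟩

/-- Linear forms are determined by their coefficients. -/
theorem combine_coord_injective :
    Function.Injective (ProjUPLib.combine (CohB1.ProjSpace.toSpec n k) (ProjUP.coord n k)) := by
  classical
  have hadd : ∀ a b : CohB1.polyGrading n k 1, ProjTwist.polySec n k (a + b) =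
      ProjTwist.polySec n k a + ProjTwist.polySec n k b := fun a b => by
    apply ProjTwist.L_top_injective n k 1
    refine (ProjTwist.L_polySec n k (a + b)).trans ?_
    rw [map_add]
    refine (map_add _ _ _).trans ?_
    exact congrArg₂ _ (ProjTwist.L_polySec n k a).symm (ProjTwist.L_polySec n k b).symm
  let F : CohB1.polyGrading n k 1 →+ ProjUP.Γm (Twist.twistProjSpace n k 1) :=
    AddMonoidHom.mk' (fun a => ProjTwist.polySec n k a) hadd
  let p : (Fin (n + 1) → k) → CohB1.polyGrading n k 1 := fun c =>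
    ∑ i, c i • (⟨MvPolynomial.X i, MvPolynomial.isHomogeneous_X k i⟩ : CohB1.polyGrading n k 1)
  have hp : ∀ c, ProjUPLib.combine (CohB1.ProjSpace.toSpec n k) (ProjUP.coord n k) c = F (p c) := fun c => by
    rw [map_sum]
    show ∑ i, ProjUP.toGlobal (CohB1.ProjSpace.toSpec n k) (c i) • ProjUP.coord n k i = _
    refine Finset.sum_congr rfl fun i _ => ?_
    exact (ProjTwist.polySec_smul n k 1 (c i) ⟨MvPolynomial.X i, MvPolynomial.isHomogeneous_X k i⟩).symm
  intro c c' h
  rw [hp, hp] at h
  have h2 : p c = p c' := (ProjTwist.polySec_bijective n k 1).1 h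
  have h3 := congrArg Subtype.val h2
  simp only [p, AddSubmonoidClass.coe_finsetSum, SetLike.val_smul] at h3
  funext j
  have h4 := congrArg (MvPolynomial.coeff (Finsupp.single j 1)) h3
  simpa [MvPolynomial.coeff_sum, MvPolynomial.coeff_X, MvPolynomial.coeff_X', Finsupp.single_eq_single_iff] using h4

/-- A linear subspace of positive codimension lies in a hyperplane. -/
theorem exists_hyperplane_containing {N : ℕ} (hmN : m < N) (i : CohB1.ProjSpace m k ⟶ CohB1.ProjSpace N k)
    [IsClosedImmersion i] (hi : i ≫ CohB1.ProjSpace.toSpec N k = CohB1.ProjSpace.toSpec m k)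
    (e : (Scheme.Modules.pullback i).obj (Twist.twistProjSpace N k 1) ≅ Twist.twistProjSpace m k 1) :
    ∃ s : Coh.structureModule (CohB1.ProjSpace N k) ⟶ Twist.twistProjSpace N k 1,
      s ≠ 0 ∧ PicF2.zeroScheme _ s ≤ i.ker := by
  classical
  let q := CohB1.ProjSpace.toSpec N k
  choose a ha using fun j : Fin (N + 1) =>
    S7676.exists_combine m k (e.hom.app ⊤ (ProjUP.pullSec i _ (ProjUP.coord N k j)))
  obtain ⟨c, hc0, j₀, hj₀⟩ : ∃ c : Fin (N + 1) → k, ∑ j, c j • a j = 0 ∧ ∃ j, c j ≠ 0 := by
    refine Fintype.not_linearIndependent_iff.1 fun h => ?_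
    have := h.fintype_card_le_finrank
    rw [Fintype.card_fin, Module.finrank_fin_fun] at this
    omega
  let σ := ProjUPLib.combine q (ProjUP.coord N k) c
  refine ⟨DCohLib.secHom _ σ, fun h0 => hj₀ ?_, ?_⟩
  · have h1 : σ = ProjUPLib.combine q (ProjUP.coord N k) 0 := by
      rw [map_zero, ← AmpleLib.sec_secHom σ, h0]
      show (0 : Coh.structureModule (CohB1.ProjSpace N k) ⟶ _).app ⊤ _ = 0
      rw [Scheme.Modules.Hom.zero_app]
      rfl
    exact congrFun (combine_coord_injective h1) j₀
  · refine S7676.le_ker_of_pullSec_eq_zero (S7676.inv_twist N k) _ i ?_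
    rw [AmpleLib.sec_secHom]
    refine S7676.app_iso_injective e ?_
    rw [map_zero, S7676.pullSec_combine, S7676.app_combine]
    refine (S7676.combine_congr hi (fun j => (ha j).symm) c).trans ?_
    show ∑ j, ProjUP.toGlobal (CohB1.ProjSpace.toSpec m k) (c j) •
      ProjUPLib.combine (CohB1.ProjSpace.toSpec m k) (ProjUP.coord m k) (a j) = 0
    simp only [← ProjUPLib.combine_smul]
    rw [← map_sum, hc0, map_zero]

/-- The ideal of a hyperplane. -/
theorem nonempty_idealMod_hyperplane (s : Coh.structureModule (CohB1.ProjSpace n k) ⟶ Twist.twistProjSpace n k 1)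
    (hs : s ≠ 0) : Nonempty (ClSub.idealMod (PicF2.zeroScheme _ s) ≅ Twist.twistProjSpace n k (-1)) := by
  haveI := isProper_PS n k
  haveI : IsIntegral (CohB1.ProjSpace n k) := REqLib.isIntegral_projSpace n k
  haveI := EulerIneqLib.isNoetherian_proper (X := CohB1.ProjSpace n k) k
  have hL := isInvertible_O n k 1
  haveI : Mono s := CurveLib.mono_of_ne_zero ParaFLib.isInvertible_structureModule hL hs
  have hg := BoundaryConn.genericPoint_mem_genLocus hL s
  have hD : BlowUp.IsEffCartierIdeal (PicF2.zeroScheme _ s) := fun x => by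
    obtain ⟨W, e, hxW, he⟩ := ParaFLib.exists_gen_nhd hL x
    obtain ⟨_, ⟨U, hU, rfl⟩, hxU, hUW⟩ :=
      (CohB1.ProjSpace n k).isBasis_affineOpens.exists_subset_of_mem_open hxW W.2
    have he' := he.res (show U ≤ W from hUW)
    obtain ⟨c, hc⟩ := (he' U le_rfl).2 (AmpleLib.resT (AmpleLib.sec s) (O := U))
    have hc' : c • (Twist.twistProjSpace n k 1).presheaf.map (homOfLE (show U ≤ W from hUW)).op e =
        AmpleLib.resT (AmpleLib.sec s) (O := U) := by
      rw [← hc]
      show _ = c • _
      rw [ParaFLib.res_res]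
    haveI : Nonempty U := ⟨⟨x, hxU⟩⟩
    refine ⟨⟨U, hU⟩, hxU, c, mem_nonZeroDivisors_of_ne_zero fun h0 => ?_, ?_⟩
    · have hb := AmpleLib.genLocus_inf_eq_basicOpen s he' hc'
      rw [h0, Scheme.basicOpen_zero] at hb
      exact hb.le (x := genericPoint (CohB1.ProjSpace n k))
        ⟨hg, ((genericPoint_spec (CohB1.ProjSpace n k)).mem_open_set_iff U.2).2 ⟨x, ⟨trivial, hxU⟩⟩⟩
    · rw [ZeroSchemeLib.zeroScheme_ideal hL]
      exact ZeroSchemeLib.colonIdeal_of_gen s he' hc'
  obtain ⟨η⟩ := JacLib.nonempty_tensor_idealMod_iso hD (s := AmpleLib.sec s) (by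
    have := JacLib.isCanSect_zeroScheme hL (AmpleLib.sec s)
    rwa [AmpleLib.secHom_sec] at this)
  obtain ⟨d₁⟩ := nonempty_dd_inverse η
  obtain ⟨d₂⟩ := nonempty_dd_inverse (invO (n := n) (k := k) 1 (-1) (by norm_num))
  exact ⟨d₁.symm ≪≫ d₂⟩

/-- Sufficiently negative twists of a bundle have no sections. -/
theorem exists_bound_H0 [IsAlgClosed k] {r : ℕ} (E : (CohB1.ProjSpace (n + 1) k).Modules)
    (hE : FlatMod.IsFinLocFreeOfRank r E) :
    ∃ N₀ : ℕ, ∀ N : ℕ, N₀ ≤ N → Subsingleton (Coh.HH (CohB1.ProjSpace (n + 1) k)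
      (CohB1.tensorMod E (Twist.twistProjSpace (n + 1) k (-(N : ℤ)))) 0) := by
  haveI := isProper_PS (n + 1) k
  haveI : IsIntegral (CohB1.ProjSpace (n + 1) k) := REqLib.isIntegral_projSpace (n + 1) k
  haveI := EulerIneqLib.isNoetherian_proper (X := CohB1.ProjSpace (n + 1) k) k
  refine ⟨_, fun N hN => S5639.result k (n + 1) E (CurveLib.isCoh_of_isFinLocFree (KVb.isFinLocFree_of_rank hE))
    (fun x hx hcl => ?_) N hN⟩
  obtain ⟨e⟩ := CurveLib.freeAt_of_isFinLocFreeOfRank hE x
  let R := (CohB1.ProjSpace (n + 1) k).presheaf.stalk x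
  obtain ⟨-, f, hf⟩ := (isAssociatedPrime_iff_exists_injective_linearMap _ _).1 hx
  have hne : IsLocalRing.maximalIdeal R ≠ ⊥ := fun hbot => by
    have hd := CIProjLib.dim_stalk_closed (k := k) (n := n + 1) hcl
    rw [ringKrullDim_eq_zero_of_isField (IsLocalRing.isField_iff_maximalIdeal_eq.2 hbot), eq_comm,
      Nat.cast_eq_zero] at hd
    omega
  obtain ⟨c, hcm, hc0⟩ := Submodule.exists_mem_ne_zero_of_ne_bot hne
  have h1 : c • e (f 1) = 0 := by
    rw [← map_smul, ← map_smul, show c • (1 : R ⧸ IsLocalRing.maximalIdeal R) = 0 from by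
      rw [← map_one (Ideal.Quotient.mk _), Algebra.smul_def]
      simp [Ideal.Quotient.eq_zero_iff_mem.2 hcm], map_zero, map_zero]
  have h2 : f 1 = 0 := e.map_eq_zero_iff.1 ((smul_eq_zero.1 h1).resolve_left hc0)
  exact one_ne_zero (hf (h2.trans (map_zero f).symm))

/-- A bundle trivial on a line has no sections in negative twists. -/
theorem subsingleton_H0_of_trivial_line [IsAlgClosed k] {r : ℕ} :
    ∀ (n : ℕ) (E : (CohB1.ProjSpace n k).Modules), FlatMod.IsFinLocFreeOfRank r E →
    ∀ (i : CohB1.ProjSpace 1 k ⟶ CohB1.ProjSpace n k) [IsClosedImmersion i],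
    i ≫ CohB1.ProjSpace.toSpec n k = CohB1.ProjSpace.toSpec 1 k →
    Nonempty ((Scheme.Modules.pullback i).obj (Twist.twistProjSpace n k 1) ≅ Twist.twistProjSpace 1 k 1) →
    Nonempty ((Scheme.Modules.pullback i).obj E ≅ FlatMod.freeMod (CohB1.ProjSpace 1 k) r) →
    ∀ d : ℕ, 1 ≤ d → Subsingleton (Coh.HH (CohB1.ProjSpace n k)
      (CohB1.tensorMod E (Twist.twistProjSpace n k (-(d : ℤ)))) 0) := by
  intro n
  induction n with
  | zero =>
    intro E _ i _ _ _ _
    exfalso
    haveI := HorrocksPnLib.subsingleton_PS_zero (k := k)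
    haveI : Subsingleton ↥(CohB1.ProjSpace 1 k) := (i.isClosedEmbedding.injective).subsingleton
    have h := S10829.result k 1
    have h' : topologicalKrullDim ↥(CohB1.ProjSpace 1 k) ≤ 0 := Order.krullDim_nonpos_iff_forall_isMax.2
      fun Z Z' _ => le_of_eq (IrreducibleCloseds.ext (by
        ext z
        exact ⟨fun _ => by obtain ⟨y, hy⟩ := Z.isIrreducible.nonempty; rwa [Subsingleton.elim z y],
          fun _ => by obtain ⟨y, hy⟩ := Z'.isIrreducible.nonempty; rwa [Subsingleton.elim z y]⟩))
    rw [h] at h'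
    exact absurd h' (by simp)
  | succ n ih =>
    intro E hE i _ hi hO htriv d hd
    obtain ⟨e⟩ := hO
    obtain ⟨t⟩ := htriv
    haveI := isProper_PS (n + 1) k
    haveI : IsIntegral (CohB1.ProjSpace (n + 1) k) := REqLib.isIntegral_projSpace (n + 1) k
    haveI := EulerIneqLib.isNoetherian_proper (X := CohB1.ProjSpace (n + 1) k) k
    rcases n with _ | n
    · -- the line is the whole space
      obtain ⟨g⟩ := nonempty_pull_neg i e d
      let M := CohB1.tensorMod E (Twist.twistProjSpace 1 k (-(d : ℤ)))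
      haveI : Surjective i := ⟨by
        haveI : IsIntegral (CohB1.ProjSpace 1 k) := REqLib.isIntegral_projSpace 1 k
        intro z
        by_contra hz
        let η := genericPoint ↥(CohB1.ProjSpace 1 k)
        obtain ⟨y, hy⟩ : ∃ y : CohB1.ProjSpace 1 k, y ≠ η := by
          by_contra hall
          push Not at hall
          haveI : Subsingleton ↥(CohB1.ProjSpace 1 k) := ⟨fun a b => (hall a).trans (hall b).symm⟩
          have h' : topologicalKrullDim ↥(CohB1.ProjSpace 1 k) ≤ 0 := Order.krullDim_nonpos_iff_forall_isMax.2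
            fun Z Z' _ => le_of_eq (IrreducibleCloseds.ext (by
              ext w
              exact ⟨fun _ => by obtain ⟨v, hv⟩ := Z.isIrreducible.nonempty; rwa [Subsingleton.elim w v],
                fun _ => by obtain ⟨v, hv⟩ := Z'.isIrreducible.nonempty; rwa [Subsingleton.elim w v]⟩))
          rw [S10829.result k 1] at h'
          exact absurd h' (by simp)
        let c : ↥(CohB1.ProjSpace 1 k) → IrreducibleCloseds ↥(CohB1.ProjSpace 1 k) := fun p =>
          ⟨closure {p}, isIrreducible_singleton.closure, isClosed_closure⟩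
        have hηtop : ∀ w, w ∈ closure ({η} : Set ↥(CohB1.ProjSpace 1 k)) := fun w =>
          ((genericPoint_spec ↥(CohB1.ProjSpace 1 k)).def).symm ▸ Set.mem_univ w
        have hlt1 : c (i y) < c (i η) := by
          refine lt_of_le_of_ne ?_ fun h => hy ?_
          · show closure {i y} ⊆ closure {i η}
            refine closure_minimal (Set.singleton_subset_iff.2 ?_) isClosed_closure
            rw [← Set.image_singleton]
            exact image_closure_subset_closure_image i.continuous ⟨y, hηtop y, rfl⟩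
          · have h' : closure ({i y} : Set _) = closure {i η} := congrArg (fun Z : IrreducibleCloseds ↥(CohB1.ProjSpace 1 k) => (Z : Set ↥(CohB1.ProjSpace 1 k))) h
            exact i.isClosedEmbedding.injective ((inseparable_iff_closure_eq.2 h').eq)
        have hlt2 : c (i η) < c η := by
          refine lt_of_le_of_ne (show c (i η) ≤ c η from fun w _ => hηtop w) fun h => hz ?_
          have h' : closure ({i η} : Set _) = closure {η} := congrArg (fun Z : IrreducibleCloseds ↥(CohB1.ProjSpace 1 k) => (Z : Set ↥(CohB1.ProjSpace 1 k))) h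
          have hsub : closure ({i η} : Set _) ⊆ Set.range i :=
            closure_minimal (Set.singleton_subset_iff.2 ⟨η, rfl⟩) i.isClosedEmbedding.isClosed_range
          exact hsub (h'.symm ▸ hηtop z)
        let sr : LTSeries (IrreducibleCloseds ↥(CohB1.ProjSpace 1 k)) :=
          { length := 2
            toFun := ![c (i y), c (i η), c η]
            step := fun j => by fin_cases j <;> simpa }
        have h2 : ((2 : ℕ) : WithBot ℕ∞) ≤ topologicalKrullDim ↥(CohB1.ProjSpace 1 k) := Order.LTSeries.length_le_krullDim sr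
        rw [S10829.result k 1] at h2
        exact absurd h2 (by norm_cast)⟩
      haveI : IsIso i := isIso_of_isClosedImmersion_of_surjective i
      obtain ⟨ψ⟩ := CurveP1Lib.nonempty_push_pull i M
      let H := CurveLib.tensR (Twist.twistProjSpace 1 k (-(d : ℤ)))
      haveI : PreservesFiniteColimits H := CurveLib.preservesFiniteColimits_tensR _
      refine subsingleton_iso k ψ.symm (subsingleton_push i ?_)
      exact subsingleton_iso k
        (AmpleLib.pullTensor i E _ ≪≫ AmpleLib.tIso t g ≪≫ PreservesCoproduct.iso H _ ≪≫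
          Sigma.mapIso fun _ => AmpleLib.unitL _).symm
        (subsingleton_sigma k _ fun _ => subsingleton_O 1 k (by omega) (by omega))
    · obtain ⟨s, hs, hle⟩ := exists_hyperplane_containing (by omega) i hi e
      obtain ⟨φ, hφ, ⟨eH⟩⟩ := exists_hyperplane_param k (n + 1) s hs
      let ι := (PicF2.zeroScheme _ s).subschemeι
      let j' : CohB1.ProjSpace 1 k ⟶ (PicF2.zeroScheme _ s).subscheme :=
        IsClosedImmersion.lift ι i (by rw [Scheme.IdealSheafData.ker_subschemeι]; exact hle)
      have hj' : j' ≫ ι = i := IsClosedImmersion.lift_fac ι i _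
      let j := j' ≫ φ.inv
      let ι' := φ.hom ≫ ι
      have hjι : j ≫ ι' = i := by simp [j, ι', hj']
      haveI : IsClosedImmersion j := by
        haveI : IsClosedImmersion (j ≫ ι') := by rw [hjι]; infer_instance
        exact IsClosedImmersion.of_comp j ι'
      have hj : j ≫ CohB1.ProjSpace.toSpec (n + 1) k = CohB1.ProjSpace.toSpec 1 k := by
        rw [← hφ, ← Category.assoc, show j ≫ φ.hom ≫ ι = i from hjι, hi]
      have hker : ι'.ker = PicF2.zeroScheme _ s := by
        rw [Scheme.Hom.ker_comp_of_isIso, Scheme.IdealSheafData.ker_subschemeι]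
      obtain ⟨eI⟩ := nonempty_idealMod_hyperplane s hs
      let P := Scheme.Modules.pullback j
      let pc (A : (CohB1.ProjSpace (n + 1 + 1) k).Modules) : P.obj ((Scheme.Modules.pullback ι').obj A) ≅
          (Scheme.Modules.pullback i).obj A :=
        (Scheme.Modules.pullbackComp j ι').app A ≪≫
          eqToIso (congrArg (fun f => (Scheme.Modules.pullback f).obj A) hjι)
      have hEH : FlatMod.IsFinLocFreeOfRank r ((Scheme.Modules.pullback ι').obj E) := FlagLib.rank_pullback ι' E hE
      have hH : ∀ d : ℕ, 1 ≤ d → Subsingleton (Coh.HH (CohB1.ProjSpace (n + 1) k) (CohB1.tensorMod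
          ((Scheme.Modules.pullback ι').obj E) (Twist.twistProjSpace (n + 1) k (-(d : ℤ)))) 0) :=
        ih _ hEH j hj ⟨P.mapIso eH.symm ≪≫ pc _ ≪≫ e⟩ ⟨pc E ≪≫ t⟩
      obtain ⟨N₀, hN₀⟩ := exists_bound_H0 E hE
      suffices h : ∀ a d : ℕ, 1 ≤ d → N₀ ≤ d + a → Subsingleton (Coh.HH (CohB1.ProjSpace (n + 1 + 1) k)
          (CohB1.tensorMod E (Twist.twistProjSpace (n + 1 + 1) k (-(d : ℤ)))) 0) from h N₀ d hd (by omega)
      intro a
      induction a with
      | zero => exact fun d _ hN => hN₀ d (by omega)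
      | succ a iha =>
        intro d hd hN
        have hM := VBLib.HomPair.rank_tensor hE
          (CurveLib.isFinLocFreeOfRank_one (isInvertible_O (n + 1 + 1) k (-(d : ℤ))))
        obtain ⟨g⟩ := nonempty_pull_neg ι' eH d
        exact subsingleton_of_divisor k ι' hker eI hM
          (subsingleton_iso k (AmpleLib.comm _ _ ≪≫ AmpleLib.assoc _ _ _ ≪≫
            AmpleLib.tIso (Iso.refl E) (mulO (n + 1 + 1) k (show -(d : ℤ) + -1 = -((d + 1 : ℕ) : ℤ) by omega))).symm
            (iha (d + 1) (by omega) (by omega)))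
          (subsingleton_iso k (AmpleLib.pullTensor ι' E _ ≪≫ AmpleLib.tIso (Iso.refl _) g).symm (hH d hd))

end Groth.Agent.HodgePnLib
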