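import Groth.Agent.HodgePnLib.Ring
import Groth.Agent.S4466
import Groth.Agent.EulerIneqLib.Basic
import Groth.Agent.CompleteCurve.ProjSpace

/-!
# Bott's formula for the zeroth cohomology
-/

set_option autoImplicit false
set_option backward.isDefEq.respectTransparency false
set_option linter.style.haveILetI false
set_option maxHeartbeats 1000000

universe u

open CategoryTheory CategoryTheory.Limits AlgebraicGeometry

noncomputable section

namespace Groth.Agent.HodgePnLib

/-- The recursion of Bott's numbers. -/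
theorem bott_identity (n j d : ℕ) (hd : 0 < d) :
    (d + n - (j + 1)).choose d * (d - 1).choose (j + 1) + (d + n - j).choose d * (d - 1).choose j =
      (n + 1).choose (j + 1) * (if j + 1 ≤ d then (n + (d - (j + 1))).choose n else 0) := by
  by_cases hjd : j + 1 ≤ d
  swap
  · rw [if_neg hjd, Nat.choose_eq_zero_of_lt (n := d - 1) (by omega),
      Nat.choose_eq_zero_of_lt (n := d - 1) (by omega)]
    simp
  rw [if_pos hjd]
  by_cases hjn : n < j
  · rw [Nat.choose_eq_zero_of_lt (n := d + n - (j + 1)) (by omega), Nat.choose_eq_zero_of_lt (n := d + n - j) (by omega),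
      Nat.choose_eq_zero_of_lt (n := n + 1) (by omega)]
    simp
  obtain ⟨e, rfl⟩ := Nat.exists_eq_add_of_le hjd
  obtain ⟨s, rfl⟩ := Nat.exists_eq_add_of_le (not_lt.1 hjn)
  rw [show j + 1 + e + (j + s) - (j + 1) = e + (j + s) by omega,
    show j + 1 + e + (j + s) - j = j + 1 + e + s by omega, show j + 1 + e - 1 = j + e by omega,
    show j + 1 + e - (j + 1) = e by omega]
  have h1 : (j + e).choose (j + 1) * (j + 1) = (j + e).choose j * e := by
    rw [Nat.choose_succ_right_eq]; congr 1; omega
  have h2 : (e + (j + s)).choose (j + 1 + e) * (j + 1 + e + s) = (j + 1 + e + s).choose (j + 1 + e) * s := by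
    rcases Nat.eq_zero_or_pos s with rfl | hs
    · rw [Nat.choose_eq_zero_of_lt (by omega)]; simp
    have := Nat.choose_mul_succ_eq (e + (j + s)) (j + 1 + e)
    rw [show e + (j + s) + 1 = j + 1 + e + s by omega] at this
    rw [this]; congr 1; omega
  have h3 : (j + s + 1).choose (j + 1) * (j + 1) = (j + s + 1) * (j + s).choose j :=
    (Nat.add_one_mul_choose_eq _ _).symm
  have h4 : (j + 1 + e + s).choose (j + 1 + e) * (j + 1 + e) = (j + 1 + e + s) * (j + e + s).choose (j + e) := by
    have := Nat.add_one_mul_choose_eq (j + e + s) (j + e)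
    rw [show j + e + s + 1 = j + 1 + e + s by omega, show j + e + 1 = j + 1 + e by omega] at this
    exact this.symm
  have h5 : (j + e + s).choose (j + e) * (j + e).choose j = (j + e + s).choose (j + s) * (j + s).choose j := by
    rw [Nat.choose_mul (Nat.le_add_right j e), Nat.choose_mul (Nat.le_add_right j s)]
    congr 1
    rw [show j + e + s - j = e + s by omega, show j + e - j = e by omega, show j + s - j = s by omega]
    exact Nat.choose_symm_add
  refine Nat.eq_of_mul_eq_mul_right (Nat.mul_pos (Nat.succ_pos j) (show 0 < j + 1 + e + s by omega)) ?_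
  have lhs : ((e + (j + s)).choose (j + 1 + e) * (j + e).choose (j + 1) +
      (j + 1 + e + s).choose (j + 1 + e) * (j + e).choose j) * ((j + 1) * (j + 1 + e + s)) =
      (j + 1 + e + s).choose (j + 1 + e) * (j + 1 + e) * (j + e).choose j * (j + 1 + s) := by
    calc _ = (e + (j + s)).choose (j + 1 + e) * (j + 1 + e + s) * ((j + e).choose (j + 1) * (j + 1)) +
          (j + 1 + e + s).choose (j + 1 + e) * (j + e).choose j * ((j + 1) * (j + 1 + e + s)) := by ring
      _ = _ := by rw [h1, h2]; ring
  rw [Nat.succ_eq_add_one] at *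
  calc _ = _ := lhs
    _ = (j + 1 + e + s) * (j + 1 + s) * ((j + e + s).choose (j + e) * (j + e).choose j) := by rw [h4]; ring
    _ = (j + 1 + e + s) * ((j + s + 1) * (j + s).choose j) * (j + e + s).choose (j + s) := by rw [h5]; ring
    _ = _ := by
      rw [← h3, show j + e + s = j + s + e by omega]
      ring

variable (n : ℕ) (k : Type u) [Field k]

local notation "PS" => CohB1.ProjSpace n k
local notation "O(" d ")" => Twist.twistProjSpace n k d
local notation "Ω¹" => Omega.sheaf (CohB1.ProjSpace.toSpec n k)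

theorem finite_H {j : ℕ} {L : (PS).Modules} (hL : ExtPow.IsExtPow j Ω¹ L) (m : ℤ) (q : ℕ) :
    Module.Finite k (Coh.HH PS (CohB1.tensorMod L (O(m))) q) := by
  haveI : IsProper (PS ↘ Spec (CommRingCat.of k)) := CompleteCurve.isProper_toSpec n k
  haveI := EulerIneqLib.isNoetherian_proper (X := PS) k
  exact EulerIneqLib.finite_HH (k := k)
    (DCohLib.isCoh_of_isFinLocFree (flf_tmod n k (KVb.extPow_flf (flf_omega n k) hL).1 (flf_O n k m))) q

theorem finrank_O0 (d : ℤ) (hn : 0 < n) : Module.finrank k (Coh.HH PS (O(d)) 0) =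
    if 0 ≤ d then (n + d.toNat).choose n else 0 := by
  split_ifs with h
  · obtain ⟨m, rfl⟩ := Int.eq_ofNat_of_zero_le h
    obtain ⟨e⟩ := ProjTwist.nonempty_H0 n k m
    rw [e.finrank_eq, S4466.finrank_forms k n m, Int.toNat_natCast, add_comm]
  · haveI := subsingleton_O n k (d := d) (q := 0) (by omega) (by omega)
    exact Module.finrank_zero_of_subsingleton

theorem finite_O (d : ℤ) (q : ℕ) : Module.Finite k (Coh.HH PS (O(d)) q) := by
  haveI : IsProper (PS ↘ Spec (CommRingCat.of k)) := CompleteCurve.isProper_toSpec n k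
  haveI := EulerIneqLib.isNoetherian_proper (X := PS) k
  exact EulerIneqLib.finite_HH (k := k) (DCohLib.isCoh_of_isFinLocFree (flf_O n k d)) q

/-- Bott's formula. -/
theorem finrank_H0_twist (hn : 0 < n) (d : ℕ) (hd : 0 < d) :
    ∀ (j : ℕ) (L : (PS).Modules), ExtPow.IsExtPow j Ω¹ L →
      Module.finrank k (Coh.HH PS (CohB1.tensorMod L (O((d : ℤ)))) 0) = (d + n - j).choose d * (d - 1).choose j := by
  intro j
  induction j with
  | zero =>
    intro L hL
    obtain ⟨e⟩ := nonempty_zero_iso n k (d : ℤ) hL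
    rw [(hIso k e 0).finrank_eq, finrank_O0 n k _ hn, if_pos (by omega), Int.toNat_natCast, Nat.choose_zero_right,
      mul_one, Nat.sub_zero, add_comm n d]
    exact Nat.choose_symm_add.symm
  | succ j ih =>
    intro L hL
    obtain ⟨L', hL'⟩ := exists_omega n k j
    obtain ⟨T, hT, ⟨e₁⟩, ⟨e₂⟩, ⟨e₃⟩⟩ := exists_seq n k j (d : ℤ) hL hL'
    haveI hv : Subsingleton (Coh.HH PS T.X₁ 1) :=
      subsingleton_iso k e₁.symm (subsingleton_pos n k (by omega) (j + 1) hL Nat.one_pos)
    obtain ⟨π⟩ := nonempty_sigma_equiv k (fun _ : Fin ((n + 1).choose (j + 1)) => O((d : ℤ) - (j + 1))) 0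
    haveI := fun q => finite_O n k ((d : ℤ) - (j + 1)) q
    haveI hf2 : Module.Finite k (Coh.HH PS T.X₂ 0) :=
      Module.Finite.equiv ((hIso k e₂ 0).trans π).symm
    have h2 : Module.finrank k (Coh.HH PS T.X₂ 0) =
        (n + 1).choose (j + 1) * (if j + 1 ≤ d then (n + (d - (j + 1))).choose n else 0) := by
      rw [((hIso k e₂ 0).trans π).finrank_eq, Module.finrank_pi_fintype, Finset.sum_const, Finset.card_univ,
        Fintype.card_fin, smul_eq_mul, finrank_O0 n k _ hn]
      congr 1
      by_cases h : j + 1 ≤ d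
      · rw [if_pos (by omega), if_pos h]; congr 1; omega
      · rw [if_neg (by omega), if_neg h]
    have hsum := (CurveLib.hMap (k := k) T.g 0).finrank_range_add_finrank_ker
    rw [← CurveLib.range_hMap_f hT 0, LinearMap.finrank_range_of_inj (CurveLib.hMap_f_zero_injective (k := k) hT),
      h2] at hsum
    have hsurj : Function.Surjective (CurveLib.hMap (k := k) T.g 0) := fun x =>
      (CurveLib.range_hMap_g (k := k) hT 0).ge
        (show x ∈ LinearMap.ker _ from LinearMap.mem_ker.2 (@Subsingleton.elim _ hv _ _))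
    rw [LinearMap.range_eq_top.2 hsurj, finrank_top, (hIso k e₃ 0).finrank_eq, ih L' hL',
      (hIso k e₁ 0).finrank_eq] at hsum
    have hb := bott_identity n j d hd
    omega

/-- No sections of `Ω^j(m)` for `0 < m ≤ j`. -/
theorem subsingleton_H0_small (hn : 0 < n) {d j : ℕ} (hd : 0 < d) (hdj : d ≤ j) {L : (PS).Modules}
    (hL : ExtPow.IsExtPow j Ω¹ L) : Subsingleton (Coh.HH PS (CohB1.tensorMod L (O((d : ℤ)))) 0) := by
  haveI := finite_H n k hL (d : ℤ) 0
  refine (Module.finrank_zero_iff (R := k)).1 ?_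
  rw [finrank_H0_twist n k hn d hd j L hL, Nat.choose_eq_zero_of_lt (n := d - 1) (by omega), mul_zero]

end Groth.Agent.HodgePnLib
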