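import Groth.Agent.CurveLib.Euler
import Mathlib.Algebra.Category.ModuleCat.Abelian

/-!
# Long exact sequences and finite sums in cohomology, over a ring
-/

set_option autoImplicit false
set_option backward.isDefEq.respectTransparency false
set_option linter.style.haveILetI false

universe u

open CategoryTheory CategoryTheory.Limits AlgebraicGeometry

noncomputable section

namespace Groth.Agent.HodgePnLib

variable (k : Type u) [CommRing k] {X : Scheme.{u}} [X.Over (Spec (CommRingCat.of k))]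

theorem hMap_comp {A B C : X.Modules} (f : A ⟶ B) (g : B ⟶ C) (n : ℕ) (z : Coh.HH X A n) :
    CurveLib.hMap (k := k) (f ≫ g) n z = CurveLib.hMap (k := k) g n (CurveLib.hMap (k := k) f n z) :=
  (congrArg (fun h => Sheaf.H.map h n z) ((QCohLib.toAbF X).map_comp f g)).trans (Sheaf.H.map_comp_apply _ _ z)

theorem hMap_id (A : X.Modules) (n : ℕ) (z : Coh.HH X A n) : CurveLib.hMap (k := k) (𝟙 A) n z = z :=
  (congrArg (fun h => Sheaf.H.map h n z) ((QCohLib.toAbF X).map_id A)).trans (Sheaf.H.map_id_apply _)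

theorem hMap_add {A B : X.Modules} (f g : A ⟶ B) (n : ℕ) (z : Coh.HH X A n) :
    CurveLib.hMap (k := k) (f + g) n z = CurveLib.hMap (k := k) f n z + CurveLib.hMap (k := k) g n z :=
  (congrArg (fun h => Sheaf.H.map h n z) ((QCohLib.toAbF X).map_add (f := f) (g := g))).trans
    (Sheaf.H.map_add_apply _ _ z)

theorem hMap_zero (A B : X.Modules) (n : ℕ) (z : Coh.HH X A n) : CurveLib.hMap (k := k) (0 : A ⟶ B) n z = 0 := by
  have h := hMap_add k (0 : A ⟶ B) 0 n z
  rwa [add_zero, left_eq_add] at h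

theorem hMap_sum {A B : X.Modules} {ι : Type} (s : Finset ι) (f : ι → (A ⟶ B)) (n : ℕ) (z : Coh.HH X A n) :
    CurveLib.hMap (k := k) (∑ i ∈ s, f i) n z = ∑ i ∈ s, CurveLib.hMap (k := k) (f i) n z :=
  map_sum (AddMonoidHom.mk' (fun g : A ⟶ B => CurveLib.hMap (k := k) g n z) fun f g => hMap_add k f g n z) f s

/-- The map of an isomorphism. -/
def hIso {A B : X.Modules} (e : A ≅ B) (p : ℕ) : Coh.HH X A p ≃ₗ[k] Coh.HH X B p :=
  LinearEquiv.ofLinearMap (CurveLib.hMap (k := k) e.hom p) (CurveLib.hMap (k := k) e.inv p)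
    (LinearMap.ext fun x => by
      rw [LinearMap.comp_apply, ← hMap_comp, e.inv_hom_id, hMap_id]; rfl)
    (LinearMap.ext fun x => by
      rw [LinearMap.comp_apply, ← hMap_comp, e.hom_inv_id, hMap_id]; rfl)

include k in
theorem subsingleton_iso {A B : X.Modules} (e : A ≅ B) {p : ℕ} (h : Subsingleton (Coh.HH X A p)) :
    Subsingleton (Coh.HH X B p) :=
  (hIso k e p).toEquiv.subsingleton_congr.1 h

/-- Cohomology of a finite sum. -/
theorem nonempty_sigma_equiv {b : ℕ} (f : Fin b → X.Modules) (i : ℕ) :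
    Nonempty (Coh.HH X (∐ f) i ≃ₗ[k] ((j : Fin b) → Coh.HH X (f j) i)) := by
  classical
  let p : ∀ j, (∐ f) ⟶ f j := fun j => Sigma.desc fun l => if e : l = j then eqToHom (congrArg f e) else 0
  have htot : ∑ j, p j ≫ Sigma.ι f j = 𝟙 _ := by
    refine Sigma.hom_ext _ _ fun l => ?_
    simp [p, Preadditive.comp_sum, dite_comp, Finset.sum_dite_eq]
  have hιp : ∀ l j, Sigma.ι f l ≫ p j = if e : l = j then eqToHom (congrArg f e) else 0 := fun l j => by simp [p]
  let φ : Coh.HH X (∐ f) i →ₗ[k] ((j : Fin b) → Coh.HH X (f j) i) :=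
    LinearMap.pi fun j => CurveLib.hMap (k := k) (p j) i
  refine ⟨LinearEquiv.ofBijective φ ⟨(injective_iff_map_eq_zero _).2 fun z hz => ?_, fun w => ?_⟩⟩
  · rw [← hMap_id k _ i z, ← htot, hMap_sum]
    refine Finset.sum_eq_zero fun j _ => ?_
    rw [hMap_comp, show CurveLib.hMap (k := k) (p j) i z = 0 from congrFun hz j, map_zero]
  · refine ⟨∑ l, CurveLib.hMap (k := k) (Sigma.ι f l) i (w l), funext fun j => ?_⟩
    show CurveLib.hMap (k := k) (p j) i (∑ l, CurveLib.hMap (k := k) (Sigma.ι f l) i (w l)) = w j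
    rw [map_sum, Finset.sum_eq_single j]
    · rw [← hMap_comp, hιp, dif_pos rfl, eqToHom_refl, hMap_id]
    · intro l _ hl
      rw [← hMap_comp, hιp, dif_neg hl, hMap_zero]
    · exact fun h => absurd (Finset.mem_univ _) h

include k in
theorem subsingleton_sigma {b : ℕ} (f : Fin b → X.Modules) {i : ℕ}
    (h : ∀ j, Subsingleton (Coh.HH X (f j) i)) : Subsingleton (Coh.HH X (∐ f) i) := by
  obtain ⟨e⟩ := nonempty_sigma_equiv k f i
  exact e.toEquiv.subsingleton

variable {S : ShortComplex X.Modules} (hS : S.ShortExact)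

include k hS in
theorem subsingleton_third (p : ℕ) (h₂ : Subsingleton (Coh.HH X S.X₂ p))
    (h₁ : Subsingleton (Coh.HH X S.X₁ (p + 1))) : Subsingleton (Coh.HH X S.X₃ p) := by
  refine subsingleton_of_forall_eq 0 fun x => ?_
  obtain ⟨w, rfl⟩ := (CurveLib.range_hMap_g (k := k) hS p).ge
    (show x ∈ LinearMap.ker _ from LinearMap.mem_ker.2 (@Subsingleton.elim _ h₁ _ _))
  rw [@Subsingleton.elim _ h₂ w 0, map_zero]

include k hS in
theorem subsingleton_first (p : ℕ) (h₃ : Subsingleton (Coh.HH X S.X₃ p))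
    (h₂ : Subsingleton (Coh.HH X S.X₂ (p + 1))) : Subsingleton (Coh.HH X S.X₁ (p + 1)) := by
  refine subsingleton_of_forall_eq 0 fun x => ?_
  obtain ⟨w, rfl⟩ := (CurveLib.range_hδ (k := k) hS p).ge
    (show x ∈ LinearMap.ker _ from LinearMap.mem_ker.2 (@Subsingleton.elim _ h₂ _ _))
  rw [@Subsingleton.elim _ h₃ w 0, map_zero]

include k hS in
theorem subsingleton_first_zero (h₂ : Subsingleton (Coh.HH X S.X₂ 0)) : Subsingleton (Coh.HH X S.X₁ 0) :=
  (CurveLib.hMap_f_zero_injective (k := k) hS).subsingleton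

/-- The connecting map is bijective between vanishing middle groups. -/
theorem nonempty_shift (p : ℕ) (h₂ : Subsingleton (Coh.HH X S.X₂ p))
    (h₂' : Subsingleton (Coh.HH X S.X₂ (p + 1))) (hS' : S.ShortExact) :
    Nonempty (Coh.HH X S.X₃ p ≃ₗ[k] Coh.HH X S.X₁ (p + 1)) := by
  refine ⟨LinearEquiv.ofBijective (CurveLib.hδ (k := k) hS' p)
    ⟨(injective_iff_map_eq_zero _).2 fun x hx => ?_, fun y => ?_⟩⟩
  · obtain ⟨w, rfl⟩ := (CurveLib.range_hMap_g (k := k) hS' p).ge (show x ∈ LinearMap.ker _ from hx)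
    rw [@Subsingleton.elim _ h₂ w 0, map_zero]
  · exact (CurveLib.range_hδ (k := k) hS' p).ge
      (show y ∈ LinearMap.ker _ from LinearMap.mem_ker.2 (@Subsingleton.elim _ h₂' _ _))

end Groth.Agent.HodgePnLib
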