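import Groth.Agent.HodgePnLib.Seq
import Groth.Agent.HodgePnLib.Coh
import Groth.Agent.HorrocksPnLib.Main
import Groth.Agent.ProjTwist.Zero

/-!
# The cohomology of the twisted exterior powers of the differentials of projective space over a ring
-/

set_option autoImplicit false
set_option backward.isDefEq.respectTransparency false
set_option linter.style.haveILetI false
set_option maxHeartbeats 1000000

universe u

open CategoryTheory CategoryTheory.Limits AlgebraicGeometry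

noncomputable section

namespace Groth.Agent.HodgePnLib

variable (n : ℕ) (A : Type u) [CommRing A]

local notation "PS" => CohB1.ProjSpace n A
local notation "O(" d ")" => Twist.twistProjSpace n A d
local notation "Ω¹" => Omega.sheaf (CohB1.ProjSpace.toSpec n A)

theorem subsingleton_O {d : ℤ} {q : ℕ} (h₀ : ¬ (q = 0 ∧ 0 ≤ d)) (hn : ¬ (q = n ∧ d ≤ -((n : ℤ) + 1))) :
    Subsingleton (Coh.HH PS (O(d)) q) :=
  ProjTwist.subsingleton_HH n A d q h₀ hn

theorem subsingleton_twists {b : ℕ} {d : ℤ} {q : ℕ} {M : (PS).Modules} (e : M ≅ ∐ fun _ : Fin b => O(d))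
    (h₀ : ¬ (q = 0 ∧ 0 ≤ d)) (hn : ¬ (q = n ∧ d ≤ -((n : ℤ) + 1))) : Subsingleton (Coh.HH PS M q) :=
  subsingleton_iso A e.symm (subsingleton_sigma A _ fun _ => subsingleton_O n A h₀ hn)

/-- The zeroth exterior power twisted is the twisting sheaf. -/
theorem nonempty_zero_iso (m : ℤ) {L : (PS).Modules} (hL : ExtPow.IsExtPow 0 Ω¹ L) :
    Nonempty (CohB1.tensorMod L (O(m)) ≅ O(m)) := by
  obtain ⟨e⟩ := ExtPowLib.nonempty_iso hL (KVb.isExtPow_zero _)
  exact ⟨AmpleLib.tIso e (Iso.refl _) ≪≫ AmpleLib.unitL _⟩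

/-- An exterior power and its twist by `O(0)`. -/
theorem nonempty_twist_zero (L : (PS).Modules) : Nonempty (CohB1.tensorMod L (O(0)) ≅ L) :=
  ⟨AmpleLib.tIso (Iso.refl L) (DCohMore.TwistFam.projMulZero n A) ≪≫ AmpleLib.unitR L⟩

/-- Beyond the rank everything vanishes. -/
theorem subsingleton_big {j : ℕ} (hj : n + 1 ≤ j) (m : ℤ) {L : (PS).Modules} (hL : ExtPow.IsExtPow j Ω¹ L)
    (q : ℕ) : Subsingleton (Coh.HH PS (CohB1.tensorMod L (O(m))) q) := by
  obtain ⟨L₁, hL₁⟩ := exists_omega n A (j + 1)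
  obtain ⟨T, hT, -, ⟨e₂⟩, ⟨e₃⟩⟩ := exists_seq n A j m hL₁ hL
  have h0 : (n + 1).choose (j + 1) = 0 := Nat.choose_eq_zero_of_lt (by omega)
  have hz2 : IsZero T.X₂ := by
    refine IsZero.of_iso ?_ e₂
    rw [h0]
    exact HorrocksPnLib.isZero_sigma_zero _
  have hz3 : IsZero T.X₃ := by
    haveI := hT.epi_g
    exact IsZero.of_epi T.g hz2
  refine subsingleton_iso A ((hz3.iso (HorrocksPnLib.isZero_sigma_zero fun _ : Fin 0 => O(m))).symm ≪≫ e₃) ?_
  exact subsingleton_sigma A _ fun i => i.elim0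

/-- Positive degrees vanish when the middle of the sequences does. -/
theorem subsingleton_pos_aux (m : ℤ)
    {q₀ : ℕ} (hmid : ∀ q, q₀ ≤ q → ∀ t : ℤ, m - ((n : ℤ) + 1) ≤ t → Subsingleton (Coh.HH PS (O(t)) q)) :
    ∀ (c j : ℕ), n + 1 ≤ j + c → ∀ (L : (PS).Modules), ExtPow.IsExtPow j Ω¹ L → ∀ q, q₀ ≤ q →
      Subsingleton (Coh.HH PS (CohB1.tensorMod L (O(m))) q) := by
  intro c
  induction c with
  | zero => exact fun j hj L hL q _ => subsingleton_big n A (by omega) m hL q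
  | succ c ih =>
    intro j hj L hL q hq
    by_cases hb : n + 1 ≤ j
    · exact subsingleton_big n A hb m hL q
    obtain ⟨L₁, hL₁⟩ := exists_omega n A (j + 1)
    obtain ⟨T, hT, ⟨e₁⟩, ⟨e₂⟩, ⟨e₃⟩⟩ := exists_seq n A j m hL₁ hL
    refine subsingleton_iso A e₃ (subsingleton_third A hT q ?_ ?_)
    · exact subsingleton_iso A e₂.symm (subsingleton_sigma A _ fun _ => hmid q hq _ (by omega))
    · exact subsingleton_iso A e₁.symm (ih (j + 1) (by omega) L₁ hL₁ (q + 1) (by omega))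

/-- `H^q(Ω^j(m)) = 0` for `q > 0` and `m > 0`. -/
theorem subsingleton_pos {m : ℤ} (hm : 0 < m) (j : ℕ) {L : (PS).Modules} (hL : ExtPow.IsExtPow j Ω¹ L)
    {q : ℕ} (hq : 0 < q) : Subsingleton (Coh.HH PS (CohB1.tensorMod L (O(m))) q) :=
  subsingleton_pos_aux n A m (q₀ := 1) (fun q hq t ht => subsingleton_O n A (by omega) (by omega)) (n + 1) j
    (by omega) L hL q hq

/-- `H^q(Ω^j(m)) = 0` for `q > n`. -/
theorem subsingleton_high (m : ℤ) (j : ℕ) {L : (PS).Modules} (hL : ExtPow.IsExtPow j Ω¹ L)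
    {q : ℕ} (hq : n < q) : Subsingleton (Coh.HH PS (CohB1.tensorMod L (O(m))) q) :=
  subsingleton_pos_aux n A m (q₀ := n + 1) (fun q hq t _ => subsingleton_O n A (by omega) (by omega)) (n + 1) j
    (by omega) L hL q hq

/-- `H^q(Ω^j(m)) = 0` for `q < n` and `m < 0`. -/
theorem subsingleton_neg {m : ℤ} (hm : m < 0) : ∀ (j : ℕ) (L : (PS).Modules), ExtPow.IsExtPow j Ω¹ L →
    ∀ q, q < n → Subsingleton (Coh.HH PS (CohB1.tensorMod L (O(m))) q) := by
  intro j
  induction j with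
  | zero =>
    intro L hL q hq
    obtain ⟨e⟩ := nonempty_zero_iso n A m hL
    exact subsingleton_iso A e.symm (subsingleton_O n A (by omega) (by omega))
  | succ j ih =>
    intro L hL q hq
    obtain ⟨L', hL'⟩ := exists_omega n A j
    obtain ⟨T, hT, ⟨e₁⟩, ⟨e₂⟩, ⟨e₃⟩⟩ := exists_seq n A j m hL hL'
    refine subsingleton_iso A e₁ ?_
    cases q with
    | zero =>
      exact subsingleton_first_zero A hT (subsingleton_twists n A e₂ (by omega) (by omega))
    | succ q =>
      exact subsingleton_first A hT q (subsingleton_iso A e₃.symm (ih L' hL' q (by omega)))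
        (subsingleton_twists n A e₂ (by omega) (by omega))

/-- The global functions are the constants. -/
theorem nonempty_H0_equiv : Nonempty (Coh.HH PS (O(0)) 0 ≃ₗ[A] A) := by
  obtain ⟨e⟩ := ProjTwist.nonempty_H0 n A 0
  let C' : A →ₗ[A] ↥(MvPolynomial.homogeneousSubmodule (Fin (n + 1)) A 0) :=
    LinearMap.codRestrict _ (Algebra.linearMap A (MvPolynomial (Fin (n + 1)) A))
      fun a => MvPolynomial.isHomogeneous_C _ a
  refine ⟨e.trans (LinearEquiv.ofBijective C' ⟨fun a b h => ?_, fun p => ?_⟩).symm⟩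
  · exact MvPolynomial.C_injective _ _ (congrArg Subtype.val h)
  · refine ⟨MvPolynomial.coeff 0 p.1, Subtype.ext ?_⟩
    exact (MvPolynomial.totalDegree_eq_zero_iff_eq_C.1
      (Nat.le_zero.1 ((MvPolynomial.mem_homogeneousSubmodule 0 p.1).1 p.2).totalDegree_le)).symm

/-- `H^q(Ω^j)` vanishes for `q ≠ j`. -/
theorem untwisted_vanish : ∀ (j : ℕ) (L : (PS).Modules), ExtPow.IsExtPow j Ω¹ L →
    ∀ q, q ≠ j → Subsingleton (Coh.HH PS L q) := by
  intro j
  induction j with
  | zero =>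
    intro L hL q hq
    obtain ⟨e⟩ := nonempty_zero_iso n A 0 hL
    obtain ⟨z⟩ := nonempty_twist_zero n A L
    exact subsingleton_iso A (e.symm ≪≫ z) (subsingleton_O n A (by omega) (by omega))
  | succ j ih =>
    intro L hL q hq
    obtain ⟨z⟩ := nonempty_twist_zero n A L
    by_cases hb : n + 1 ≤ j + 1
    · exact subsingleton_iso A z (subsingleton_big n A hb 0 hL q)
    obtain ⟨L', hL'⟩ := exists_omega n A j
    obtain ⟨T, hT, ⟨e₁⟩, ⟨e₂⟩, ⟨e₃⟩⟩ := exists_seq n A j 0 hL hL'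
    obtain ⟨z'⟩ := nonempty_twist_zero n A L'
    refine subsingleton_iso A (e₁ ≪≫ z) ?_
    cases q with
    | zero => exact subsingleton_first_zero A hT (subsingleton_twists n A e₂ (by omega) (by omega))
    | succ q =>
      exact subsingleton_first A hT q (subsingleton_iso A (e₃ ≪≫ z').symm (ih L' hL' q (by omega)))
        (subsingleton_twists n A e₂ (by omega) (by omega))

/-- `H^j(Ω^j)` is free of rank one. -/
theorem untwisted_top : ∀ (j : ℕ) (L : (PS).Modules), ExtPow.IsExtPow j Ω¹ L → j ≤ n →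
    Nonempty (Coh.HH PS L j ≃ₗ[A] A) := by
  intro j
  induction j with
  | zero =>
    intro L hL _
    obtain ⟨e⟩ := nonempty_zero_iso n A 0 hL
    obtain ⟨z⟩ := nonempty_twist_zero n A L
    obtain ⟨h⟩ := nonempty_H0_equiv n A
    exact ⟨(hIso A (z.symm ≪≫ e) 0).trans h⟩
  | succ j ih =>
    intro L hL hj
    obtain ⟨z⟩ := nonempty_twist_zero n A L
    obtain ⟨L', hL'⟩ := exists_omega n A j
    obtain ⟨z'⟩ := nonempty_twist_zero n A L'
    obtain ⟨T, hT, ⟨e₁⟩, ⟨e₂⟩, ⟨e₃⟩⟩ := exists_seq n A j 0 hL hL'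
    obtain ⟨d⟩ := nonempty_shift A j (subsingleton_twists n A e₂ (by omega) (by omega))
      (subsingleton_twists n A e₂ (by omega) (by omega)) hT
    obtain ⟨h⟩ := ih L' hL' (by omega)
    exact ⟨((hIso A (e₁ ≪≫ z) (j + 1)).symm.trans d.symm).trans ((hIso A (e₃ ≪≫ z') j).trans h)⟩

end Groth.Agent.HodgePnLib
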