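import Groth.Agent.HodgePnLib.HomSections
import Groth.Agent.HilbObsLib.Ideal
import Groth.Agent.EtAlgEasy.ConormalStalk
import Groth.Agent.FundLocIsoLib.Main
import Groth.Agent.DCohLib.TensorExact
import Mathlib.RingTheory.KrullDimension.Regular

/-!
# Resolutions of ideals of regular immersions of codimension two
-/

set_option autoImplicit false
set_option backward.isDefEq.respectTransparency false
set_option linter.style.haveILetI false
set_option linter.unusedSectionVars false
set_option maxHeartbeats 1000000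

universe u

open CategoryTheory CategoryTheory.Limits AlgebraicGeometry
open Groth.Agent.PullbackMod Groth.Agent.DCohLib Groth.Agent.ParaFLib

noncomputable section

namespace Groth.Agent.HodgePnLib

/-- The kernel of a presentation of a two generated regular ideal is projective. -/
theorem projective_ker_two {R : Type u} [CommRing R] {P : Type u} [AddCommGroup P] [Module R P] [Module.Free R P]
    (φ : P →ₗ[R] R) (f₁ f₂ : R) (hφ : LinearMap.range φ = Ideal.span {f₁, f₂}) (h1 : IsSMulRegular R f₁)
    (h2 : ∀ v, v * f₂ ∈ Ideal.span {f₁} → v ∈ Ideal.span {f₁}) : Module.Projective R (LinearMap.ker φ) := by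
  classical
  let ρ : R × R →ₗ[R] R := (LinearMap.toSpanSingleton R R f₁).coprod (LinearMap.toSpanSingleton R R f₂)
  have hρr : LinearMap.range ρ = Ideal.span {f₁, f₂} := by
    refine le_antisymm ?_ (Ideal.span_le.2 ?_)
    · rintro _ ⟨⟨u, v⟩, rfl⟩
      show u • f₁ + v • f₂ ∈ _
      exact Ideal.add_mem _ (Ideal.mul_mem_left _ u (Ideal.subset_span (by simp)))
        (Ideal.mul_mem_left _ v (Ideal.subset_span (by simp)))
    · rintro g (rfl | rfl)
      · exact ⟨(1, 0), by simp [ρ]⟩
      · exact ⟨(0, 1), by simp [ρ]⟩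
  obtain ⟨a, ha⟩ := Module.projective_lifting_property ρ.rangeRestrict
    (φ.codRestrict (LinearMap.range ρ) fun p => by rw [hρr, ← hφ]; exact LinearMap.mem_range_self φ p)
    ρ.surjective_rangeRestrict
  obtain ⟨b, hb⟩ := Module.projective_lifting_property φ.rangeRestrict
    (ρ.codRestrict (LinearMap.range φ) fun p => by rw [hφ, ← hρr]; exact LinearMap.mem_range_self ρ p)
    φ.surjective_rangeRestrict
  have ha' : ∀ p, ρ (a p) = φ p := fun p => congrArg Subtype.val (LinearMap.congr_fun ha p)
  have hb' : ∀ w, φ (b w) = ρ w := fun w => congrArg Subtype.val (LinearMap.congr_fun hb w)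
  let s : R →ₗ[R] LinearMap.ker ρ := (LinearMap.toSpanSingleton R (R × R) (-f₂, f₁)).codRestrict _ fun t => by
    show (t • -f₂) • f₁ + (t • f₁) • f₂ = 0
    simp only [smul_eq_mul]
    ring
  have hs : Function.Bijective s := by
    refine ⟨fun t t' h => h1 ?_, fun ⟨⟨u, v⟩, hw⟩ => ?_⟩
    · have h' := congrArg (fun w : LinearMap.ker ρ => w.1.2) h
      simpa [s, mul_comm] using h'
    · change u • f₁ + v • f₂ = 0 at hw
      obtain ⟨t, rfl⟩ := Ideal.mem_span_singleton'.1 (h2 v (Ideal.mem_span_singleton'.2 ⟨-u, by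
        simp only [smul_eq_mul] at hw; linear_combination -hw⟩))
      refine ⟨t, Subtype.ext (Prod.ext ?_ rfl)⟩
      refine h1 ?_
      show f₁ • (t • -f₂) = f₁ • u
      simp only [smul_eq_mul] at hw ⊢
      linear_combination -hw
  haveI : Module.Free R (LinearMap.ker ρ) := Module.Free.of_equiv (LinearEquiv.ofBijective s hs)
  let inc : LinearMap.ker φ →ₗ[R] P × LinearMap.ker ρ := (LinearMap.ker φ).subtype.prod
    ((a ∘ₗ (LinearMap.ker φ).subtype).codRestrict _ fun p => by
      show ρ (a p.1) = 0
      rw [ha']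
      exact p.2)
  let ret : P × LinearMap.ker ρ →ₗ[R] LinearMap.ker φ :=
    ((LinearMap.id - b ∘ₗ a).coprod (b ∘ₗ (LinearMap.ker ρ).subtype)).codRestrict _ fun ⟨p, w⟩ => by
      show φ (p - b (a p) + b w.1) = 0
      rw [map_add, map_sub, hb', hb', ha', w.2, sub_self, add_zero]
  refine Module.Projective.of_split inc ret (LinearMap.ext fun p => Subtype.ext ?_)
  show p.1 - b (a p.1) + b (a p.1) = p.1
  rw [sub_add_cancel]

variable {X Y : Scheme.{u}} (i : Y ⟶ X) [IsClosedImmersion i]

/-- Two equations at a point of a regular immersion of codimension two. -/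
theorem exists_two_gens (hi : RegImm.IsRegularImmersionOfCodim RegImm.Kind.regular 2 i) (x : X) :
    ∃ f₁ f₂ : X.presheaf.stalk x, IntMult.stalkIdeal i.ker x = Ideal.span {f₁, f₂} ∧
      IsSMulRegular (X.presheaf.stalk x) f₁ ∧ ∀ v, v * f₂ ∈ Ideal.span {f₁} → v ∈ Ideal.span {f₁} := by
  by_cases hx : x ∈ Set.range i
  · obtain ⟨y, rfl⟩ := hx
    obtain ⟨c, hc⟩ := FundLocIsoLib.exists_chart i hi y
    have hreg := c.isRegular_gens y hc
    rw [List.ofFn_succ, List.ofFn_succ, List.ofFn_zero] at hreg
    simp only [List.reverse_cons, List.reverse_nil, List.nil_append, List.cons_append,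
      RingTheory.Sequence.isRegular_cons_iff] at hreg
    refine ⟨c.gens y hc 1, c.gens y hc 0, ?_, hreg.1, fun v hv => ?_⟩
    · rw [EtAlgEasy.ConormalStalk.stalkIdeal_ker, c.ker_stalk y hc]
      congr 1
      ext g
      simp only [Set.mem_range, Fin.exists_fin_two, Set.mem_insert_iff, Set.mem_singleton_iff]
      constructor
      · rintro (h | h)
        · exact Or.inr h.symm
        · exact Or.inl h.symm
      · rintro (h | h)
        · exact Or.inr h.symm
        · exact Or.inl h.symm
    · have h2 := hreg.2.1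
      obtain ⟨w, hw⟩ := Ideal.mem_span_singleton'.1 hv
      have hz : (c.gens y hc 0) • (Submodule.Quotient.mk v : QuotSMulTop (c.gens y hc 1) (X.presheaf.stalk (i y))) =
          (c.gens y hc 0) • (0 : QuotSMulTop (c.gens y hc 1) (X.presheaf.stalk (i y))) := by
        rw [smul_zero, ← Submodule.Quotient.mk_smul, Submodule.Quotient.mk_eq_zero,
          Submodule.mem_smul_pointwise_iff_exists]
        exact ⟨w, trivial, by simp only [smul_eq_mul]; rw [mul_comm, hw, mul_comm]⟩
      have hv0 := h2 hz
      rw [Submodule.Quotient.mk_eq_zero, Submodule.mem_smul_pointwise_iff_exists] at hv0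
      obtain ⟨t, -, ht⟩ := hv0
      exact Ideal.mem_span_singleton'.2 ⟨t, by rw [← ht, smul_eq_mul, mul_comm]⟩
  · refine ⟨1, 0, ?_, IsSMulRegular.one _, fun v _ => by rw [Ideal.span_singleton_one]; trivial⟩
    rw [HilbObsLib.stalkIdeal_eq_top i.ker (by
      rwa [Scheme.IdealSheafData.range_subschemeι, Scheme.Hom.support_ker,
        i.isClosedEmbedding.isClosed_range.closure_eq]),
      eq_comm, Ideal.eq_top_iff_one]
    exact Ideal.subset_span (by simp)

/-- The local dimensions of a regular immersion of codimension two. -/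
theorem ringKrullDim_add_two [IsLocallyNoetherian X] (hi : RegImm.IsRegularImmersionOfCodim RegImm.Kind.regular 2 i)
    (y : Y) : ringKrullDim (Y.presheaf.stalk y) + 2 = ringKrullDim (X.presheaf.stalk (i y)) := by
  obtain ⟨c, hc⟩ := FundLocIsoLib.exists_chart i hi y
  have h := ringKrullDim_add_length_eq_ringKrullDim_of_isRegular _ (c.isRegular_gens y hc)
  rw [List.length_reverse, List.length_ofFn] at h
  refine Eq.trans ?_ h
  refine congrArg (· + (2 : WithBot ℕ∞)) (ringKrullDim_eq_of_ringEquiv ?_)
  exact ((Ideal.quotEquivOfEq ((FundLocIsoLib.ofList_reverse _).trans (c.ofList_gens y hc))).trans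
    (RingHom.quotientKerEquivOfSurjective (i.stalkMap_surjective y))).symm

/-- A bundle of relations of a presentation of the ideal. -/
theorem projective_stalk_kernel [IsLocallyNoetherian X]
    (hi : RegImm.IsRegularImmersionOfCodim RegImm.Kind.regular 2 i) {T : ShortComplex X.Modules} (hT : T.ShortExact)
    (h₂ : FlatMod.IsFinLocFree T.X₂) (e₃ : T.X₃ ≅ ClSub.idealMod i.ker) (x : X) :
    Module.Projective (X.presheaf.stalk x) (T.X₁.presheaf.stalk x) ∧
      Module.Finite (X.presheaf.stalk x) (T.X₁.presheaf.stalk x) := by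
  let R := X.presheaf.stalk x
  obtain ⟨hfree, hfin⟩ := free_finite_stalk_of_flf h₂ x
  haveI := hfree
  haveI := hfin
  haveI : Mono (ClSub.idealModι i.ker) := inferInstanceAs (Mono (kernel.ι _))
  let a : T.X₂ ⟶ Coh.structureModule X := T.g ≫ e₃.hom ≫ ClSub.idealModι i.ker
  let one : R ≃ₗ[R] (Coh.structureModule X).presheaf.stalk x :=
    LinearEquiv.ofBijective (LinearMap.toSpanSingleton R _ (oneG x)) (bijective_oneG x)
  let φ : T.X₂.presheaf.stalk x →ₗ[R] R := one.symm.toLinearMap ∘ₗ stalkLin a x
  have hx := (shortExact_iff_stkF _).1 hT x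
  have hfi : Function.Injective (stalkLin T.f x) := hx.moduleCat_injective_f
  have hgs : Function.Surjective (stalkLin T.g x) := hx.moduleCat_surjective_g
  have hexx : Function.Exact (stalkLin T.f x) (stalkLin T.g x) := by
    have := hx.exact
    rw [ShortComplex.moduleCat_exact_iff_range_eq_ker] at this
    exact LinearMap.exact_iff.2 this.symm
  have hkey : ∀ p, stalkLin a x p = stalkLin (ClSub.idealModι i.ker) x (stalkLin e₃.hom x (stalkLin T.g x p)) :=
    fun p => by
      rw [← LinearMap.comp_apply (stalkLin e₃.hom x), ← stalkLin_comp, ← LinearMap.comp_apply, ← stalkLin_comp,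
        Category.assoc]
  have hker : LinearMap.ker φ = LinearMap.range (stalkLin T.f x) := by
    ext p
    show one.symm (stalkLin a x p) = 0 ↔ _
    rw [LinearEquiv.map_eq_zero_iff, hkey]
    refine Iff.trans ⟨fun h => ?_, fun h => by rw [h, map_zero, map_zero]⟩ (hexx p)
    exact ((isIso_iff_stalk e₃.hom).1 inferInstance x).1
      (((mono_iff_stalk _).1 inferInstance x (h.trans (map_zero _).symm)).trans (map_zero _).symm)
  obtain ⟨f₁, f₂, hI, h1, h2⟩ := exists_two_gens i hi x
  have hrange : LinearMap.range φ = Ideal.span {f₁, f₂} := by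
    rw [← hI]
    ext r
    rw [← HilbObsLib.mem_range_idealModι i.ker x r, LinearMap.mem_range]
    constructor
    · rintro ⟨p, rfl⟩
      refine ⟨stalkLin e₃.hom x (stalkLin T.g x p), (hkey p).symm.trans ?_⟩
      exact (one.apply_symm_apply _).symm
    · rintro ⟨m, hm⟩
      obtain ⟨m', rfl⟩ := ((isIso_iff_stalk e₃.hom).1 inferInstance x).2 m
      obtain ⟨p, rfl⟩ := hgs m'
      refine ⟨p, one.injective ?_⟩
      show one (one.symm _) = _
      rw [LinearEquiv.apply_symm_apply, hkey]
      exact hm
  haveI := projective_ker_two φ f₁ f₂ hrange h1 h2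
  let e : T.X₁.presheaf.stalk x ≃ₗ[R] LinearMap.ker φ :=
    (LinearEquiv.ofInjective (stalkLin T.f x) hfi).trans (LinearEquiv.ofEq _ _ hker.symm)
  exact ⟨Module.Projective.of_equiv e.symm, Module.Finite.equiv e.symm⟩

end Groth.Agent.HodgePnLib
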