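import Groth.Agent.HodgePnLib.Nilp
import Groth.Agent.VBLib.HomPair

/-!
# A bundle of rank two is its dual twisted by its determinant
-/

set_option autoImplicit false
set_option backward.isDefEq.respectTransparency false
set_option linter.style.haveILetI false
set_option maxHeartbeats 1000000

universe u

open CategoryTheory CategoryTheory.Limits AlgebraicGeometry TopologicalSpace Opposite MonoidalCategory
open Groth.Agent.PullbackMod Groth.Agent.DevLib Groth.Agent.QCohLib Groth.Agent.DCohLib
open Groth.Agent.ParaFLib Groth.Agent.DegDevLib Groth.Agent.VBLib.DualDeg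
open scoped TensorProduct

noncomputable section

namespace Groth.Agent.HodgePnLib

local instance hasHF' {X : Scheme.{u}} (M : X.Modules) : ModSite.HasSheafHom (O := X.sheaf) M :=
  ModTensor.hasSheafHom (O := X.sheaf) M

variable {X : Scheme.{u}}

/-- The wedge pairing identifies a bundle of rank two with its dual twisted by the determinant. -/
theorem nonempty_dual_two {E L : X.Modules} (hE : FlatMod.IsFinLocFreeOfRank 2 E) (hL : ExtPow.IsExtPow 2 E L) :
    Nonempty (E ≅ tmod L (dd E)) := by
  classical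
  obtain ⟨φ, hc⟩ : ∃ φ : ExtIso 2 E L, Compat φ := hL
  obtain ⟨P, hP⟩ := exists_wedgePairing φ hc
  haveI := LocFreeHomLib.isIso_alpha E (KVb.isFinLocFree_of_rank hE) L
  let adj := ModSite.sheafHomAdj (O := X.sheaf) E
  let a : E ⟶ (StalkHomLib.hF E).obj L := adj.homEquiv E L P.lift
  suffices IsIso a from ⟨asIso a ≪≫ (asIso (LocFreeHomLib.alpha E L)).symm⟩
  refine (isIso_iff_stalk _).2 fun x => ?_
  let R := X.presheaf.stalk x
  let th := StalkHomLib.theta E L x
  have hth : Function.Bijective th := LocFreeHomLib.theta_bijective_flf E (KVb.isFinLocFree_of_rank hE) L x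
  let β : E.presheaf.stalk x → (E.presheaf.stalk x →ₗ[R] L.presheaf.stalk x) := fun z => th (stalkLin a x z)
  have hβ : ∀ z w, β z w = stalkLin P.lift x (stalkTensor x E E (z ⊗ₜ w)) := fun z w => by
    show StalkHomLib.theta E L x (stalkLin a x z) w = _
    rw [StalkHomLib.theta_transpose]
    exact congrArg (fun g => stalkLin g x _) ((adj.homEquiv E L).symm_apply_apply P.lift)
  obtain ⟨_, ⟨V : X.Opens, hV, rfl⟩, hxV, -⟩ :=
    X.isBasis_affineOpens.exists_subset_of_mem_open (Set.mem_univ x) isOpen_univ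
  obtain ⟨U, f₀, hxU, -, hf₀⟩ := exists_frame hE (Set.finite_singleton x) hV (Set.singleton_subset_iff.2 hxV)
  obtain ⟨_, ⟨D : X.Opens, hD, rfl⟩, hx, hDU⟩ := X.isBasis_affineOpens.exists_subset_of_mem_open (hxU rfl) U.2
  let f : Fin 2 → Γ(E, D) := fun i => E.presheaf.map (homOfLE hDU).op (f₀ i)
  have hf : IsFrame D f := hf₀.res hDU
  have hω := (gen_wsec φ hc (V := ⟨D, hD⟩) hf).bijective_germ x hx
  let g : Fin 2 → E.presheaf.stalk x := fun i => E.presheaf.germ D x hx (f i)
  let ω : L.presheaf.stalk x := L.presheaf.germ D x hx (wsec φ ⟨D, hD⟩ f)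
  have hgg : ∀ i j, β (g i) (g j) = L.presheaf.germ D x hx (wsec φ ⟨D, hD⟩ ![f i, f j]) := fun i j => by
    rw [hβ]
    show stalkLin P.lift x (stalkTensorHom x _) = _
    rw [stalkTensorHom_tmul, P.lift_germ, ← hP ⟨D, hD⟩]
  have hff : (![f 0, f 1] : Fin 2 → Γ(E, D)) = f := by funext i; fin_cases i <;> rfl
  have h01 : β (g 0) (g 1) = ω := by rw [hgg, hff]
  have hii : ∀ i, β (g i) (g i) = 0 := fun i => by
    rw [hgg]
    refine (congrArg _ ((congrArg (φ ⟨D, hD⟩).symm ?_).trans (map_zero (φ ⟨D, hD⟩).symm))).trans (map_zero _)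
    exact (exteriorPower.ιMulti Γ(X, D) 2).map_eq_zero_of_eq _ (i := 0) (j := 1) (by simp) (by simp)
  have h10 : β (g 1) (g 0) = -ω := by
    rw [hgg]
    have hs : (![f 1, f 0] : Fin 2 → Γ(E, D)) = f ∘ Equiv.swap 0 1 := by funext i; fin_cases i <;> rfl
    rw [hs]
    refine (congrArg _ ((congrArg (φ ⟨D, hD⟩).symm ?_).trans (map_neg (φ ⟨D, hD⟩).symm _))).trans (map_neg _ _)
    exact AlternatingMap.map_swap _ _ (by decide)
  have hlin : ∀ (r : Fin 2 → R) w, β (∑ i, r i • g i) w = ∑ i, r i • β (g i) w := fun r w => by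
    show th (stalkLin a x (∑ i, r i • g i)) w = ∑ i, r i • th (stalkLin a x (g i)) w
    simp [map_sum, LinearMap.sum_apply]
  have hB : Function.Bijective β := by
    constructor
    · intro z z' hzz
      obtain ⟨r, rfl⟩ := (hf x hx).2 z
      obtain ⟨r', rfl⟩ := (hf x hx).2 z'
      simp only [Fintype.linearCombination_apply] at hzz ⊢
      have key := fun j => LinearMap.congr_fun hzz (g j)
      simp only [g] at hlin key h01 h10 hii
      have k1 := key 1
      have k0 := key 0
      rw [hlin, hlin, Fin.sum_univ_two, Fin.sum_univ_two, hii, h01] at k1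
      rw [hlin, hlin, Fin.sum_univ_two, Fin.sum_univ_two, hii, h10] at k0
      simp only [smul_zero, zero_add, add_zero, smul_neg, neg_inj] at k1 k0
      have e0 : r 0 = r' 0 := hω.1 k1
      have e1 : r 1 = r' 1 := hω.1 k0
      rw [Fin.sum_univ_two, Fin.sum_univ_two, e0, e1]
    · intro l
      obtain ⟨p, hp⟩ := hω.2 (l (g 1))
      obtain ⟨q, hq⟩ := hω.2 (l (g 0))
      change p • ω = _ at hp
      change q • ω = _ at hq
      refine ⟨∑ i, ![p, -q] i • g i, LinearMap.ext fun w => ?_⟩
      obtain ⟨r, rfl⟩ := (hf x hx).2 w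
      simp only [Fintype.linearCombination_apply, map_sum, map_smul]
      refine Finset.sum_congr rfl fun j _ => congrArg (r j • ·) ?_
      show β _ (g j) = l (g j)
      rw [hlin, Fin.sum_univ_two]
      fin_cases j
      · simp [h10, hii, hq]
      · simp [h01, hii, hp]
  exact (Function.Bijective.of_comp_iff' hth (stalkLin a x)).1 hB

end Groth.Agent.HodgePnLib
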