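import Groth.Agent.SFFLib.Main
import Groth.Agent.GrassShLib.Props
import Groth.Agent.PBundleLib.Atlas
import Groth.Agent.OmegaUnivLib.Univ
import Groth.Agent.KVbLib.Lam
import Groth.Agent.ExtPowLib.Unique
import Groth.Agent.CMRegLib.Seq
import Groth.Agent.DCohMore.DescFPPF
import Groth.Agent.DCohLib.ProjPerf
import Groth.Agent.DCohLib.SPerf
import Groth.Agent.CompleteCurve.ProjSpace
import Groth.Agent.S4471
import Groth.Agent.S15539

/-!
# The Euler sequence of projective space over a ring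
-/

set_option autoImplicit false
set_option backward.isDefEq.respectTransparency false
set_option linter.style.haveILetI false
set_option maxHeartbeats 1000000

universe u

open CategoryTheory CategoryTheory.Limits AlgebraicGeometry

noncomputable section

namespace Groth.Agent.HodgePnLib

variable (n : ℕ) (A : Type u) [CommRing A]

local notation "PS" => CohB1.ProjSpace n A
local notation "str" => CohB1.ProjSpace.toSpec n A
local notation "Y" => Spec (CommRingCat.of A)

/-- Projective space over a ring is projective space over its spectrum. -/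
theorem exists_iso_PY : ∃ ε : PS ⟶ KRR.PY n Y, IsIso ε ∧ ε ≫ KRR.pr n Y = str ∧
    Nonempty ((Scheme.Modules.pullback ε).obj (Twist.twistOver n Y 1) ≅ Twist.twistProjSpace n A 1) := by
  letI : Algebra (ULift.{u} ℤ) A :=
    ((Int.castRingHom A).comp (ULift.ringEquiv : ULift.{u} ℤ ≃+* ℤ).toRingHom).toAlgebra
  obtain ⟨g, hg', ⟨τ⟩⟩ := S4471.exists_bc n (ULift.{u} ℤ) A 1
  have hg : IsPullback g str (CohB1.ProjSpace.toSpec n (ULift.{u} ℤ)) (specULiftZIsTerminal.from Y) := by
    rw [show specULiftZIsTerminal.from Y =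
      Spec.map (CommRingCat.ofHom (algebraMap (ULift.{u} ℤ) A)) from specULiftZIsTerminal.hom_ext _ _]
    exact hg'
  let ε : PS ⟶ KRR.PY n Y := ProjMap.liftOver g str
  have h1 : ε ≫ ProjMap.toInt Y n = g := ProjMap.liftOver_toInt _ _
  have h2 : ε ≫ CohB1.ProjSpaceOver.toBase n Y = str := ProjMap.liftOver_toBase _ _
  have hε : ε = hg.isoPullback.hom := by
    apply pullback.hom_ext
    · exact h1.trans (IsPullback.isoPullback_hom_fst _).symm
    · exact h2.trans (IsPullback.isoPullback_hom_snd _).symm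
  refine ⟨ε, by rw [hε]; infer_instance, h2, ⟨?_⟩⟩
  exact (Scheme.Modules.pullbackComp ε (ProjMap.toInt Y n)).app _ ≪≫
    (Scheme.Modules.pullbackCongr h1).app _ ≪≫ τ

/-- The Euler sequence. -/
theorem exists_euler_ses : ∃ S : ShortComplex (PS).Modules, S.ShortExact ∧
    Nonempty (S.X₁ ≅ CohB1.tensorMod (Omega.sheaf str) (Twist.twistProjSpace n A 1)) ∧
    Nonempty (S.X₂ ≅ FlatMod.freeMod PS (n + 1)) ∧ Nonempty (S.X₃ ≅ Twist.twistProjSpace n A 1) := by
  let E := FlatMod.freeMod Y (n + 1)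
  have hE : FlatMod.IsFinLocFree E := DCohLib.isFinLocFree_freeMod _
  haveI := (PullbackMod.isQCoh_and_isFP_of_isFinLocFree _ hE).1
  obtain ⟨Q, p, OQ, φ, ⟨D⟩⟩ := ProjBundleLib.exists_bundle (inferInstance : Coh.IsQCoh E)
  obtain ⟨t⟩ := PBundleLib.nonempty_free_tilde n (CommRingCat.of A)
  obtain ⟨β⟩ := PBundleLib.exists_basis_top n (CommRingCat.of A) t
  obtain ⟨i, hi, ⟨ei⟩⟩ := PBundleLib.exists_iso_projSpace D β
  obtain ⟨ε, hεi, hε, ⟨eε⟩⟩ := exists_iso_PY n A
  haveI := hεi
  let j : PS ⟶ Q := ε ≫ i.inv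
  have hj : j ≫ p = str := by
    rw [Category.assoc, ← hi, Iso.inv_hom_id_assoc]; exact hε
  let eO : (Scheme.Modules.pullback j).obj OQ ≅ Twist.twistProjSpace n A 1 :=
    (Scheme.Modules.pullbackComp ε i.inv).symm.app OQ ≪≫ (Scheme.Modules.pullback ε).mapIso
      ((Scheme.Modules.pullback i.inv).mapIso ei.symm ≪≫
        (Scheme.Modules.pullbackComp i.inv i.hom).app _ ≪≫ (Scheme.Modules.pullbackCongr i.inv_hom_id).app _ ≪≫
        (Scheme.Modules.pullbackId _).app _) ≪≫ eε
  haveI : IsSeparated p := D.isSeparated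
  haveI : IsProper str := inferInstance
  have hPB := PBundleLib.isProjBundle_of_pdata D
  obtain ⟨eK⟩ := SFFLib.nonempty_iso (Grass.isGrass_one_iff.2 hPB) (OmegaUnivLib.isUniversal_dOmega p) hE
  -- the differentials along the isomorphism
  have hsq : IsPullback j str p (𝟙 Y) := IsPullback.of_horiz_isIso ⟨by rw [Category.comp_id]; exact hj⟩
  have hΩ := S15539.result Q Y PS Y p str j (𝟙 Y) hsq 1 (Omega.sheaf p) (KVb.isExtPow_one _)
  obtain ⟨eΩ⟩ := ExtPowLib.nonempty_iso (KVb.isExtPow_one (Omega.sheaf str)) hΩ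
  haveI := hPB.epi
  let u := PBundleLib.univQ φ
  haveI : Epi u := hPB.epi
  let F := Scheme.Modules.pullback j
  haveI : PreservesFiniteLimits F := DCohMore.preservesFiniteLimits_pullback_of_flat j
  refine ⟨(ShortComplex.mk (kernel.ι u) u (kernel.condition u)).map F,
    (CMRegLib.shortExact_ker u).map_of_exact F, ⟨?_⟩, ⟨?_⟩, ⟨eO⟩⟩
  · exact F.mapIso eK.symm ≪≫ AmpleLib.pullTensor j _ _ ≪≫ AmpleLib.tIso eΩ.symm eO
  · exact F.mapIso (DCohLib.pullFreeIso p (n + 1)) ≪≫ DCohLib.pullFreeIso j (n + 1)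

end Groth.Agent.HodgePnLib
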