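import Groth.Agent.ExtSeqLib.Class
import Groth.Agent.ExtPowLib.Exist
import Groth.Agent.ExtPowLib.Unique
import Groth.Agent.FundLocIsoLib.DetSes
import Groth.Agent.KVbLib.Lam
import Groth.Agent.SeesawVB.TrivFibres

/-!
# Exterior powers of an extension by a line bundle

For `0 → K → E → Q → 0` with `Q` invertible, `0 → ⋀^{j+1}K → ⋀^{j+1}E → ⋀^j K ⊗ Q → 0` is exact.
-/

set_option autoImplicit false
set_option backward.isDefEq.respectTransparency false
set_option linter.style.haveILetI false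
set_option linter.unusedSectionVars false
set_option maxHeartbeats 1000000

universe u

open CategoryTheory CategoryTheory.Limits AlgebraicGeometry TopologicalSpace Opposite
open Groth.Agent.PullbackMod Groth.Agent.DCohLib
open scoped TensorProduct

noncomputable section

namespace Groth.Agent.HodgePnLib

variable {X : Scheme.{u}}

theorem exists_frame_one {L : X.Modules} (hL : PicF.IsInvertible L) (x : X) :
    ∃ (U : X.Opens) (s : Fin 1 → Γ(L, U)), x ∈ U ∧ DegDevLib.IsFrame U s := by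
  obtain ⟨U, n, s, hx, hs⟩ := SeesawVB.exists_frame_at (CurveLib.isFinLocFree_of_isInvertible hL) x
  obtain rfl : n = 1 := freeAt_unique _ (SeesawVB.freeAt_of_frame hs hx) (CurveLib.freeAt_one_of_isInvertible hL x)
  exact ⟨U, s, hx, hs⟩

theorem subsingleton_tmod_stalk {A B : X.Modules} (x : X) [Subsingleton (B.presheaf.stalk x)] :
    Subsingleton ((tmod A B).presheaf.stalk x) := by
  refine subsingleton_of_forall_eq 0 fun v => ?_
  obtain ⟨v, rfl⟩ := (stalkTensor x A B).surjective v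
  rw [show v = 0 from Subsingleton.elim _ _, map_zero]

/-- The sequence of exterior powers of an extension by a line bundle. -/
theorem exists_extPow_ses {S : ShortComplex X.Modules} (hS : S.ShortExact) (h₁ : FlatMod.IsFinLocFree S.X₁)
    (h₂ : FlatMod.IsFinLocFree S.X₂) (h₃ : PicF.IsInvertible S.X₃) (j : ℕ) {A B C : X.Modules}
    (hA : ExtPow.IsExtPow (j + 1) S.X₁ A) (hB : ExtPow.IsExtPow (j + 1) S.X₂ B) (hC : ExtPow.IsExtPow j S.X₁ C) :
    ∃ T : ShortComplex X.Modules, T.ShortExact ∧ Nonempty (T.X₁ ≅ A) ∧ Nonempty (T.X₂ ≅ B) ∧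
      Nonempty (T.X₃ ≅ CohB1.tensorMod C S.X₃) := by
  have h₃' := CurveLib.isFinLocFree_of_isInvertible h₃
  haveI := (PullbackMod.isQCoh_and_isFP_of_isFinLocFree _ h₁).1
  haveI := (PullbackMod.isQCoh_and_isFP_of_isFinLocFree _ h₂).1
  haveI := (PullbackMod.isQCoh_and_isFP_of_isFinLocFree _ h₃').1
  let D : ExtSeq.Data X :=
    { S := S, hS := hS, h₁ := h₁, h₂ := h₂, h₃ := h₃'
      L' := fun i => (ExtPowLib.exists_isExtPow S.X₁ i).choose
      L := fun i => (ExtPowLib.exists_isExtPow S.X₂ i).choose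
      L'' := fun i => (ExtPowLib.exists_isExtPow S.X₃ i).choose
      d' := fun i => (ExtSeq.nonempty_EP (ExtPowLib.exists_isExtPow S.X₁ i).choose_spec.2).some
      d := fun i => (ExtSeq.nonempty_EP (ExtPowLib.exists_isExtPow S.X₂ i).choose_spec.2).some
      d'' := fun i => (ExtSeq.nonempty_EP (ExtPowLib.exists_isExtPow S.X₃ i).choose_spec.2).some }
  -- the products are onto
  have hsurj : ∀ (p : ℕ), p ≤ j → ∀ (k : ℕ) (h : p + k = j + 1) (x : X),
      Function.Surjective (stalkLin (D.m h) x) := by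
    intro p
    induction p with
    | zero =>
      intro _ k h x
      obtain rfl : k = j + 1 := by omega
      exact ExtSeq.surjective_m_zero D x h
    | succ p ih =>
      intro hp k h x z
      obtain ⟨w, rfl⟩ := ih (by omega) (k + 1) (by omega) x z
      haveI : Subsingleton ((D.L'' (k + 1)).presheaf.stalk x) :=
        FundLocIsoLib.subsingleton_extPow_stalk (a := 1) (i := k + 1) (by omega) (D.d'' _) (exists_frame_one h₃) x
      haveI := subsingleton_tmod_stalk (A := D.L' p) (B := D.L'' (k + 1)) x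
      obtain ⟨z', hz'⟩ := ExtSeq.exists_of_a_eq_zero D x (p := p) (k := k) (n := j + 1) (by omega) h
        (z := w) (Subsingleton.elim _ _)
      exact ⟨z', hz'.symm⟩
  have hn : j + (0 + 1) = j + 1 := rfl
  have hn' : j + 1 + 0 = j + 1 := rfl
  haveI : Epi (D.m hn) := (epi_iff_stalk _).2 fun x => hsurj j le_rfl (0 + 1) hn x
  haveI : Epi (image.ι (D.m hn)) := epi_of_epi_fac (image.fac (D.m hn))
  haveI : IsIso (image.ι (D.m hn)) := isIso_of_mono_of_epi _
  obtain ⟨q₀, hq₀⟩ := D.exists_qbar hn'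
  haveI : IsIso q₀ := by
    refine (isIso_iff_stalk q₀).2 fun x => ⟨(injective_iff_map_eq_zero _).2 fun w hw => ?_, fun z => ?_⟩
    · obtain ⟨z, rfl⟩ := (epi_iff_stalk (factorThruImage (D.m hn'))).1 inferInstance x w
      rw [← ExtSeq.stalkLin_comp_apply, hq₀] at hw
      rw [ExtSeq.injective_a_zero D x (j + 1) (hw.trans (map_zero _).symm), map_zero]
    · obtain ⟨w, rfl⟩ := ExtSeq.surjective_a D x (j + 1) 0 z
      exact ⟨stalkLin (factorThruImage (D.m hn')) x w, by rw [← ExtSeq.stalkLin_comp_apply, hq₀]⟩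
  obtain ⟨q, hq⟩ := D.exists_qbar hn
  have hzero : image.ι (D.m hn') ≫ cokernel.π (image.ι (D.m hn)) = 0 := by
    rw [cokernel.π_of_epi, comp_zero]
  let i : image (D.m hn') ⟶ image (D.m hn) := image.ι (D.m hn') ≫ inv (image.ι (D.m hn))
  have hi : i ≫ image.ι (D.m hn) = image.ι (D.m hn') := by simp [i]
  haveI : Mono i := mono_of_mono_fac hi
  have hcomp : ∀ (x : X) (z : (tmod (D.L' j) (D.L (0 + 1))).presheaf.stalk x)
      (z' : (tmod (D.L' (j + 1)) (D.L 0)).presheaf.stalk x), stalkLin (D.m hn) x z = stalkLin (D.m hn') x z' →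
      stalkLin i x (stalkLin (factorThruImage (D.m hn')) x z') = stalkLin (factorThruImage (D.m hn)) x z := by
    intro x z z' h
    refine (mono_iff_stalk (image.ι (D.m hn))).1 inferInstance x ?_
    rw [← ExtSeq.stalkLin_comp_apply, hi, ← ExtSeq.stalkLin_comp_apply, image.fac,
      ← ExtSeq.stalkLin_comp_apply, image.fac, h]
  have hiq : i ≫ q = 0 := (eq_zero_iff_stalk _).2 fun x => LinearMap.ext fun w => by
    obtain ⟨z', rfl⟩ := (epi_iff_stalk (factorThruImage (D.m hn'))).1 inferInstance x w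
    obtain ⟨z, hz⟩ := ExtSeq.exists_m_eq D x hn hn' z'
    rw [ExtSeq.stalkLin_comp_apply, hcomp x z z' hz, ← ExtSeq.stalkLin_comp_apply, hq, LinearMap.zero_apply]
    exact ExtSeq.a_eq_zero_succ D x hn hn' hz
  let T := ShortComplex.mk i q hiq
  have hT : T.ShortExact :=
    { exact := HilbObsLib.exact_of_stalk fun x w hw => by
        obtain ⟨z, rfl⟩ := (epi_iff_stalk (factorThruImage (D.m hn))).1 inferInstance x w
        have hz : stalkLin (D.a j (0 + 1)) x z = 0 := by
          rw [← hq, ExtSeq.stalkLin_comp_apply]; exact hw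
        obtain ⟨z', hz'⟩ := ExtSeq.exists_of_a_eq_zero D x hn hn' hz
        exact ⟨stalkLin (factorThruImage (D.m hn')) x z', hcomp x z z' hz'⟩
      mono_f := inferInstanceAs (Mono i)
      epi_g := (epi_iff_stalk q).2 fun x z => by
        obtain ⟨w, rfl⟩ := ExtSeq.surjective_a D x j (0 + 1) z
        exact ⟨stalkLin (factorThruImage (D.m hn)) x w, by rw [← ExtSeq.stalkLin_comp_apply, hq]⟩ }
  obtain ⟨eA⟩ := ExtPowLib.nonempty_iso hA (ExtPowLib.exists_isExtPow S.X₁ (j + 1)).choose_spec.2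
  obtain ⟨eB⟩ := ExtPowLib.nonempty_iso hB (ExtPowLib.exists_isExtPow S.X₂ (j + 1)).choose_spec.2
  obtain ⟨eC⟩ := ExtPowLib.nonempty_iso hC (ExtPowLib.exists_isExtPow S.X₁ j).choose_spec.2
  obtain ⟨e0⟩ := ExtPowLib.nonempty_iso (KVb.isExtPow_zero S.X₃) (ExtPowLib.exists_isExtPow S.X₃ 0).choose_spec.2
  obtain ⟨e1⟩ := ExtPowLib.nonempty_iso (KVb.isExtPow_one S.X₃) (ExtPowLib.exists_isExtPow S.X₃ 1).choose_spec.2
  refine ⟨T, hT, ⟨?_⟩, ⟨?_⟩, ⟨?_⟩⟩
  · exact asIso q₀ ≪≫ AmpleLib.tIso eA.symm e0.symm ≪≫ AmpleLib.unitR A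
  · exact asIso (image.ι (D.m hn)) ≪≫ eB.symm
  · exact AmpleLib.tIso eC.symm e1.symm

end Groth.Agent.HodgePnLib
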