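import Groth.Agent.ExtSeqLib.Bilin
import Groth.Agent.ExtPowLib.Exist
import Groth.Agent.KVbLib.PullExt
import Groth.Agent.FlatLocus.FreeNhd
import Groth.Agent.PBundleLib.Atlas
import Groth.Agent.DCohLib.ProjPerf
import Groth.Agent.DCohLib.Restrict
import Mathlib.LinearAlgebra.ExteriorPower.Basis

/-!
# Exterior powers of a trivial bundle are trivial
-/

set_option autoImplicit false
set_option backward.isDefEq.respectTransparency false
set_option linter.style.haveILetI false

universe u

open CategoryTheory CategoryTheory.Limits AlgebraicGeometry TopologicalSpace Opposite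
open Groth.Agent.PullbackMod Groth.Agent.DCohLib

noncomputable section

namespace Groth.Agent.HodgePnLib

/-- A quasi-coherent module on an affine scheme with a basis of global sections is free. -/
theorem nonempty_iso_free_top {X : Scheme.{u}} [IsAffine X] (M : X.Modules) [Coh.IsQCoh M] {N : ℕ}
    (b : Module.Basis (Fin N) Γ(X, ⊤) Γ(M, ⊤)) : Nonempty (M ≅ FlatMod.freeMod X N) := by
  obtain ⟨e⟩ := FlatLocus.nonempty_iso_freeMod M (isAffineOpen_top X) N b.equivFun
  let j := X.topIso.inv
  have hj : 𝟙 X = j ≫ (⊤ : X.Opens).ι := X.topIso.inv_hom_id.symm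
  let F := Scheme.Modules.pullback j
  exact ⟨(Scheme.Modules.pullbackId X).symm.app M ≪≫
    (Scheme.Modules.pullbackCongr hj).app M ≪≫
    ((Scheme.Modules.pullbackComp j (⊤ : X.Opens).ι).symm.app M) ≪≫
    F.mapIso ((AmpleLib.restrictIso (⊤ : X.Opens).ι M).symm ≪≫ e) ≪≫ DCohLib.pullFreeIso j N⟩

/-- The exterior powers of a trivial bundle over a spectrum. -/
theorem exists_extPow_free_spec (R : CommRingCat.{u}) (m j : ℕ) :
    ExtPow.IsExtPow j (FlatMod.freeMod (Spec R) (m + 1)) (FlatMod.freeMod (Spec R) ((m + 1).choose j)) := by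
  classical
  haveI := (isQCoh_and_isFP_of_isFinLocFree _ (DCohLib.isFinLocFree_freeMod (Y := Spec R) (m + 1))).1
  obtain ⟨L, hq, hL⟩ := ExtPowLib.exists_isExtPow (FlatMod.freeMod (Spec R) (m + 1)) j
  haveI := hq
  obtain ⟨t⟩ := PBundleLib.nonempty_free_tilde m R
  obtain ⟨b⟩ := PBundleLib.exists_basis_top m R t
  obtain ⟨d⟩ := ExtSeq.nonempty_EP hL
  let b' := (b.exteriorPower j).map (d.φ ⟨⊤, isAffineOpen_top _⟩).symm
  have hc : Nat.card (Set.powersetCard (Fin (m + 1)) j) = (m + 1).choose j := by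
    rw [Set.powersetCard.card, Nat.card_fin]
  obtain ⟨e⟩ := nonempty_iso_free_top L (b'.reindex (Finite.equivFinOfCardEq hc))
  exact KVb.isExtPow_iso (Iso.refl _) e hL

/-- The exterior powers of a trivial bundle, over a scheme over a spectrum. -/
theorem exists_extPow_free {X : Scheme.{u}} {R : CommRingCat.{u}} (f : X ⟶ Spec R) (m j : ℕ) :
    ExtPow.IsExtPow j (FlatMod.freeMod X (m + 1)) (FlatMod.freeMod X ((m + 1).choose j)) := by
  haveI := (isQCoh_and_isFP_of_isFinLocFree _ (DCohLib.isFinLocFree_freeMod (Y := Spec R) (m + 1))).1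
  exact KVb.isExtPow_iso (DCohLib.pullFreeIso f (m + 1)) (DCohLib.pullFreeIso f _)
    (KVb.isExtPow_pullback f (exists_extPow_free_spec R m j))

end Groth.Agent.HodgePnLib
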