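import Groth.Agent.HodgePnLib.Coh
import Groth.Agent.CurveLib.MaxSections
import Groth.Agent.CurveLib.SmulPow
import Mathlib.LinearAlgebra.FiniteDimensional.Lemmas

/-!
# Maps out of trivial bundles and epimorphisms from them
-/

set_option autoImplicit false
set_option backward.isDefEq.respectTransparency false
set_option linter.style.haveILetI false
set_option linter.unusedSectionVars false

universe u

open CategoryTheory CategoryTheory.Limits AlgebraicGeometry TopologicalSpace Opposite

noncomputable section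

namespace Groth.Agent.HodgePnLib

variable {k : Type u} [Field k] {X : Scheme.{u}} [X.Over (Spec (CommRingCat.of k))]
  [IsProper (X ↘ Spec (CommRingCat.of k))]

local notation "O" => Coh.structureModule X

/-- The class of the constant function one. -/
def one₀ : Coh.HH X O 0 := (CurveLib.secOf O).symm (1 : Γ(X, ⊤))

/-- The value of a map out of `O`. -/
theorem hMap_one₀ {M : X.Modules} (f : O ⟶ M) :
    CurveLib.hMap (k := k) f 0 one₀ = (CurveLib.secOf M).symm (AmpleLib.sec f) := by
  refine (CurveLib.secOf M).injective ?_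
  rw [CurveLib.secOf_hMap, AddEquiv.apply_symm_apply]
  exact congrArg (f.app ⊤) ((CurveLib.secOf O).apply_symm_apply _)

/-- The values of a map out of a trivial bundle. -/
def ev {N : ℕ} {M : X.Modules} (f : FlatMod.freeMod X N ⟶ M) (l : Fin N) : Coh.HH X M 0 :=
  CurveLib.hMap (k := k) (Sigma.ι (fun _ : Fin N => O) l ≫ f) 0 one₀

/-- The map out of a trivial bundle with given values. -/
def ofVals {N : ℕ} {M : X.Modules} (v : Fin N → Coh.HH X M 0) : FlatMod.freeMod X N ⟶ M :=
  Sigma.desc fun l => DCohLib.secHom M (CurveLib.secOf M (v l))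

theorem ev_ofVals {N : ℕ} {M : X.Modules} (v : Fin N → Coh.HH X M 0) (l : Fin N) :
    ev (k := k) (ofVals v) l = v l := by
  rw [ev, ofVals, Sigma.ι_desc, hMap_one₀, AmpleLib.sec_secHom, AddEquiv.symm_apply_apply]

theorem ext_ev {N : ℕ} {M : X.Modules} {f g : FlatMod.freeMod X N ⟶ M}
    (h : ∀ l, ev (k := k) f l = ev (k := k) g l) : f = g := by
  refine Sigma.hom_ext _ _ fun l => ?_
  have := h l
  rw [ev, ev, hMap_one₀, hMap_one₀] at this
  rw [← AmpleLib.secHom_sec (Sigma.ι (fun _ : Fin N => O) l ≫ f),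
    ← AmpleLib.secHom_sec (Sigma.ι (fun _ : Fin N => O) l ≫ g), (CurveLib.secOf M).symm.injective this]

/-- The standard classes. -/
def std (N : ℕ) (l : Fin N) : Coh.HH X (FlatMod.freeMod X N) 0 := ev (k := k) (𝟙 (FlatMod.freeMod X N)) l

theorem hMap_std {N : ℕ} {M : X.Modules} (f : FlatMod.freeMod X N ⟶ M) (l : Fin N) :
    CurveLib.hMap (k := k) f 0 (std (k := k) N l) = ev (k := k) f l := by
  rw [std, ev, ev, ← hMap_comp, Category.comp_id]

theorem ext_H0 {N : ℕ} {M : X.Modules} {f g : FlatMod.freeMod X N ⟶ M}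
    (h : CurveLib.hMap (k := k) f 0 = CurveLib.hMap (k := k) g 0) : f = g :=
  ext_ev (k := k) fun l => by rw [← hMap_std, ← hMap_std, h]

variable (hO : Module.finrank k (Coh.HH X (Coh.structureModule X) 0) = 1)

include hO

theorem one₀_ne_zero : (one₀ : Coh.HH X O 0) ≠ 0 := by
  intro h
  have h1 : (1 : Γ(X, ⊤)) = 0 := by
    have := congrArg (CurveLib.secOf O) h
    rwa [one₀, AddEquiv.apply_symm_apply, map_zero] at this
  haveI : Subsingleton Γ(X, ⊤) := subsingleton_of_zero_eq_one h1.symm
  haveI : Subsingleton (Coh.HH X O 0) :=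
    (CurveLib.secOf O).toEquiv.subsingleton_congr.2 (inferInstanceAs (Subsingleton Γ(X, ⊤)))
  rw [Module.finrank_zero_of_subsingleton] at hO
  omega

/-- The standard classes span. -/
theorem span_std (N : ℕ) : Submodule.span k (Set.range (std (k := k) (X := X) N)) = ⊤ := by
  classical
  let p : Fin N → (FlatMod.freeMod X N ⟶ O) := fun j => Sigma.desc fun l => if l = j then 𝟙 _ else 0
  have htot : ∑ j, p j ≫ Sigma.ι (fun _ : Fin N => O) j = 𝟙 _ := by
    refine Sigma.hom_ext _ _ fun l => ?_
    simp [p, Preadditive.comp_sum, ite_comp]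
  refine eq_top_iff.2 fun z _ => ?_
  rw [← hMap_id k _ 0 z, ← htot, hMap_sum]
  refine Submodule.sum_mem _ fun j _ => ?_
  obtain ⟨r, hr⟩ := exists_smul_eq_of_finrank_eq_one hO (one₀_ne_zero hO)
    (CurveLib.hMap (k := k) (p j) 0 z)
  rw [hMap_comp, ← hr, map_smul]
  refine Submodule.smul_mem _ r (Submodule.subset_span ⟨j, ?_⟩)
  rw [std, ev, Category.comp_id]

theorem finrank_free (N : ℕ) : Module.finrank k (Coh.HH X (FlatMod.freeMod X N) 0) = N := by
  haveI : Module.Finite k (Coh.HH X O 0) := Module.finite_of_finrank_eq_succ hO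
  obtain ⟨e⟩ := nonempty_sigma_equiv k (fun _ : Fin N => O) 0
  refine e.finrank_eq.trans ?_
  rw [Module.finrank_pi_fintype, Finset.sum_const, Finset.card_univ, Fintype.card_fin, smul_eq_mul, hO, mul_one]

theorem finite_free (N : ℕ) : Module.Finite k (Coh.HH X (FlatMod.freeMod X N) 0) :=
  by
  classical
  exact Module.Finite.of_fg_top ⟨(Finset.univ.image (std (k := k) N)), by
    rw [Finset.coe_image, Finset.coe_univ, Set.image_univ, span_std hO]⟩

theorem exists_lift {N : ℕ} {M : X.Modules} (φ : Coh.HH X (FlatMod.freeMod X N) 0 →ₗ[k] Coh.HH X M 0) :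
    ∃ f : FlatMod.freeMod X N ⟶ M, CurveLib.hMap (k := k) f 0 = φ := by
  refine ⟨ofVals fun l => φ (std (k := k) N l), LinearMap.ext_on_range (span_std hO N) fun l => ?_⟩
  rw [hMap_std, ev_ofVals]

/-- The kernel of an epimorphism from a trivial bundle that is onto on global sections. -/
theorem nonempty_kernel_iso {N M P : ℕ} {L : X.Modules} (hNM : N = M + P) (q : FlatMod.freeMod X N ⟶ L)
    (hq : Function.Surjective (CurveLib.hMap (k := k) q 0)) (u : FlatMod.freeMod X M ⟶ L)
    (hu : Function.Bijective (CurveLib.hMap (k := k) u 0)) :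
    Nonempty (kernel q ≅ kernel u ⊞ FlatMod.freeMod X P) := by
  haveI := finite_free (k := k) hO N
  haveI := finite_free (k := k) hO P
  let eu := LinearEquiv.ofBijective (CurveLib.hMap (k := k) u 0) hu
  let q₀ := CurveLib.hMap (k := k) q 0
  obtain ⟨σ, hσ⟩ := q₀.exists_rightInverse_of_surjective (LinearMap.range_eq_top.2 hq)
  obtain ⟨a, ha⟩ := exists_lift hO (eu.symm.toLinearMap.comp q₀)
  obtain ⟨b, hb⟩ := exists_lift hO (σ.comp eu.toLinearMap)
  have hker : Module.finrank k (LinearMap.ker q₀) = P := by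
    have h := q₀.finrank_range_add_finrank_ker
    rw [LinearMap.range_eq_top.2 hq, finrank_top, finrank_free hO, ← eu.finrank_eq, finrank_free hO] at h
    omega
  let ψ : Coh.HH X (FlatMod.freeMod X P) 0 ≃ₗ[k] LinearMap.ker q₀ :=
    LinearEquiv.ofFinrankEq _ _ ((finrank_free hO P).trans hker.symm)
  obtain ⟨c, hc⟩ := exists_lift hO ((LinearMap.ker q₀).subtype.comp ψ.toLinearMap)
  have hqσ : ∀ z, q₀ (σ z) = z := fun z => LinearMap.congr_fun hσ z
  let pr : Coh.HH X (FlatMod.freeMod X N) 0 →ₗ[k] LinearMap.ker q₀ :=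
    LinearMap.codRestrict _ (LinearMap.id - σ.comp q₀) fun z => by
      rw [LinearMap.mem_ker, LinearMap.sub_apply, map_sub, LinearMap.id_apply, LinearMap.comp_apply, hqσ, sub_self]
  obtain ⟨d, hd⟩ := exists_lift hO (ψ.symm.toLinearMap.comp pr)
  have hau : a ≫ u = q := ext_H0 (k := k) (LinearMap.ext fun z => by
    rw [hMap_comp, ha]; exact eu.apply_symm_apply (q₀ z))
  have hbq : b ≫ q = u := ext_H0 (k := k) (LinearMap.ext fun z => by
    rw [hMap_comp, hb]; exact hqσ _)
  have hcq : c ≫ q = 0 := ext_H0 (k := k) (LinearMap.ext fun z => by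
    rw [hMap_comp, hc, hMap_zero]; exact (ψ z).2)
  have hba : b ≫ a = 𝟙 _ := ext_H0 (k := k) (LinearMap.ext fun z => by
    rw [hMap_comp, hMap_id, ha, hb]
    exact (congrArg eu.symm (hqσ _)).trans (eu.symm_apply_apply z))
  have hca : c ≫ a = 0 := ext_H0 (k := k) (LinearMap.ext fun z => by
    rw [hMap_comp, hMap_zero, ha, hc]
    exact (congrArg eu.symm (ψ z).2).trans (map_zero eu.symm))
  have hbd : b ≫ d = 0 := ext_H0 (k := k) (LinearMap.ext fun z => by
    rw [hMap_comp, hMap_zero, hd, hb]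
    have : pr (σ (eu z)) = 0 := Subtype.ext (show σ (eu z) - σ (q₀ (σ (eu z))) = 0 by rw [hqσ, sub_self])
    exact (congrArg ψ.symm this).trans (map_zero ψ.symm))
  have hcd : c ≫ d = 𝟙 _ := ext_H0 (k := k) (LinearMap.ext fun z => by
    rw [hMap_comp, hMap_id, hd, hc]
    have : pr (ψ z).1 = ψ z := Subtype.ext (show (ψ z).1 - σ (q₀ (ψ z).1) = _ by
      rw [show q₀ (ψ z).1 = 0 from (ψ z).2, map_zero, sub_zero])
    exact (congrArg ψ.symm this).trans (ψ.symm_apply_apply z))
  have htot : a ≫ b + d ≫ c = 𝟙 _ := ext_H0 (k := k) (LinearMap.ext fun z => by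
    rw [hMap_add, hMap_comp, hMap_comp, hMap_id, ha, hb, hd, hc]
    show σ (eu (eu.symm (q₀ z))) + (ψ (ψ.symm (pr z))).1 = z
    rw [eu.apply_symm_apply, ψ.apply_symm_apply]
    exact add_sub_cancel _ _)
  refine ⟨{
    hom := biprod.lift (kernel.lift u (kernel.ι q ≫ a) (by rw [Category.assoc, hau, kernel.condition]))
      (kernel.ι q ≫ d)
    inv := biprod.desc (kernel.lift q (kernel.ι u ≫ b) (by rw [Category.assoc, hbq, kernel.condition]))
      (kernel.lift q c hcq)
    hom_inv_id := ?_
    inv_hom_id := ?_ }⟩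
  · refine (cancel_mono (kernel.ι q)).1 ?_
    simp only [biprod.lift_desc, Preadditive.add_comp, Category.assoc, kernel.lift_ι, kernel.lift_ι_assoc]
    rw [← Preadditive.comp_add, htot, Category.comp_id, Category.id_comp]
  · apply biprod.hom_ext' <;> apply biprod.hom_ext
    · refine (cancel_mono (kernel.ι u)).1 ?_
      simp [hba]
    · simp [hbd]
    · refine (cancel_mono (kernel.ι u)).1 ?_
      simp [hca]
    · simp [hcd]

end Groth.Agent.HodgePnLib
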