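import Groth.Agent.HodgePnLib.EndTriv
import Groth.Agent.ExtShLib.SeqF
import Groth.Agent.FundLocIsoLib.Main

/-!
# Homomorphisms as sections of the internal Hom
-/

set_option autoImplicit false
set_option backward.isDefEq.respectTransparency false
set_option linter.style.haveILetI false
set_option linter.unusedSectionVars false
set_option maxHeartbeats 1000000

universe u

open CategoryTheory CategoryTheory.Limits AlgebraicGeometry
open Groth.Agent.PullbackMod Groth.Agent.ParaFLib Groth.Agent.StalkHomLib
open scoped TensorProduct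

noncomputable section

namespace Groth.Agent.HodgePnLib

variable {X : Scheme.{u}}

local instance hasHFS (M : X.Modules) : ModSite.HasSheafHom (O := X.sheaf) M :=
  ModTensor.hasSheafHom (O := X.sheaf) M

/-- The homomorphism of a section of the internal Hom. -/
def ofSec {F N : X.Modules} (σ : Coh.structureModule X ⟶ (hF F).obj N) : F ⟶ N :=
  haveI := isIso_unitMap F
  inv (unitMap F) ≫ ((ModSite.sheafHomAdj (O := X.sheaf) F).homEquiv (Coh.structureModule X) N).symm σ

/-- The section of a homomorphism. -/
def toSec {F N : X.Modules} (φ : F ⟶ N) : Coh.structureModule X ⟶ (hF F).obj N :=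
  (ModSite.sheafHomAdj (O := X.sheaf) F).homEquiv (Coh.structureModule X) N (unitMap F ≫ φ)

theorem ofSec_stalk {F N : X.Modules} (σ : Coh.structureModule X ⟶ (hF F).obj N) (x : X) (f : F.presheaf.stalk x) :
    stalkLin (ofSec σ) x f = theta F N x (stalkLin σ x (oneG x)) f := by
  haveI := isIso_unitMap F
  rw [theta_transpose, ofSec, stalkLin_comp, LinearMap.comp_apply]
  refine congrArg _ ?_
  refine ((isIso_iff_stalk (unitMap F)).1 inferInstance x).1 ?_
  refine Eq.trans ?_ (unitMap_stalk F x f).symm
  rw [← LinearMap.comp_apply, ← stalkLin_comp, IsIso.inv_hom_id, stalkLin_id]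
  rfl

theorem ofSec_toSec {F N : X.Modules} (φ : F ⟶ N) : ofSec (toSec φ) = φ := by
  haveI := isIso_unitMap F
  rw [ofSec, toSec, Equiv.symm_apply_apply, IsIso.inv_hom_id_assoc]

theorem theta_toSec {F N : X.Modules} (φ : F ⟶ N) (x : X) (f : F.presheaf.stalk x) :
    theta F N x (stalkLin (toSec φ) x (oneG x)) f = stalkLin φ x f := by
  rw [← ofSec_stalk, ofSec_toSec]

/-- Maps out of the structure module are determined at the unit germs. -/
theorem eq_zero_of_oneG {M : X.Modules} (σ : Coh.structureModule X ⟶ M) (h : ∀ x, stalkLin σ x (oneG x) = 0) :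
    σ = 0 :=
  (eq_zero_iff_stalk _).2 fun x => LinearMap.ext fun z => by
    obtain ⟨a, rfl⟩ := (bijective_oneG x).2 z
    show stalkLin σ x (a • oneG x) = 0
    rw [map_smul, h, smul_zero]

theorem theta_hFMap' {F F' : X.Modules} (g : F' ⟶ F) (N : X.Modules) (x : X) (z : ((hF F).obj N).presheaf.stalk x)
    (f : F'.presheaf.stalk x) :
    theta F' N x (stalkLin ((ExtShLib.hFMap g).app N) x z) f = theta F N x z (stalkLin g x f) :=
  ExtShLib.theta_hFMap g N x z f

end Groth.Agent.HodgePnLib
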