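import Groth.Agent.ProjUPLib.SpecKer
import Groth.Agent.ProjTwist.Zero
import Groth.Agent.ZeroSchemeLib.Basic
import Groth.Agent.ConormalLib.Trans
import Groth.Agent.S7676

/-!
# Parametrisation of a hyperplane over the ground field
-/

set_option autoImplicit false
set_option backward.isDefEq.respectTransparency false
set_option linter.style.haveILetI false
set_option maxHeartbeats 1000000

universe u

open CategoryTheory CategoryTheory.Limits AlgebraicGeometry
open TopologicalSpace Opposite Scheme.Modules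
open Groth.Agent.PullbackMod Groth.Agent.DCohLib Groth.Agent.ParaFLib Groth.Agent.AmpleLib Groth.Agent.ProjUPLib
open Groth.Agent.S7676

noncomputable section

namespace Groth.Agent.HodgePnLib

/-- A hyperplane is a projective space over the ground field. -/
theorem exists_hyperplane_param (k : Type u) [Field k] (n : ℕ)
    (s : Coh.structureModule (CohB1.ProjSpace (n + 1) k) ⟶ Twist.twistProjSpace (n + 1) k 1) (hs : s ≠ 0) :
    ∃ φ : CohB1.ProjSpace n k ≅ (PicF2.zeroScheme _ s).subscheme,
      (φ.hom ≫ (PicF2.zeroScheme _ s).subschemeι) ≫ CohB1.ProjSpace.toSpec (n + 1) k = CohB1.ProjSpace.toSpec n k ∧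
      Nonempty ((Scheme.Modules.pullback (φ.hom ≫ (PicF2.zeroScheme _ s).subschemeι)).obj
          (Twist.twistProjSpace (n + 1) k 1) ≅ Twist.twistProjSpace n k 1) := by
  classical
  let q := CohB1.ProjSpace.toSpec n k
  let q' := CohB1.ProjSpace.toSpec (n + 1) k
  let O' := Twist.twistProjSpace (n + 1) k 1
  let ι := (PicF2.zeroScheme _ s).subschemeι
  obtain ⟨c, hc⟩ := exists_combine (n + 1) k (sec s)
  obtain ⟨j, hj⟩ : ∃ j, c j ≠ 0 := by
    by_contra h
    push_neg at h
    refine hs ?_
    rw [← secHom_sec s, ← secHom_sec (0 : Coh.structureModule _ ⟶ _), ← hc,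
      show c = 0 from funext h, map_zero]
    rfl
  let d : Fin (n + 2) → Fin (n + 1) → k :=
    Fin.insertNth (α := fun _ => Fin (n + 1) → k) j (fun i => -(c (j.succAbove i)) / c j) fun i => Pi.single i 1
  have hd1 : d j = fun i => -(c (j.succAbove i)) / c j := Fin.insertNth_apply_same _ _ _
  have hd2 : ∀ i, d (j.succAbove i) = Pi.single i 1 := fun i => Fin.insertNth_apply_succAbove _ _ _ i
  have hd0 : ∑ m, c m • d m = 0 := by
    rw [Fin.sum_univ_succAbove _ j, hd1]
    simp only [hd2]
    ext i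
    simp [Finset.sum_apply, Pi.single_apply, mul_div_cancel₀ _ hj]
  let t : Fin (n + 2) → ProjUP.Γm (Twist.twistProjSpace n k 1) := fun m => combine q (ProjUP.coord n k) (d m)
  have ht : ∀ i, t (j.succAbove i) = ProjUP.coord n k i := fun i => by
    simp only [t, hd2, combine_single]
  obtain ⟨r, hr, τ, hτ⟩ := exists_hom_projSpace (n := n + 1) q (inv_twist n k) t fun x => by
    rw [eq_top_iff, ← gen_coord_self n k x]
    exact Submodule.span_mono fun _ ⟨i, hi⟩ => ⟨j.succAbove i, by rw [← hi]; simp only [ht]⟩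
  have hrs : ProjUP.pullSec r O' (sec s) = 0 := by
    refine app_iso_injective τ ?_
    rw [map_zero, ← hc, pullSec_combine, app_combine]
    refine (combine_congr hr hτ c).trans ?_
    show ∑ m, ProjUP.toGlobal q (c m) • combine q (ProjUP.coord n k) (d m) = 0
    simp only [← combine_smul]
    rw [← map_sum, hd0, map_zero]
  let qH := ι ≫ q'
  let v : Fin (n + 2) → ProjUP.Γm ((Scheme.Modules.pullback ι).obj O') :=
    fun m => ProjUP.pullSec ι O' (ProjUP.coord (n + 1) k m)
  let u : Fin (n + 1) → ProjUP.Γm ((Scheme.Modules.pullback ι).obj O') := fun i => v (j.succAbove i)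
  have hv0 : combine qH v c = 0 := by
    rw [← pullSec_combine, hc]
    exact pullSec_subscheme_eq_zero (inv_twist (n + 1) k) s
  have hv : ∀ m, combine qH u (d m) = v m := by
    intro m
    rcases Fin.eq_self_or_eq_succAbove j m with hm | ⟨i, rfl⟩
    · subst m
      have h1 := combine_smul qH v (c j)⁻¹ c
      rw [hv0, smul_zero] at h1
      change ∑ m, ProjUP.toGlobal qH (((c j)⁻¹ • c) m) • v m = 0 at h1
      rw [Fin.sum_univ_succAbove _ j, Pi.smul_apply, smul_eq_mul, inv_mul_cancel₀ hj, map_one, one_smul,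
        add_eq_zero_iff_eq_neg] at h1
      rw [h1, hd1]
      show ∑ i, ProjUP.toGlobal qH (-(c (j.succAbove i)) / c j) • v (j.succAbove i) = _
      rw [← Finset.sum_neg_distrib]
      refine Finset.sum_congr rfl fun i _ => ?_
      rw [← neg_smul, ← map_neg, Pi.smul_apply, smul_eq_mul, neg_div, div_eq_inv_mul]
    · rw [hd2, combine_single]
  have hu : ProjUP.GeneratedBy _ u := fun x => by
    rw [eq_top_iff, ← gen_coord (n + 1) k ι x, Submodule.span_le]
    rintro _ ⟨m, rfl⟩
    show _ ∈ Submodule.span _ _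
    have hm : ProjUP.pullSec ι O' (ProjUP.coord (n + 1) k m) =
        ∑ i, ProjUP.toGlobal qH (d m i) • u i := (hv m).symm
    have h2 := congrArg (((Scheme.Modules.pullback ι).obj O').presheaf.germ ⊤ x trivial) hm
    rw [map_sum] at h2
    refine Eq.mpr (congrArg (· ∈ Submodule.span _ _) h2) ?_
    refine Submodule.sum_mem _ fun i _ => ?_
    erw [ParaFLib.germ_smul']
    exact Submodule.smul_mem _ _ (Submodule.subset_span ⟨i, rfl⟩)
  obtain ⟨h, hh, σ, hσ⟩ := exists_hom_projSpace qH (isInvertible_pullback ι (inv_twist (n + 1) k)) u hu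
  have hhr : h ≫ r = ι := by
    refine hom_ext_projSpace (h ≫ r) ι (by rw [Category.assoc, hr, hh])
      ((pullbackComp h r).symm.app O' ≪≫ (Scheme.Modules.pullback h).mapIso τ ≪≫ σ) fun m => ?_
    show σ.hom.app ⊤ (((Scheme.Modules.pullback h).map τ.hom).app ⊤
      (((pullbackComp h r).inv.app O').app ⊤ (ProjUP.pullSec (h ≫ r) O' (ProjUP.coord (n + 1) k m)))) = _
    rw [pullSec_comp_inv, pullSec_nat, hτ, pullSec_combine, app_combine]
    exact (combine_congr hh hσ (d m)).trans (hv m)
  let r' : CohB1.ProjSpace n k ⟶ (PicF2.zeroScheme _ s).subscheme :=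
    IsClosedImmersion.lift ι r (by
      rw [Scheme.IdealSheafData.ker_subschemeι]
      exact le_ker_of_pullSec_eq_zero (inv_twist (n + 1) k) s r hrs)
  have hr' : r' ≫ ι = r := IsClosedImmersion.lift_fac ι r _
  have hb : (r' ≫ h) ≫ q = 𝟙 _ ≫ q := by
    rw [Category.assoc, hh, ← Category.assoc, hr', hr, Category.id_comp]
  have hr'h : r' ≫ h = 𝟙 _ :=
    hom_ext_projSpace (r' ≫ h) (𝟙 _) hb (retrIso hr' σ τ) fun i =>
      retrIso_pullSec hr' σ τ (ProjUP.coord n k i) (ProjUP.coord (n + 1) k (j.succAbove i)) (hσ i)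
        ((hτ (j.succAbove i)).trans (ht i))
  refine ⟨⟨r', h, hr'h, ?_⟩, ((congrArg (fun g => g ≫ CohB1.ProjSpace.toSpec (n + 1) k) hr').trans hr),
    ⟨eqToIso (congrArg (fun f => (Scheme.Modules.pullback f).obj O') hr') ≪≫ τ⟩⟩
  rw [← cancel_mono ι, Category.assoc, hr', hhr, Category.id_comp]

end Groth.Agent.HodgePnLib
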