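import Groth.Agent.HodgePnLib.Nilp
import Groth.Agent.SyzLib.Sheaf
import Groth.Agent.QCohLib.Coherent
import Groth.Agent.VBLib.Point

/-!
# The kernel of a degenerate endomorphism of a bundle of rank two
-/

set_option autoImplicit false
set_option backward.isDefEq.respectTransparency false
set_option linter.style.haveILetI false
set_option maxHeartbeats 1000000

universe u

open CategoryTheory CategoryTheory.Limits AlgebraicGeometry TopologicalSpace Opposite
open Groth.Agent.PullbackMod Groth.Agent.DCohLib Groth.Agent.ParaFLib Groth.Agent.DegDevLib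
open scoped Matrix

noncomputable section

namespace Groth.Agent.HodgePnLib

/-- The kernel of a nonzero degenerate `2 × 2` matrix over a factorial domain is free of rank one. -/
theorem exists_gen_ker_two {R : Type*} [CommRing R] [IsDomain R] [UniqueFactorizationMonoid R]
    (M : Matrix (Fin 2) (Fin 2) R) (hM : M ≠ 0) (hv : ∃ v ≠ 0, v ᵥ* M = 0) :
    ∃ g : Fin 2 → R, g ≠ 0 ∧ g ᵥ* M = 0 ∧ ∀ w, w ᵥ* M = 0 → ∃ t : R, w = t • g := by
  obtain ⟨v, hv0, hv⟩ := hv
  obtain ⟨i₀, j, hj⟩ : ∃ i j, M i j ≠ 0 := by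
    by_contra h
    push Not at h
    exact hM (Matrix.ext h)
  have hrow : ∀ w : Fin 2 → R, w ᵥ* M = 0 → w 0 * M 0 j + w 1 * M 1 j = 0 := fun w hw => by
    have := congrFun hw j
    simpa [Matrix.vecMul, dotProduct, Fin.sum_univ_two] using this
  -- the reduced column
  obtain ⟨p, q, d, hpq, hp, hq⟩ : ∃ p q d : R, IsRelPrime p q ∧ d * p = M 0 j ∧ d * q = M 1 j := by
    rcases Fin.exists_fin_two.1 (⟨i₀, hj⟩ : ∃ i, M i j ≠ 0) with h | h
    · obtain ⟨p, q, d, h1, h2, h3⟩ := UniqueFactorizationMonoid.exists_reduced_factors _ h (M 1 j)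
      exact ⟨p, q, d, h1, h2, h3⟩
    · obtain ⟨q, p, d, h1, h2, h3⟩ := UniqueFactorizationMonoid.exists_reduced_factors _ h (M 0 j)
      exact ⟨p, q, d, h1.symm, h3, h2⟩
  have hd : d ≠ 0 := by
    rintro rfl
    rw [zero_mul] at hp hq
    rcases Fin.exists_fin_two.1 (⟨i₀, hj⟩ : ∃ i, M i j ≠ 0) with h | h
    · exact h hp.symm
    · exact h hq.symm
  have hg0 : (![q, -p] : Fin 2 → R) ≠ 0 := fun h => by
    have h0 : q = 0 := congrFun h 0
    have h1 : -p = 0 := congrFun h 1
    rw [h0, neg_eq_zero.1 h1] at hpq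
    exact not_isUnit_zero (hpq (dvd_refl 0) (dvd_refl 0))
  have hgen : ∀ w : Fin 2 → R, w 0 * M 0 j + w 1 * M 1 j = 0 → ∃ t : R, w = t • ![q, -p] := fun w hw => by
    have h : w 0 * p + w 1 * q = 0 := by
      refine (mul_eq_zero.1 (show d * (w 0 * p + w 1 * q) = 0 from ?_)).resolve_left hd
      rw [← hw, ← hp, ← hq]
      ring
    rcases eq_or_ne q 0 with rfl | hq0
    · have hpu : IsUnit p := hpq (dvd_refl p) (dvd_zero p)
      have hw0 : w 0 = 0 := by simpa [hpu.ne_zero] using h
      obtain ⟨e, he⟩ := hpu.exists_right_inv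
      refine ⟨-(w 1) * e, funext fun i => ?_⟩
      fin_cases i
      · simp [hw0]
      · simp [mul_assoc, mul_comm e p, he]
    · obtain ⟨t, ht⟩ : q ∣ w 0 := hpq.symm.dvd_of_dvd_mul_right ⟨-(w 1), by linear_combination h⟩
      refine ⟨t, funext fun i => ?_⟩
      fin_cases i
      · simpa [mul_comm] using ht
      · have h1 : q * (t * p + w 1) = 0 := by linear_combination h - p * ht
        have := (mul_eq_zero.1 h1).resolve_left hq0
        simp only [Fin.mk_one, Pi.smul_apply, Matrix.cons_val_one, Matrix.cons_val_fin_one, smul_eq_mul]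
        linear_combination this
  refine ⟨![q, -p], hg0, ?_, fun w hw => hgen w (hrow w hw)⟩
  obtain ⟨t, ht⟩ := hgen v (hrow v hv)
  have ht0 : t ≠ 0 := by
    rintro rfl
    exact hv0 (by rw [ht, zero_smul])
  rw [ht, Matrix.smul_vecMul, smul_eq_zero] at hv
  exact hv.resolve_left ht0

variable {X : Scheme.{u}} {E : X.Modules}

/-- An endomorphism of a bundle near two points is given by a matrix of functions. -/
theorem exists_matrix {r : ℕ} (hE : FlatMod.IsFinLocFreeOfRank r E) (ψ : E ⟶ E) {V : X.Opens} (hV : IsAffineOpen V)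
    (x η : X) (hx : x ∈ V) (hη : η ∈ V) :
    ∃ (D : X.Opens) (A : Matrix (Fin r) (Fin r) Γ(X, D)), x ∈ D ∧ η ∈ D ∧ ∀ (y : X) (hy : y ∈ D),
      ∃ e : (Fin r → X.presheaf.stalk y) ≃ₗ[X.presheaf.stalk y] E.presheaf.stalk y,
        ∀ v, stalkLin ψ y (e v) = e (v ᵥ* A.map (X.presheaf.germ D y hy).hom) := by
  classical
  obtain ⟨U, f, hZU, -, hf⟩ := exists_frame hE (Set.toFinite ({x, η} : Set X)) hV
    (Set.insert_subset hx (Set.singleton_subset_iff.2 hη))
  choose a ha using fun i => hf.bijective.2 (ψ.app U (f i))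
  refine ⟨U, Matrix.of a, hZU (Set.mem_insert _ _), hZU (Set.mem_insert_of_mem _ rfl), fun y hy => ?_⟩
  refine ⟨LinearEquiv.ofBijective _ (hf y hy), fun v => ?_⟩
  show stalkLin ψ y (Fintype.linearCombination _ _ v) = Fintype.linearCombination _ _ (v ᵥ* _)
  rw [Fintype.linearCombination_apply, Fintype.linearCombination_apply, map_sum]
  have hi : ∀ i, stalkLin ψ y (E.presheaf.germ U y hy (f i)) =
      ∑ j, X.presheaf.germ U y hy (a i j) • E.presheaf.germ U y hy (f j) := fun i => by
    rw [stalkLin_germ, ← ha i, Fintype.linearCombination_apply, map_sum]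
    exact Finset.sum_congr rfl fun j _ => germ_smul' ..
  simp only [map_smul, hi, Finset.smul_sum, smul_smul]
  rw [Finset.sum_comm]
  simp only [← Finset.sum_smul]
  rfl

variable [IsIntegral X]

/-- Vanishing and injectivity of an endomorphism of a bundle on stalks do not depend on the point. -/
theorem stalk_dichotomy {r : ℕ} (hE : FlatMod.IsFinLocFreeOfRank r E) (ψ : E ⟶ E) (x : X) :
    (stalkLin ψ x = 0 ↔ stalkLin ψ (genericPoint X) = 0) ∧
      (Function.Injective (stalkLin ψ x) ↔ Function.Injective (stalkLin ψ (genericPoint X))) := by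
  classical
  let η := genericPoint X
  obtain ⟨_, ⟨V : X.Opens, hV, rfl⟩, hxV, -⟩ :=
    X.isBasis_affineOpens.exists_subset_of_mem_open (Set.mem_univ x) isOpen_univ
  obtain ⟨D, A, hxD, hηD, hA⟩ := exists_matrix hE ψ hV x η hxV
    (((genericPoint_spec X).mem_open_set_iff V.2).2 ⟨x, ⟨trivial, hxV⟩⟩)
  suffices h : ∀ (y : X) (hy : y ∈ D), (stalkLin ψ y = 0 ↔ A = 0) ∧
      (Function.Injective (stalkLin ψ y) ↔ A.det ≠ 0) by
    exact ⟨(h x hxD).1.trans (h η hηD).1.symm, (h x hxD).2.trans (h η hηD).2.symm⟩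
  intro y hy
  haveI : Nonempty (↑D : Scheme.{u}) := ⟨⟨y, hy⟩⟩
  have hinj : Function.Injective (X.presheaf.germ D y hy).hom := germ_injective_of_isIntegral X y hy
  obtain ⟨e, he⟩ := hA y hy
  let R := X.presheaf.stalk y
  let B : Matrix (Fin r) (Fin r) R := A.map (X.presheaf.germ D y hy).hom
  constructor
  · constructor
    · intro h0
      refine Matrix.map_injective hinj ?_
      show A.map _ = (0 : Matrix (Fin r) (Fin r) Γ(X, D)).map _
      rw [Matrix.map_zero _ (map_zero _)]
      ext i j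
      have h1 := he (Pi.single i 1)
      rw [h0, LinearMap.zero_apply, eq_comm, LinearEquiv.map_eq_zero_iff, Matrix.single_one_vecMul] at h1
      exact congrFun h1 j
    · rintro rfl
      refine LinearMap.ext fun z => ?_
      obtain ⟨v, rfl⟩ := e.surjective z
      rw [he, Matrix.map_zero _ (map_zero _), Matrix.vecMul_zero, map_zero, LinearMap.zero_apply]
  · have hdet : B.det = X.presheaf.germ D y hy A.det := ((X.presheaf.germ D y hy).hom.map_det A).symm
    rw [← map_ne_zero_iff _ hinj, show (X.presheaf.germ D y hy).hom A.det = B.det from hdet.symm,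
      Ne, ← Matrix.exists_vecMul_eq_zero_iff, injective_iff_map_eq_zero]
    constructor
    · rintro h ⟨v, hv0, hv⟩
      exact hv0 (e.map_eq_zero_iff.1 (h _ (by rw [he, show v ᵥ* A.map _ = 0 from hv, map_zero])))
    · intro h z hz
      obtain ⟨v, rfl⟩ := e.surjective z
      rw [he, LinearEquiv.map_eq_zero_iff] at hz
      by_contra hv
      exact h ⟨v, fun h0 => hv (by rw [h0, map_zero]), hz⟩

/-- The kernel of a nonzero endomorphism of a bundle of rank two which is not a monomorphism is a line bundle. -/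
theorem isInvertible_kernel [IsLocallyNoetherian X] (hufd : ∀ x : X, UniqueFactorizationMonoid (X.presheaf.stalk x))
    (hE : FlatMod.IsFinLocFreeOfRank 2 E) (ψ : E ⟶ E) (h0 : ψ ≠ 0) (hm : ¬ Mono ψ) :
    PicF.IsInvertible (kernel ψ) := by
  classical
  have hc : Coh.IsCoh (kernel ψ) := (QCohLib.isCoh_kernel_cokernel ψ
    (CurveLib.isCoh_of_isFinLocFree (KVb.isFinLocFree_of_rank hE))
    (CurveLib.isCoh_of_isFinLocFree (KVb.isFinLocFree_of_rank hE))).1
  haveI := hc.1
  refine VBLib.isInvertible_of_rank ((isFinLocFreeOfRank_iff_freeAt _ (QCohLib.isFP_of_isCoh _ hc) _).2 fun x => ?_)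
  let R := X.presheaf.stalk x
  haveI : UniqueFactorizationMonoid R := hufd x
  have hne : stalkLin ψ x ≠ 0 := fun h => h0 ((eq_zero_iff_stalk ψ).2 fun y =>
    (stalk_dichotomy hE ψ y).1.2 ((stalk_dichotomy hE ψ x).1.1 h))
  have hni : ¬ Function.Injective (stalkLin ψ x) := fun h => hm ((mono_iff_stalk ψ).2 fun y =>
    (stalk_dichotomy hE ψ y).2.2 ((stalk_dichotomy hE ψ x).2.1 h))
  obtain ⟨_, ⟨V : X.Opens, hV, rfl⟩, hxV, -⟩ :=
    X.isBasis_affineOpens.exists_subset_of_mem_open (Set.mem_univ x) isOpen_univ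
  obtain ⟨D, A, hxD, -, hA⟩ := exists_matrix hE ψ hV x x hxV hxV
  obtain ⟨e, he⟩ := hA x hxD
  let B : Matrix (Fin 2) (Fin 2) R := A.map (X.presheaf.germ D x hxD).hom
  obtain ⟨g, hg0, hg, hgen⟩ := exists_gen_ker_two B
    (fun hB => hne (LinearMap.ext fun z => by
      obtain ⟨v, rfl⟩ := e.surjective z
      rw [he, show A.map _ = (0 : Matrix (Fin 2) (Fin 2) R) from hB, Matrix.vecMul_zero, map_zero,
        LinearMap.zero_apply]))
    (by
      rw [injective_iff_map_eq_zero] at hni
      push Not at hni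
      obtain ⟨z, hz, hz0⟩ := hni
      obtain ⟨v, rfl⟩ := e.surjective z
      exact ⟨v, fun h => hz0 (by rw [h, map_zero]), e.map_eq_zero_iff.1 ((he v).symm.trans hz)⟩)
  have hι := (mono_iff_stalk (kernel.ι ψ)).1 inferInstance x
  have hex := SyzLib.exact_stalkLin' (ShortComplex.mk (kernel.ι ψ) ψ (kernel.condition ψ))
    (ShortComplex.exact_of_f_is_kernel _ (kernelIsKernel ψ)) x
  obtain ⟨z₀, hz₀⟩ := (hex (e g)).1 (by rw [show stalkLin ψ x (e g) = _ from he g]; exact (congrArg e hg).trans (map_zero e))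
  change stalkLin (kernel.ι ψ) x z₀ = e g at hz₀
  let φ : R →ₗ[R] (kernel ψ).presheaf.stalk x := LinearMap.toSpanSingleton R _ z₀
  have hφ : Function.Bijective φ := by
    constructor
    · refine (injective_iff_map_eq_zero _).2 fun t ht => ?_
      have h1 : t • e g = 0 := by
        rw [← hz₀, ← map_smul, show t • z₀ = 0 from ht, map_zero]
      rw [← map_smul, LinearEquiv.map_eq_zero_iff, smul_eq_zero] at h1
      exact h1.resolve_right hg0
    · intro w
      obtain ⟨v, hv⟩ := e.surjective (stalkLin (kernel.ι ψ) x w)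
      have h1 : v ᵥ* B = 0 := by
        refine e.map_eq_zero_iff.1 ((he v).symm.trans ?_)
        rw [hv]
        exact (hex _).2 ⟨w, rfl⟩
      obtain ⟨t, rfl⟩ := hgen v h1
      refine ⟨t, hι ?_⟩
      show stalkLin (kernel.ι ψ) x (t • z₀) = _
      rw [map_smul, hz₀, ← map_smul, hv]
  exact ⟨((LinearEquiv.funUnique (Fin 1) R R).trans (LinearEquiv.ofBijective φ hφ)).symm⟩

end Groth.Agent.HodgePnLib
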