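import Groth.Agent.HodgePnLib.NullCorr
import Groth.Agent.DegDevLib.Det
import Groth.Agent.HopfSecLib.Main
import Groth.Agent.CurveLib.Inv
import Groth.Agent.VBLib.Cst

/-!
# Nilpotent endomorphisms from sections of rank two bundles
-/

set_option autoImplicit false
set_option backward.isDefEq.respectTransparency false
set_option linter.style.haveILetI false
set_option maxHeartbeats 1000000

universe u

open CategoryTheory CategoryTheory.Limits AlgebraicGeometry TopologicalSpace Opposite
open Groth.Agent.PullbackMod Groth.Agent.DCohLib Groth.Agent.ParaFLib Groth.Agent.DegDevLib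
open scoped TensorProduct

noncomputable section

namespace Groth.Agent.HodgePnLib

variable {X : Scheme.{u}}

/-- The wedge pairing of a bundle into its second exterior power. -/
theorem exists_wedgePairing {E L : X.Modules} (φ : ExtIso 2 E L) (hc : Compat φ) :
    ∃ P : ProjTwistLib.Pairing E E L, ∀ (U : X.affineOpens) (m n : Γ(E, U.1)), P.f U.1 m n = wsec φ U ![m, n] := by
  let f : ∀ U : X.affineOpens, Γ(E, U.1) →ₗ[Γ(X, U.1)] Γ(E, U.1) →ₗ[Γ(X, U.1)] Γ(L, U.1) := fun U =>
    LinearMap.mk₂ Γ(X, U.1) (fun m n => wsec φ U ![m, n])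
      (fun m m' n => by
        have h := (exteriorPower.ιMulti Γ(X, U.1) 2 (M := E.val.obj (op U.1))).map_vecCons_add ![n] m m'
        exact (congrArg (φ U).symm h).trans (map_add (φ U).symm _ _))
      (fun c m n => by
        have h := (exteriorPower.ιMulti Γ(X, U.1) 2 (M := E.val.obj (op U.1))).map_vecCons_smul ![n] c m
        exact (congrArg (φ U).symm h).trans (map_smul (φ U).symm _ _))
      (fun m n n' => by
        have h := (exteriorPower.ιMulti Γ(X, U.1) 2 (M := E.val.obj (op U.1))).map_update_add ![m, 0] 1 n n'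
        have hu : ∀ z : E.val.obj (op U.1), Function.update ![m, 0] (1 : Fin 2) z = ![m, z] := fun z => by
          funext i; fin_cases i <;> simp
        rw [hu, hu, hu] at h
        exact (congrArg (φ U).symm h).trans (map_add (φ U).symm _ _))
      (fun c m n => by
        have h := (exteriorPower.ιMulti Γ(X, U.1) 2 (M := E.val.obj (op U.1))).map_update_smul ![m, 0] 1 c n
        have hu : ∀ z : E.val.obj (op U.1), Function.update ![m, 0] (1 : Fin 2) z = ![m, z] := fun z => by
          funext i; fin_cases i <;> simp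
        rw [hu, hu] at h
        exact (congrArg (φ U).symm h).trans (map_smul (φ U).symm _ _))
  obtain ⟨P, hP⟩ := ExtSeq.exists_pairing f fun U V h m n => by
    refine (hc U V h ![m, n]).trans (congrArg (wsec φ V) ?_)
    funext i; fin_cases i <;> rfl
  exact ⟨P, fun U m n => hP U m n⟩

/-- The map paired with a section. -/
def pairWith {M N L : X.Modules} (P : ProjTwistLib.Pairing M N L) (σ : Γ(M, ⊤)) : N ⟶ L :=
  ⟨PresheafOfModules.homMk
    { app := fun U => AddCommGrpCat.ofHom (P.f U.unop (M.presheaf.map (homOfLE (le_top : U.unop ≤ ⊤)).op σ))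
      naturality := fun {U V} i => by
        refine AddCommGrpCat.hom_ext (AddMonoidHom.ext fun (n : Γ(N, U.unop)) => ?_)
        show P.f V.unop _ (N.presheaf.map (homOfLE i.unop.le).op n) = L.presheaf.map (homOfLE i.unop.le).op (P.f U.unop _ n)
        rw [← P.fres i.unop.le, ParaFLib.res_res] }
    fun U r n => P.smul_right U.unop r _ n⟩

theorem pairWith_app {M N L : X.Modules} (P : ProjTwistLib.Pairing M N L) (σ : Γ(M, ⊤)) (U : X.Opens) (n : Γ(N, U)) :
    (pairWith P σ).app U n = P.f U (M.presheaf.map (homOfLE (le_top : U ≤ ⊤)).op σ) n := rfl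

variable [IsIntegral X]

/-- A nonzero section of a rank two bundle whose determinant maps nontrivially to `O` gives a nonzero endomorphism
of square zero. -/
theorem exists_sq_zero {F L : X.Modules} (hF : FlatMod.IsFinLocFreeOfRank 2 F) (hL : ExtPow.IsExtPow 2 F L)
    (hLi : PicF.IsInvertible L) (m : L ⟶ Coh.structureModule X) (hm : m ≠ 0)
    (σ : Γ(F, ⊤)) (hσ : σ ≠ 0) : ∃ θ : F ⟶ F, θ ≠ 0 ∧ θ ≫ θ = 0 := by
  obtain ⟨φ, hc⟩ : ∃ φ : ExtIso 2 F L, Compat φ := hL
  obtain ⟨P, hP⟩ := exists_wedgePairing φ hc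
  let s := DCohLib.secHom F σ
  let ψ := pairWith P σ
  have hsψ : s ≫ ψ = 0 := by
    rw [← AmpleLib.secHom_sec (s ≫ ψ), ← AmpleLib.secHom_sec (0 : Coh.structureModule X ⟶ L)]
    refine congrArg _ ?_
    show ψ.app ⊤ (s.app ⊤ (1 : Γ(X, ⊤))) = (0 : Coh.structureModule X ⟶ L).app ⊤ (1 : Γ(X, ⊤))
    rw [Scheme.Modules.Hom.zero_app]
    rw [show s.app ⊤ (1 : Γ(X, ⊤)) = σ from AmpleLib.sec_secHom σ, pairWith_app]
    show _ = (0 : Γ(L, ⊤))
    refine ExtSeq.ext_affine L fun W hW => ?_
    show L.presheaf.map (homOfLE hW).op _ = L.presheaf.map (homOfLE hW).op 0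
    rw [← P.fres hW, hP, map_zero, ParaFLib.res_res]
    refine (congrArg (φ W).symm ?_).trans (map_zero (φ W).symm)
    exact (exteriorPower.ιMulti Γ(X, W.1) 2).map_eq_zero_of_eq _ (i := 0) (j := 1) (by simp) (by simp)
  refine ⟨ψ ≫ m ≫ s, fun h0 => ?_, by simp [reassoc_of% hsψ]⟩
  let η := genericPoint X
  have hσ' : F.presheaf.germ ⊤ η trivial σ ≠ 0 := fun h =>
    hσ (HopfSecLib.eq_zero_of_germ_generic (KVb.isFinLocFree_of_rank hF) σ h)
  obtain ⟨_, ⟨V : X.Opens, hV, rfl⟩, hηV, -⟩ :=
    X.isBasis_affineOpens.exists_subset_of_mem_open (Set.mem_univ η) isOpen_univ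
  obtain ⟨U, f₀, hηU, -, hf₀⟩ := exists_frame hF (Set.finite_singleton η) hV (Set.singleton_subset_iff.2 hηV)
  obtain ⟨_, ⟨D : X.Opens, hD, rfl⟩, hη, hDU⟩ := X.isBasis_affineOpens.exists_subset_of_mem_open (hηU rfl) U.2
  let f : Fin 2 → Γ(F, D) := fun i => F.presheaf.map (homOfLE hDU).op (f₀ i)
  have hf : IsFrame D f := hf₀.res hDU
  obtain ⟨c, hc'⟩ := hf.bijective.2 (F.presheaf.map (homOfLE (le_top : D ≤ ⊤)).op σ)
  rw [Fintype.linearCombination_apply] at hc'
  -- the composite vanishes at the generic point, so does the pairing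
  have hψ : ∀ z, stalkLin ψ η z = 0 := fun z => by
    refine (CurveLib.bijective_stalkLin_generic hLi ParaFLib.isInvertible_structureModule hm).1 ?_
    rw [map_zero]
    have h1 : stalkLin s η (stalkLin m η (stalkLin ψ η z)) = 0 := by
      rw [← LinearMap.comp_apply, ← stalkLin_comp, ← LinearMap.comp_apply, ← stalkLin_comp, h0]
      exact LinearMap.congr_fun ((eq_zero_iff_stalk _).1 rfl η) z
    obtain ⟨r, hr⟩ := (bijective_oneG η).2 (stalkLin m η (stalkLin ψ η z))
    rw [← hr, map_smul, CurveLib.stalkLin_secHom] at h1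
    have hr0 : r = 0 := by
      by_contra hne
      exact hσ' ((IsUnit.smul_eq_zero (Ne.isUnit (a := (r : X.functionField)) hne)).1 h1)
    rw [← hr, hr0]
    exact zero_smul _ _
  have hω := (gen_wsec φ hc (V := ⟨D, hD⟩) hf).bijective_germ η hη
  have hdet : ∀ (j : Fin 2) (A : Matrix (Fin 2) (Fin 2) Γ(X, D)), (A 0 = c) → (A 1 = Pi.single j 1) →
      X.presheaf.germ D η hη A.det = 0 := fun j A hA0 hA1 => by
    refine hω.1 ?_
    show _ • _ = (0 : X.presheaf.stalk η) • _
    rw [zero_smul, ← ParaFLib.germ_smul', ← wsec_smul φ (V := ⟨D, hD⟩) hf A]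
    have hvec : (fun i => ∑ l, A i l • f l) = ![F.presheaf.map (homOfLE (le_top : D ≤ ⊤)).op σ, f j] := by
      funext i
      fin_cases i
      · simpa [hA0] using hc'
      · simp [hA1, Pi.single_apply]
    rw [hvec, ← hP ⟨D, hD⟩, ← pairWith_app, ← stalkLin_germ]
    exact hψ _
  have h1 := hdet 1 (Matrix.of ![c, Pi.single 1 1]) rfl rfl
  have h2 := hdet 0 (Matrix.of ![c, Pi.single 0 1]) rfl rfl
  rw [Matrix.det_fin_two] at h1 h2
  simp [Pi.single_apply] at h1 h2
  refine hσ' ?_
  rw [← F.presheaf.germ_res_apply (homOfLE (le_top : D ≤ ⊤)) η hη σ, ← hc', map_sum, Fin.sum_univ_two,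
    ParaFLib.germ_smul', ParaFLib.germ_smul', h1, h2, zero_smul, zero_smul, add_zero]

omit [IsIntegral X] in
/-- Tensoring with a line bundle is faithful. -/
theorem eq_zero_of_tensR {M M' N : X.Modules} (hN : ∀ x, FreeAt 1 N x) (θ : M ⟶ M')
    (h : (CurveLib.tensR N).map θ = 0) : θ = 0 := by
  refine (eq_zero_iff_stalk θ).2 fun x => LinearMap.ext fun z => ?_
  obtain ⟨eN⟩ := hN x
  let e' := eN.trans (LinearEquiv.funUnique (Fin 1) _ _)
  have h1 := LinearMap.congr_fun ((eq_zero_iff_stalk _).1 h x) (stalkTensor x M N (z ⊗ₜ e'.symm 1))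
  rw [LinearMap.zero_apply] at h1
  have h2 : stalkTensor x M' N ((stalkLin θ x).rTensor _ (z ⊗ₜ e'.symm 1)) = 0 :=
    (stalkTensor_natural_left x θ _).symm.trans h1
  rw [LinearEquiv.map_eq_zero_iff, LinearMap.rTensor_tmul] at h2
  have h3 := congrArg (fun w => TensorProduct.rid _ _ ((LinearEquiv.lTensor _ e') w)) h2
  simpa using h3

end Groth.Agent.HodgePnLib
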