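import Groth.Agent.HodgePnLib.Nilp
import Groth.Agent.VBLib.HomPair
import Groth.Agent.CurveLib.SmulPow
import Groth.Agent.KVbLib.Twist

/-!
# Simple bundles of rank two and sections of their twists
-/

set_option autoImplicit false
set_option backward.isDefEq.respectTransparency false
set_option linter.style.haveILetI false
set_option maxHeartbeats 1000000

universe u

open CategoryTheory CategoryTheory.Limits AlgebraicGeometry
open Groth.Agent.PullbackMod

noncomputable section

namespace Groth.Agent.HodgePnLib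

variable {X : Scheme.{u}}

/-- Undoing a twist by a line bundle. -/
def untwN (E : X.Modules) {N N' : X.Modules} (φ : CohB1.tensorMod N N' ≅ Coh.structureModule X) :
    CohB1.tensorMod (CohB1.tensorMod E N) N' ≅ E :=
  AmpleLib.assoc E N N' ≪≫ AmpleLib.tIso (Iso.refl E) φ ≪≫ AmpleLib.unitR E

variable (k : Type u) [Field k] [X.Over (Spec (CommRingCat.of k))]

/-- An endomorphism of square zero of a twist of a simple module vanishes. -/
theorem eq_zero_of_sq_zero (E : X.Modules) {N N' : X.Modules}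
    (φ : CohB1.tensorMod N N' ≅ Coh.structureModule X) (hN' : ∀ x, FreeAt 1 N' x)
    (hsimple : ∀ ψ : E ⟶ E, ∃ c : k, ψ = (VBLib.cst k E c : E ⟶ E))
    (θ : CohB1.tensorMod E N ⟶ CohB1.tensorMod E N) (h : θ ≫ θ = 0) : θ = 0 := by
  haveI : (CurveLib.tensR N').Additive := CurveLib.additive_tensR N'
  let e : (CurveLib.tensR N').obj (CohB1.tensorMod E N) ≅ E := untwN E φ
  obtain ⟨c, hc⟩ := hsimple (e.inv ≫ (CurveLib.tensR N').map θ ≫ e.hom)
  refine eq_zero_of_tensR hN' θ ?_
  have h2 : (e.inv ≫ (CurveLib.tensR N').map θ ≫ e.hom) ≫ (e.inv ≫ (CurveLib.tensR N').map θ ≫ e.hom) = 0 := by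
    simp only [Category.assoc, Iso.hom_inv_id_assoc]
    rw [← Functor.map_comp_assoc, h, Functor.map_zero, zero_comp, comp_zero]
  have h0 : e.inv ≫ (CurveLib.tensR N').map θ ≫ e.hom = 0 := by
    rcases eq_or_ne c 0 with rfl | hne
    · exact hc.trans (VBLib.cst_zero k E)
    · haveI : IsIso (e.inv ≫ (CurveLib.tensR N').map θ ≫ e.hom) := by
        rw [hc]
        exact VBLib.isIso_cst k E hne
      exact (cancel_epi (e.inv ≫ (CurveLib.tensR N').map θ ≫ e.hom)).1 (h2.trans comp_zero.symm)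
  have := congrArg (fun g => e.hom ≫ g ≫ e.inv) h0
  simpa using this

/-- A simple bundle of rank two has no sections after a twist making its determinant map to `O`. -/
theorem subsingleton_H0_of_simple [IsIntegral X] [IsLocallyNoetherian X] {E L : X.Modules}
    (hE : FlatMod.IsFinLocFreeOfRank 2 E) (hL : ExtPow.IsExtPow 2 E L) {N N' : X.Modules}
    (φ : CohB1.tensorMod N N' ≅ Coh.structureModule X) (hN : PicF.IsInvertible N)
    (hN' : ∀ x, FreeAt 1 N' x) {D : X.Modules} (hD : PicF.IsInvertible D)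
    (b : CohB1.tensorMod L (CohB1.tensorPow N 2) ≅ D) (m : D ⟶ Coh.structureModule X) (hm : m ≠ 0)
    (hsimple : ∀ ψ : E ⟶ E, ∃ c : k, ψ = (VBLib.cst k E c : E ⟶ E)) :
    Subsingleton (Coh.HH X (CohB1.tensorMod E N) 0) := by
  have hN1 := CurveLib.isFinLocFreeOfRank_one hN
  have hF : FlatMod.IsFinLocFreeOfRank 2 (CohB1.tensorMod E N) :=
    VBLib.HomPair.rank_tensor (a := 2) (b := 1) hE hN1
  obtain ⟨M, -, hM⟩ := KVb.hasExt 2 (CohB1.tensorMod E N) (KVb.isFinLocFree_of_rank hF)
  obtain ⟨a⟩ := KVb.isExtPow_twist hN1 hM hL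
  refine subsingleton_of_forall_eq 0 fun z => ?_
  by_contra hz
  have hm' : (a ≪≫ b).hom ≫ m ≠ 0 := fun h => hm ((cancel_epi (a ≪≫ b).hom).1 (h.trans comp_zero.symm))
  obtain ⟨θ, hθ, hθ2⟩ := exists_sq_zero hF hM (ParaFLib.isInvertible_of_iso (a ≪≫ b).symm hD) _ hm'
    (CurveLib.secOf _ z) fun h => hz ((CurveLib.secOf _).injective (h.trans (map_zero _).symm))
  exact hθ (eq_zero_of_sq_zero k E φ hN' hsimple θ hθ2)

end Groth.Agent.HodgePnLib
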