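import Groth.Agent.HodgePnLib.Kernel
import Groth.Agent.HodgePnLib.DualTwo
import Groth.Agent.HodgePnLib.EulerEnd
import Groth.Agent.HodgePnLib.Simple
import Groth.Agent.PicProjLib.Pic
import Groth.Agent.ProjSmoothLib.Basic
import Groth.Agent.ASp.GeomRedEt
import Groth.Agent.RegLocal.UFD
import Groth.Agent.REqLib.P1Irred
import Groth.Agent.VBLib.CurveDual
import Groth.Agent.CMRegLib.Mult

/-!
# Stable bundles of rank two on projective space are simple
-/

set_option autoImplicit false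
set_option backward.isDefEq.respectTransparency false
set_option linter.style.haveILetI false
set_option linter.unusedSectionVars false
set_option maxHeartbeats 1000000

universe u

open CategoryTheory CategoryTheory.Limits AlgebraicGeometry
open Groth.Agent.PullbackMod

noncomputable section

namespace Groth.Agent.HodgePnLib

/-- An element of a finite algebra over an algebraically closed field is a scalar or is a zero divisor up to a scalar. -/
theorem exists_scalar_or_zero_divisor (k : Type*) [Field k] [IsAlgClosed k] {A : Type*} [Ring A] [Algebra k A]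
    [Module.Finite k A] (a : A) : ∃ c : k, a = algebraMap k A c ∨ ∃ x y : A, x ≠ 0 ∧ y ≠ 0 ∧ x * y = 0 := by
  rcases subsingleton_or_nontrivial A with hs | hs
  · exact ⟨0, Or.inl (hs.elim _ _)⟩
  have hint : _root_.IsIntegral k a := IsIntegral.of_finite k _
  obtain ⟨c, hc⟩ := IsAlgClosed.exists_root (minpoly k a) (minpoly.degree_pos hint).ne'
  obtain ⟨q, hq⟩ := Polynomial.dvd_iff_isRoot.2 hc
  refine ⟨c, ?_⟩
  rcases eq_or_ne (Polynomial.aeval a (Polynomial.X - Polynomial.C c)) 0 with h0 | h0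
  · left
    rw [map_sub, Polynomial.aeval_X, Polynomial.aeval_C, sub_eq_zero] at h0
    exact h0
  · refine Or.inr ⟨_, Polynomial.aeval a q, h0, fun hq0 => ?_, ?_⟩
    · have hne : q ≠ 0 := fun h => minpoly.ne_zero hint (by rw [hq, h, mul_zero])
      have h1 := Polynomial.natDegree_le_of_dvd (minpoly.dvd k _ hq0) hne
      rw [hq, Polynomial.natDegree_mul (Polynomial.X_sub_C_ne_zero c) hne, Polynomial.natDegree_X_sub_C] at h1
      omega
    · rw [← map_mul, ← hq, minpoly.aeval]

section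

variable {X : Scheme.{u}} (k : Type u) [Field k] [X.Over (Spec (CommRingCat.of k))]

/-- The scalar action on maps of modules is composition with a constant. -/
theorem smul_eq_comp_cst {A B : X.Modules} (θ : A ⟶ B) (r : k) : r • θ = θ ≫ (VBLib.cst k B r : B ⟶ B) := by
  rw [← VBLib.cst_natural]
  refine Scheme.Modules.hom_ext _ _ fun U => AddCommGrpCat.hom_ext (AddMonoidHom.ext fun s => ?_)
  show (r • θ).app U s = θ.app U ((FactorOne.mulEnd A _).app U s)
  rw [KLin.smul_app_apply, FactorOne.mulEnd_app, Scheme.Modules.Hom.app_smul]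

/-- A map out of a globally generated module killing all sections is zero. -/
theorem eq_zero_of_sections {M M' : X.Modules} (hg : Curv2.IsGloballyGenerated M) (θ : M ⟶ M')
    (h : ∀ z : Coh.HH X M 0, CurveLib.hMap (k := k) θ 0 z = 0) : θ = 0 := by
  obtain ⟨ι, p, hp⟩ := hg
  haveI := hp
  refine (cancel_epi p).1 (Eq.trans ?_ comp_zero.symm)
  refine Sigma.hom_ext (f := fun _ : ι => Coh.structureModule X) _ _ fun i => ?_
  let s : Coh.structureModule X ⟶ M := Sigma.ι (fun _ : ι => Coh.structureModule X) i ≫ p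
  have h1 : θ.app ⊤ (AmpleLib.sec s) = 0 := by
    obtain ⟨z, hz⟩ := (CurveLib.secOf M).surjective (AmpleLib.sec s)
    rw [← hz, ← CurveLib.secOf_hMap (k := k), h z, map_zero]
  show Sigma.ι (fun _ : ι => Coh.structureModule X) i ≫ p ≫ θ = _
  rw [comp_zero, ← Category.assoc]
  show s ≫ θ = 0
  rw [← AmpleLib.secHom_sec (s ≫ θ), ← AmpleLib.secHom_sec (0 : Coh.structureModule X ⟶ M')]
  refine congrArg _ ?_
  show θ.app ⊤ (AmpleLib.sec s) = (0 : Coh.structureModule X ⟶ M').app ⊤ (1 : Γ(X, ⊤))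
  rw [h1, Scheme.Modules.Hom.zero_app]
  rfl

theorem hMap_comp' {A B C : X.Modules} (f : A ⟶ B) (g : B ⟶ C) (z : Coh.HH X A 0) :
    CurveLib.hMap (k := k) (f ≫ g) 0 z = CurveLib.hMap (k := k) g 0 (CurveLib.hMap (k := k) f 0 z) :=
  (CurveLib.secOf C).injective (by
    rw [CurveLib.secOf_hMap, CurveLib.secOf_hMap, CurveLib.secOf_hMap]
    rfl)

theorem hMap_id' {A : X.Modules} (z : Coh.HH X A 0) : CurveLib.hMap (k := k) (𝟙 A) 0 z = z :=
  (CurveLib.secOf A).injective (by
    rw [CurveLib.secOf_hMap]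
    rfl)

theorem hMap_zero' {A B : X.Modules} (z : Coh.HH X A 0) : CurveLib.hMap (k := k) (0 : A ⟶ B) 0 z = 0 :=
  (CurveLib.secOf B).injective (by
    rw [CurveLib.secOf_hMap, Scheme.Modules.Hom.zero_app, map_zero]
    rfl)

theorem hMap_add' {A B : X.Modules} (f g : A ⟶ B) (z : Coh.HH X A 0) :
    CurveLib.hMap (k := k) (f + g) 0 z = CurveLib.hMap (k := k) f 0 z + CurveLib.hMap (k := k) g 0 z :=
  (CurveLib.secOf B).injective (by
    rw [map_add, CurveLib.secOf_hMap, CurveLib.secOf_hMap, CurveLib.secOf_hMap]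
    rfl)

/-- An endomorphism which is not a constant minus an eigenvalue is a zero divisor. -/
theorem exists_zero_divisor [IsAlgClosed k] [IsProper (X ↘ Spec (CommRingCat.of k))] (E : X.Modules)
    {N : X.Modules} (hN : ∀ x, FreeAt 1 N x) (hc : Coh.IsCoh (CohB1.tensorMod E N))
    (hg : Curv2.IsGloballyGenerated (CohB1.tensorMod E N)) (φ : E ⟶ E) :
    ∃ c : k, φ = (VBLib.cst k E c : E ⟶ E) ∨ ∃ ψ χ : E ⟶ E, ψ ≠ 0 ∧ χ ≠ 0 ∧ χ ≫ ψ = 0 := by
  haveI := EulerIneqLib.finite_HH (k := k) hc 0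
  let G := CurveLib.tensR N
  haveI : G.Additive := CurveLib.additive_tensR N
  let V := Coh.HH X (CohB1.tensorMod E N) 0
  let R : End E →ₗ[k] Module.End k V :=
    { toFun := fun θ => CurveLib.hMap (k := k) (G.map (θ : E ⟶ E)) 0
      map_add' := fun θ θ' => LinearMap.ext fun z => by
        show CurveLib.hMap (k := k) (G.map ((θ : E ⟶ E) + θ')) 0 z = _
        rw [G.map_add]
        exact hMap_add' k _ _ z
      map_smul' := fun c θ => LinearMap.ext fun z => by
        rw [show (c • θ : End E) = ((θ : E ⟶ E) ≫ (VBLib.cst k E c : E ⟶ E) : End E) from smul_eq_comp_cst k (θ : E ⟶ E) c]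
        show CurveLib.hMap (k := k) (G.map ((θ : E ⟶ E) ≫ (VBLib.cst k E c : E ⟶ E))) 0 z =
          c • CurveLib.hMap (k := k) (G.map (θ : E ⟶ E)) 0 z
        rw [G.map_comp, hMap_comp', VBLib.Dual.tensR_map_cst]
        exact VBLib.Dual.hMap_cst k _ c 0 _ }
  have hR : Function.Injective R := (injective_iff_map_eq_zero _).2 fun θ hθ =>
    eq_zero_of_tensR hN θ (eq_zero_of_sections k hg _ fun z => LinearMap.congr_fun hθ z)
  haveI : FiniteDimensional k (End E) := FiniteDimensional.of_injective R hR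
  obtain ⟨c, hc | ⟨x, y, hx, hy, hxy⟩⟩ := exists_scalar_or_zero_divisor k (A := End E) φ
  · exact ⟨c, Or.inl (hc.trans ((Algebra.algebraMap_eq_smul_one c).trans
      ((smul_eq_comp_cst k (𝟙 E) c).trans (Category.id_comp _))))⟩
  · exact ⟨c, Or.inr ⟨x, y, hx, hy, hxy⟩⟩

end

variable {X : Scheme.{u}} (k : Type u) [Field k] [X.Over (Spec (CommRingCat.of k))]

include k in
/-- A nonzero map out of a line bundle gives a section of the twist by the inverse. -/
theorem not_subsingleton_of_hom {Q F T : X.Modules} {r : ℕ} (hQ : FlatMod.IsFinLocFreeOfRank r Q)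
    (e : DCohLib.tmod F (VBLib.DualDeg.dd Q) ≅ T) (g : Q ⟶ F) (hg : g ≠ 0) :
    ¬ Subsingleton (Coh.HH X T 0) := fun h => by
  obtain ⟨s, rfl⟩ := (VBLib.HomPair.toHom_bijective hQ F).2 g
  refine hg ?_
  have hs : s ≫ e.hom = 0 := by
    rw [← AmpleLib.secHom_sec (s ≫ e.hom), ← AmpleLib.secHom_sec (0 : Coh.structureModule X ⟶ T)]
    exact congrArg _ ((CurveLib.secOf T).symm.injective (h.elim _ _))
  rw [show s = 0 from (cancel_mono e.hom).1 (hs.trans zero_comp.symm), VBLib.HomPair.toHom_zero]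

/-- Twisting a nonzero section of a module. -/
theorem exists_hom_of_section {A B C : X.Modules} (g : Coh.structureModule X ⟶ A) (hg : g ≠ 0)
    (hB : ∀ x, FreeAt 1 B x) (μ : CohB1.tensorMod A B ≅ C) : ∃ m : B ⟶ C, m ≠ 0 := by
  let μ' : (CurveLib.tensR B).obj A ≅ C := μ
  let v : (CurveLib.tensR B).obj (Coh.structureModule X) ≅ B := AmpleLib.unitL (X := X) B
  refine ⟨v.inv ≫ (CurveLib.tensR B).map g ≫ μ'.hom, fun h0 => hg (eq_zero_of_tensR hB g ?_)⟩
  rw [← cancel_mono μ'.hom, ← cancel_epi v.inv, zero_comp, comp_zero]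
  exact h0

section

variable {n : ℕ} {k : Type u} [Field k]

/-- A nonzero map between twists. -/
theorem exists_hom_O {d d' : ℤ} (h : d ≤ d') :
    ∃ m : Twist.twistProjSpace n k d ⟶ Twist.twistProjSpace n k d', m ≠ 0 := by
  obtain ⟨e, he⟩ := Int.le.dest h
  haveI : Nontrivial (Coh.HH (CohB1.ProjSpace n k) (Twist.twistProjSpace n k (e : ℤ)) 0) := by
    obtain ⟨i⟩ := ProjTwist.nonempty_H0 n k e
    refine Module.nontrivial_of_finrank_pos (R := k) ?_
    rw [i.finrank_eq, S4466.finrank_forms k n e]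
    exact Nat.choose_pos (by omega)
  obtain ⟨g, hg⟩ := CurveLib.exists_hom_ne_zero (Twist.twistProjSpace n k (e : ℤ))
  exact exists_hom_of_section g hg (freeAt_O d) (mulO n k (show (e : ℤ) + d = d' by omega))

/-- A stable bundle of rank two on projective space is simple. -/
theorem exists_cst_of_stable [IsAlgClosed k] (E : (CohB1.ProjSpace n k).Modules)
    (hE : FlatMod.IsFinLocFreeOfRank 2 E) {L : (CohB1.ProjSpace n k).Modules} (hL : ExtPow.IsExtPow 2 E L)
    (c k₀ : ℤ) (eL : L ≅ Twist.twistProjSpace n k c) (hk₀ : c + 2 * k₀ = 0 ∨ c + 2 * k₀ = -1)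
    (h0 : Subsingleton (Coh.HH (CohB1.ProjSpace n k) (CohB1.tensorMod E (Twist.twistProjSpace n k k₀)) 0))
    (φ : E ⟶ E) : ∃ r : k, φ = (VBLib.cst k E r : E ⟶ E) := by
  haveI := isProper_PS n k
  haveI : IsIntegral (CohB1.ProjSpace n k) := REqLib.isIntegral_projSpace n k
  haveI := EulerIneqLib.isNoetherian_proper (X := CohB1.ProjSpace n k) k
  obtain ⟨N, hN⟩ := AmpleEmb.eventually_isGloballyGenerated (AmpleEmb.isAmple_twistOne n k)
    (DCohLib.isCoh_of_isFinLocFree (KVb.isFinLocFree_of_rank hE))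
  have hg : Curv2.IsGloballyGenerated (CohB1.tensorMod E (Twist.twistProjSpace n k (N : ℤ))) :=
    AmpleLib.isGloballyGenerated_of_iso (AmpleLib.tIso (Iso.refl E) (CMRegLib.powTwistIso N)) (hN N le_rfl)
  have hEN := VBLib.HomPair.rank_tensor hE (CurveLib.isFinLocFreeOfRank_one (isInvertible_O n k (N : ℤ)))
  obtain ⟨r, hr | ⟨ψ, χ, hψ, hχ, hχψ⟩⟩ := exists_zero_divisor k E (freeAt_O (N : ℤ))
    (CurveLib.isCoh_of_isFinLocFree (KVb.isFinLocFree_of_rank hEN)) hg φ
  · exact ⟨r, hr⟩
  exfalso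
  have hufd : ∀ x : CohB1.ProjSpace n k, UniqueFactorizationMonoid ((CohB1.ProjSpace n k).presheaf.stalk x) :=
    fun x => by
      haveI := ProjSmoothLib.smooth_toSpec n k
      haveI := ASp.isRegularLocalRing_stalk_of_smooth_field (k := k) (CohB1.ProjSpace.toSpec n k) x
      exact RegLocal.ufd _
  have hK := isInvertible_kernel hufd hE ψ hψ fun hm => hχ ((cancel_mono ψ).1 (hχψ.trans zero_comp.symm))
  obtain ⟨a, ⟨i⟩⟩ := PicProjLib.exists_iso_twist hK
  let ι : Twist.twistProjSpace n k a ⟶ E := i.inv ≫ kernel.ι ψ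
  haveI : Mono ι := inferInstanceAs (Mono (_ ≫ _))
  let g : E ⟶ Twist.twistProjSpace n k a := kernel.lift ψ χ hχψ ≫ i.hom
  have hg0 : g ≠ 0 := fun h => hχ (by
    rw [← kernel.lift_ι ψ χ hχψ, (cancel_mono i.hom).1 (h.trans zero_comp.symm), zero_comp])
  rcases le_or_gt (-k₀) a with ha | ha
  · obtain ⟨m, hm⟩ := exists_hom_O (n := n) (k := k) ha
    obtain ⟨d⟩ := nonempty_dd_inverse (invO (n := n) (k := k) (-k₀) k₀ (by omega))
    exact not_subsingleton_of_hom k (CurveLib.isFinLocFreeOfRank_one (isInvertible_O n k (-k₀)))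
      (AmpleLib.tIso (Iso.refl E) d) (m ≫ ι)
      (fun h => hm ((cancel_mono ι).1 (h.trans zero_comp.symm))) h0
  · have hb : a ≤ k₀ + c := by omega
    obtain ⟨m, hm⟩ := exists_hom_O (n := n) (k := k) hb
    haveI : Mono m := CurveLib.mono_of_ne_zero (isInvertible_O n k a) (isInvertible_O n k _) hm
    obtain ⟨εE⟩ := nonempty_dual_two hE hL
    exact not_subsingleton_of_hom k hE
      (AmpleLib.tIso (mulO n k (show k₀ + c = k₀ + c from rfl)).symm (Iso.refl _) ≪≫ AmpleLib.assoc _ _ _ ≪≫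
        AmpleLib.tIso (Iso.refl _) (AmpleLib.tIso eL.symm (Iso.refl _) ≪≫ εE.symm) ≪≫ AmpleLib.comm _ _)
      (g ≫ m) (fun h => hg0 ((cancel_mono m).1 (h.trans zero_comp.symm))) h0

end

end Groth.Agent.HodgePnLib
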