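import Groth.Agent.HodgePnLib.HomSections
import Groth.Agent.HodgePnLib.SerreSplit
import Groth.Agent.DCohLib.TensorExact
import Mathlib.CategoryTheory.Abelian.CommSq

/-!
# Bundles as pushouts of resolutions
-/

set_option autoImplicit false
set_option backward.isDefEq.respectTransparency false
set_option linter.style.haveILetI false
set_option linter.unusedSectionVars false
set_option maxHeartbeats 1000000

universe u

open CategoryTheory CategoryTheory.Limits AlgebraicGeometry
open Groth.Agent.PullbackMod Groth.Agent.ParaFLib Groth.Agent.DCohLib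

noncomputable section

namespace Groth.Agent.HodgePnLib

/-- A retraction from an expansion of all functionals. -/
theorem exists_retraction {R : Type u} [CommRing R] {K P G : Type u} [AddCommGroup K] [Module R K] [AddCommGroup P]
    [Module R P] [AddCommGroup G] [Module R G] [Module.Free R K] [Module.Finite R K] (f : K →ₗ[R] P) (ψ : K →ₗ[R] G)
    (γ : R ≃ₗ[R] G) (h : ∀ l : K →ₗ[R] G, ∃ (μ : P →ₗ[R] G) (a : R), l = μ ∘ₗ f + a • ψ) :
    ∃ (r₁ : G →ₗ[R] K) (r₂ : P →ₗ[R] K), ∀ z, r₁ (ψ z) + r₂ (f z) = z := by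
  classical
  let b := Module.Free.chooseBasis R K
  choose μ a h using fun j => h (γ.toLinearMap ∘ₗ b.coord j)
  refine ⟨∑ j, (a j • γ.symm.toLinearMap).smulRight (b j), ∑ j, (γ.symm.toLinearMap ∘ₗ μ j).smulRight (b j),
    fun z => ?_⟩
  conv_rhs => rw [← b.sum_repr z]
  simp only [LinearMap.sum_apply, LinearMap.smulRight_apply, ← Finset.sum_add_distrib]
  refine Finset.sum_congr rfl fun j _ => ?_
  rw [← add_smul]
  refine congrArg (fun t : R => t • b j) ?_
  have hz : γ (b.coord j z) = μ j (f z) + a j • ψ z := LinearMap.congr_fun (h j) z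
  have h2 := congrArg γ.symm hz
  rw [LinearEquiv.symm_apply_apply, map_add, map_smul] at h2
  show a j • γ.symm (ψ z) + γ.symm (μ j (f z)) = _
  rw [add_comm, ← h2]
  rfl

/-- The extension obtained by pushing a resolution out is a bundle. -/
theorem exists_bundle_ext {X : Scheme.{u}} [IsLocallyNoetherian X] [PreconnectedSpace X] [Nonempty X]
    {T : ShortComplex X.Modules} (hT : T.ShortExact) {m b : ℕ} (h₁ : FlatMod.IsFinLocFreeOfRank m T.X₁)
    (h₂ : FlatMod.IsFinLocFreeOfRank b T.X₂) (x₀ : X) (h₀ : FreeAt 1 T.X₃ x₀) {G : X.Modules}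
    (hG : PicF.IsInvertible G) (ψ : T.X₁ ⟶ G)
    (h : ∀ x, ∀ l : T.X₁.presheaf.stalk x →ₗ[X.presheaf.stalk x] G.presheaf.stalk x,
      ∃ (μ : T.X₂.presheaf.stalk x →ₗ[X.presheaf.stalk x] G.presheaf.stalk x) (a : X.presheaf.stalk x),
        l = μ ∘ₗ stalkLin T.f x + a • stalkLin ψ x) :
    ∃ S : ShortComplex X.Modules, S.ShortExact ∧ FlatMod.IsFinLocFreeOfRank 2 S.X₂ ∧
      Nonempty (S.X₁ ≅ G) ∧ Nonempty (S.X₃ ≅ T.X₃) := by
  haveI := hT.mono_f
  haveI := hT.epi_g
  have hQ := rank_biprod h₂ (CurveLib.isFinLocFreeOfRank_one hG)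
  have hsq := IsPushout.of_hasPushout T.f ψ
  let E := pushout T.f ψ
  let p : E ⟶ T.X₃ := pushout.desc T.g 0 (by rw [T.zero, comp_zero])
  have hw : pushout.inr T.f ψ ≫ p = 0 := pushout.inr_desc _ _ _
  haveI : Mono (pushout.inr T.f ψ) := inferInstance
  haveI : Epi p := epi_of_epi_fac (show pushout.inl T.f ψ ≫ p = T.g from pushout.inl_desc _ _ _)
  let hc : IsColimit (CokernelCofork.ofπ p hw) := CokernelCofork.IsColimit.ofπ p hw
    (fun {Z} f hf => hT.gIsCokernel.desc (CokernelCofork.ofπ (pushout.inl T.f ψ ≫ f)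
      (by rw [← Category.assoc, pushout.condition, Category.assoc, hf, comp_zero])))
    (fun {Z} f hf => by
      refine pushout.hom_ext ?_ ?_
      · rw [← Category.assoc, pushout.inl_desc]
        exact hT.gIsCokernel.fac _ WalkingParallelPair.one
      · rw [← Category.assoc, pushout.inr_desc, zero_comp, hf])
    (fun {Z} f hf m hm => by
      refine (cancel_epi T.g).1 ?_
      have := hT.gIsCokernel.fac (CokernelCofork.ofπ (pushout.inl T.f ψ ≫ f)
        (by rw [← Category.assoc, pushout.condition, Category.assoc, hf, comp_zero])) WalkingParallelPair.one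
      exact ((Category.assoc _ _ _).symm.trans (congrArg (· ≫ m) (pushout.inl_desc T.g 0 _))).symm.trans
        ((congrArg (pushout.inl T.f ψ ≫ ·) hm).trans this.symm))
  let S : ShortComplex X.Modules := ShortComplex.mk (pushout.inr T.f ψ) p hw
  have hS : S.ShortExact := ShortComplex.ShortExact.mk' (S.exact_of_g_is_cokernel hc)
    (inferInstanceAs (Mono (pushout.inr T.f ψ))) (inferInstanceAs (Epi p))
  refine ⟨S, hS, ?_, ⟨Iso.refl _⟩, ⟨Iso.refl _⟩⟩
  haveI : Mono (hsq.shortComplex.f) :=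
    mono_of_mono_fac (show biprod.lift T.f (-ψ) ≫ biprod.fst = T.f from biprod.lift_fst _ _)
  have hW : hsq.shortComplex.ShortExact :=
    ShortComplex.ShortExact.mk' hsq.exact_shortComplex inferInstance hsq.epi_shortComplex_g
  have hGc := CurveLib.isCoh_of_isInvertible hG
  have hEc : Coh.IsCoh E :=
    ShStabLib.isCoh_of_iso ((cokernelIsCokernel _).coconePointUniqueUpToIso hW.gIsCokernel)
      (QCohLib.isCoh_kernel_cokernel hsq.shortComplex.f (CurveLib.isCoh_of_isFinLocFree (KVb.isFinLocFree_of_rank h₁))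
        (CurveLib.isCoh_of_isFinLocFree (KVb.isFinLocFree_of_rank hQ))).2
  haveI := hEc.1
  have hm : ∀ x, FreeAt (b + 1 - m) E x := fun x => by
    obtain ⟨e₁⟩ := CurveLib.freeAt_of_isFinLocFreeOfRank h₁ x
    obtain ⟨eQ⟩ := CurveLib.freeAt_of_isFinLocFreeOfRank hQ x
    obtain ⟨g, hg⟩ := ParaFLib.exists_stalk_gen hG x
    let R := X.presheaf.stalk x
    haveI : Module.Free R (T.X₁.presheaf.stalk x) := Module.Free.of_equiv e₁.symm
    haveI : Module.Finite R (T.X₁.presheaf.stalk x) := Module.Finite.equiv e₁.symm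
    haveI : Module.Free R ((T.X₂ ⊞ G).presheaf.stalk x) := Module.Free.of_equiv eQ.symm
    haveI : Module.Finite R ((T.X₂ ⊞ G).presheaf.stalk x) := Module.Finite.equiv eQ.symm
    obtain ⟨r₁, r₂, hr⟩ := exists_retraction (stalkLin T.f x) (stalkLin ψ x)
      (LinearEquiv.ofBijective (LinearMap.toSpanSingleton R _ g) hg) (h x)
    let i : T.X₁.presheaf.stalk x →ₗ[R] (T.X₂ ⊞ G).presheaf.stalk x := stalkLin (hsq.shortComplex.f) x
    let q : (T.X₂ ⊞ G).presheaf.stalk x →ₗ[R] E.presheaf.stalk x := stalkLin (hsq.shortComplex.g) x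
    let r : (T.X₂ ⊞ G).presheaf.stalk x →ₗ[R] T.X₁.presheaf.stalk x :=
      r₂ ∘ₗ stalkLin (biprod.fst : T.X₂ ⊞ G ⟶ T.X₂) x - r₁ ∘ₗ stalkLin (biprod.snd : T.X₂ ⊞ G ⟶ G) x
    have hri : ∀ z, r (i z) = z := fun z => by
      show r₂ (stalkLin _ x (stalkLin (biprod.lift T.f (-ψ)) x z)) - r₁ (stalkLin _ x (stalkLin (biprod.lift T.f (-ψ)) x z)) = z
      have hf1 : stalkLin (biprod.fst : T.X₂ ⊞ G ⟶ T.X₂) x (stalkLin (biprod.lift T.f (-ψ)) x z) = stalkLin T.f x z :=
        (LinearMap.congr_fun (stalkLin_comp _ _ x) z).symm.trans (by rw [biprod.lift_fst])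
      have hf2 : stalkLin (biprod.snd : T.X₂ ⊞ G ⟶ G) x (stalkLin (biprod.lift T.f (-ψ)) x z) = stalkLin (-ψ) x z :=
        (LinearMap.congr_fun (stalkLin_comp _ _ x) z).symm.trans (by rw [biprod.lift_snd])
      rw [hf1, hf2]
      have hneg : stalkLin (-ψ) x z = - stalkLin ψ x z := by
        rw [eq_neg_iff_add_eq_zero, ← LinearMap.add_apply, ← ASBunKS.stalkLin_add', neg_add_cancel]
        exact LinearMap.congr_fun ((eq_zero_iff_stalk _).1 rfl x) z
      rw [hneg, map_neg, sub_neg_eq_add, add_comm]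
      exact hr z
    have hx := (shortExact_iff_stkF _).1 hW x
    have hqs : Function.Surjective q := hx.moduleCat_surjective_g
    have hex : Function.Exact i q := by
      have := hx.exact
      rw [ShortComplex.moduleCat_exact_iff_range_eq_ker] at this
      exact LinearMap.exact_iff.2 this.symm
    let φ : (T.X₂ ⊞ G).presheaf.stalk x →ₗ[R] (T.X₁.presheaf.stalk x × E.presheaf.stalk x) := r.prod q
    have hφ : Function.Bijective φ := by
      refine ⟨(injective_iff_map_eq_zero _).2 fun z hz => ?_, fun ⟨u, v⟩ => ?_⟩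
      · obtain ⟨hz1, hz2⟩ := Prod.ext_iff.1 hz
        obtain ⟨w, rfl⟩ := (hex z).1 hz2
        exact (congrArg i ((hri w).symm.trans hz1)).trans (map_zero i)
      · obtain ⟨z, rfl⟩ := hqs v
        refine ⟨z + i (u - r z), Prod.ext ?_ ?_⟩
        · show r (z + i (u - r z)) = u
          rw [map_add, hri, add_sub_cancel]
        · show q (z + i (u - r z)) = q z
          rw [map_add, show q (i (u - r z)) = 0 from (hex _).2 ⟨_, rfl⟩, add_zero]
    let eP := LinearEquiv.ofBijective φ hφ
    haveI : Module.Finite R (E.presheaf.stalk x) := Module.Finite.of_surjective q hqs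
    haveI : Module.Free R ((T.X₁.presheaf.stalk x) × E.presheaf.stalk x) := Module.Free.of_equiv eP
    haveI : Module.Projective R (E.presheaf.stalk x) :=
      Module.Projective.of_split (LinearMap.inr R (T.X₁.presheaf.stalk x) (E.presheaf.stalk x))
        (LinearMap.snd R _ _) (LinearMap.snd_comp_inr _ _ _)
    haveI : Module.Free R (E.presheaf.stalk x) := Module.free_of_flat_of_isLocalRing
    have hrk := eP.finrank_eq
    rw [Module.finrank_prod, eQ.finrank_eq, e₁.finrank_eq, Module.finrank_fin_fun, Module.finrank_fin_fun] at hrk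
    exact ⟨(Module.Free.chooseBasis R _).equivFun.trans (LinearEquiv.funCongrLeft R R (Fintype.equivFinOfCardEq
      (by rw [← Module.finrank_eq_card_chooseBasisIndex]; omega)).symm)⟩
  have hb : m + 1 = b := (freeAt_unique T.X₂ (KVb.freeAt_mid hT (CurveLib.freeAt_of_isFinLocFreeOfRank h₁ x₀) h₀)
    (CurveLib.freeAt_of_isFinLocFreeOfRank h₂ x₀))
  refine (isFinLocFreeOfRank_iff_freeAt _ (QCohLib.isFP_of_isCoh _ hEc) _).2 fun x => ?_
  have := hm x
  rwa [show b + 1 - m = 2 by omega] at this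

end Groth.Agent.HodgePnLib
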