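import Groth.Agent.HodgePnLib.SerreSplit
import Groth.Agent.HodgePnLib.SerreVan
import Groth.Agent.VBLib.Twist
import Groth.Agent.CMRegLib.Bounded
import Groth.Agent.DCohLib.TensorPerf
import Groth.Agent.ASBunKS.TautCls

/-!
# Resolutions by line bundles on the projective plane
-/

set_option autoImplicit false
set_option backward.isDefEq.respectTransparency false
set_option linter.style.haveILetI false
set_option linter.unusedSectionVars false
set_option maxHeartbeats 1000000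

universe u

open CategoryTheory CategoryTheory.Limits AlgebraicGeometry
open Groth.Agent.PullbackMod

noncomputable section

namespace Groth.Agent.HodgePnLib

section General

variable {X : Scheme.{u}} (k : Type u) [Field k] [X.Over (Spec (CommRingCat.of k))]

include k in
/-- The maps from a line bundle to a module with finitely many sections in the inverse twist. -/
theorem exists_hom_spanning {L M F : X.Modules} (η : CohB1.tensorMod L M ≅ Coh.structureModule X)
    (hM : ∀ x, FreeAt 1 M x) [Module.Finite k (Coh.HH X (CohB1.tensorMod F M) 0)] :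
    ∃ (m : ℕ) (μ : Fin m → (L ⟶ F)), ∀ g : L ⟶ F, ∃ c : Fin m → k,
      g = ∑ b, μ b ≫ (VBLib.cst k F (c b) : F ⟶ F) := by
  let G := CurveLib.tensR M
  haveI : G.Additive := CurveLib.additive_tensR M
  haveI : G.IsEquivalence := VBLib.isEquivalence_tensR (AmpleLib.comm M L ≪≫ η)
  let η' : G.obj L ≅ Coh.structureModule X := η
  haveI : Module.Finite k (Coh.HH X (G.obj F) 0) := (inferInstance : Module.Finite k (Coh.HH X (CohB1.tensorMod F M) 0))
  obtain ⟨m, E, hE⟩ := CMRegLib.exists_hom_coords (k := k) (G.obj F)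
  refine ⟨m, fun b => G.preimage (η'.hom ≫ E b), fun g => ?_⟩
  obtain ⟨c, hc⟩ := hE (η'.inv ≫ G.map g)
  refine ⟨c, sub_eq_zero.1 (eq_zero_of_tensR hM _ ?_)⟩
  show G.map _ = 0
  rw [G.map_sub, G.map_sum, sub_eq_zero]
  calc G.map g = η'.hom ≫ (η'.inv ≫ G.map g) := (Iso.hom_inv_id_assoc η' _).symm
    _ = _ := by
      rw [hc, Preadditive.comp_sum]
      refine Finset.sum_congr rfl fun b _ => ?_
      rw [G.map_comp, G.map_preimage, VBLib.Dual.tensR_map_cst, Category.assoc, ← CMRegLib.cst_eq_smulMod]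

include k in
/-- Lifting of all maps from a line bundle kills the first cohomology of the kernel. -/
theorem subsingleton_H1_of_lifts {S : ShortComplex X.Modules} (hS : S.ShortExact) {L M : X.Modules}
    (η : CohB1.tensorMod L M ≅ Coh.structureModule X) (hM : ∀ x, FreeAt 1 M x)
    (h : ∀ g : L ⟶ S.X₃, ∃ f : L ⟶ S.X₂, f ≫ S.g = g)
    (h₂ : Subsingleton (Coh.HH X (CohB1.tensorMod S.X₂ M) 1)) :
    Subsingleton (Coh.HH X (CohB1.tensorMod S.X₁ M) 1) := by
  let G := CurveLib.tensR M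
  haveI : G.Additive := CurveLib.additive_tensR M
  haveI : G.IsEquivalence := VBLib.isEquivalence_tensR (AmpleLib.comm M L ≪≫ η)
  let η' : G.obj L ≅ Coh.structureModule X := η
  have hT := CurveLib.shortExact_tensR hS (E := M) hM
  have hsurj : Function.Surjective (CurveLib.hMap (k := k) (G.map S.g) 0) := fun w => by
    obtain ⟨g, hg⟩ : ∃ g : L ⟶ S.X₃, G.map g = η'.hom ≫ DCohLib.secHom (G.obj S.X₃) (CurveLib.secOf _ w) :=
      ⟨G.preimage _, G.map_preimage _⟩
    obtain ⟨f, hf⟩ := h g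
    refine ⟨(CurveLib.secOf (G.obj S.X₂)).symm (AmpleLib.sec (η'.inv ≫ G.map f)), ?_⟩
    refine (CurveLib.secOf (G.obj S.X₃)).injective ?_
    rw [CurveLib.secOf_hMap, AddEquiv.apply_symm_apply]
    refine Eq.trans (show _ = AmpleLib.sec ((η'.inv ≫ G.map f) ≫ G.map S.g) from rfl) ?_
    rw [Category.assoc, ← G.map_comp, hf, hg, Iso.inv_hom_id_assoc, AmpleLib.sec_secHom]
  refine subsingleton_of_forall_eq 0 fun x => ?_
  obtain ⟨w, rfl⟩ := (CurveLib.range_hδ (k := k) hT 0).ge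
    (show x ∈ LinearMap.ker _ from LinearMap.mem_ker.2 (@Subsingleton.elim _ h₂ _ _))
  obtain ⟨z, rfl⟩ := hsurj w
  exact LinearMap.mem_ker.1 ((CurveLib.range_hMap_g (k := k) hT 0).le ⟨z, rfl⟩)

/-- Twisted sections of a sum of line bundles. -/
theorem flf_sigma_line {m : ℕ} (f : Fin m → X.Modules) (hf : ∀ j, PicF.IsInvertible (f j)) :
    FlatMod.IsFinLocFree (∐ f) :=
  DCohLib.isFinLocFree_sigma m f fun j => CurveLib.isFinLocFree_of_isInvertible (hf j)

include k in
/-- Cohomology of a twisted finite sum. -/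
theorem subsingleton_sigma_twist {m p : ℕ} (f : Fin m → X.Modules) (N : X.Modules)
    (h : ∀ j, Subsingleton (Coh.HH X (CohB1.tensorMod (f j) N) p)) :
    Subsingleton (Coh.HH X (CohB1.tensorMod (∐ f) N) p) := by
  let H := CurveLib.tensR N
  haveI : PreservesFiniteColimits H := CurveLib.preservesFiniteColimits_tensR N
  exact subsingleton_iso k (PreservesCoproduct.iso H f).symm (subsingleton_sigma k _ h)

/-- A map out of a line bundle into a bundle killed by a nonzero map of line bundles vanishes. -/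
theorem eq_zero_of_comp_line [IsIntegral X] [IsLocallyNoetherian X] {A B M F : X.Modules} {r : ℕ}
    (hA : PicF.IsInvertible A) (hB : PicF.IsInvertible B) (hM : PicF.IsInvertible M)
    (η : CohB1.tensorMod B M ≅ Coh.structureModule X) (hF : FlatMod.IsFinLocFreeOfRank r F)
    {m : A ⟶ B} (hm : m ≠ 0) (g : B ⟶ F) (h : m ≫ g = 0) : g = 0 := by
  let G := CurveLib.tensR M
  let η' : G.obj B ≅ Coh.structureModule X := η
  let x := genericPoint X
  have hg : stalkLin g x = 0 := LinearMap.ext fun w => by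
    obtain ⟨a, rfl⟩ := (CurveLib.bijective_stalkLin_generic hA hB hm).2 w
    exact (LinearMap.congr_fun (stalkLin_comp m g x) a).symm.trans
      ((LinearMap.congr_fun ((eq_zero_iff_stalk _).1 h x) a))
  have hG : stalkLin (G.map g) x = 0 := LinearMap.ext fun w => by
    obtain ⟨t, rfl⟩ := (DCohLib.stalkTensor x B M).surjective w
    refine (DCohLib.stalkTensor_natural_left x g t).trans ?_
    rw [hg, LinearMap.rTensor_zero, LinearMap.zero_apply, map_zero, LinearMap.zero_apply]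
  let σ : Coh.structureModule X ⟶ G.obj F := η'.inv ≫ G.map g
  have hsec : AmpleLib.sec σ = 0 := by
    refine HopfSecLib.eq_zero_of_germ_generic (E := G.obj F) (KVb.isFinLocFree_of_rank (rank_twistBy hF hM)) _ ?_
    show (G.obj F).presheaf.germ ⊤ x trivial (σ.app ⊤ (1 : Γ(X, ⊤))) = 0
    rw [← stalkLin_germ, stalkLin_comp, LinearMap.comp_apply, hG, LinearMap.zero_apply]
  have hσ : σ = 0 := by
    rw [← AmpleLib.secHom_sec σ, hsec, ← AmpleLib.secHom_sec (0 : Coh.structureModule X ⟶ G.obj F)]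
    refine congrArg _ ?_
    show _ = (0 : Coh.structureModule X ⟶ G.obj F).app ⊤ (1 : Γ(X, ⊤))
    rw [Scheme.Modules.Hom.zero_app]
    rfl
  refine eq_zero_of_tensR (fun y => CurveLib.freeAt_one_of_isInvertible hM y) g ?_
  exact (cancel_epi η'.inv).1 (hσ.trans comp_zero.symm)

end General

variable {k : Type u} [Field k]

local notation "PS" => CohB1.ProjSpace 2 k
local notation "O(" d ")" => Twist.twistProjSpace 2 k d

/-- A bundle without sections on the plane has a resolution by negative line bundles. -/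
theorem exists_negative_resolution (F : (PS).Modules) (hF : FlatMod.IsFinLocFree F)
    (h0 : Subsingleton (Coh.HH PS F 0)) :
    ∃ (r s : ℕ) (kk : Fin r → ℤ) (mm : Fin s → ℤ) (S : ShortComplex (PS).Modules),
      S.ShortExact ∧ (∀ i, kk i < 0) ∧ (∀ j, mm j < 0) ∧
      Nonempty (S.X₁ ≅ ∐ fun i : Fin r => O(kk i)) ∧
      Nonempty (S.X₂ ≅ ∐ fun j : Fin s => O(mm j)) ∧ Nonempty (S.X₃ ≅ F) := by
  classical
  haveI := isProper_PS 2 k
  haveI : IsIntegral PS := REqLib.isIntegral_projSpace 2 k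
  haveI := EulerIneqLib.isNoetherian_proper (X := PS) k
  have hFc : Coh.IsCoh F := CurveLib.isCoh_of_isFinLocFree hF
  haveI hfin : ∀ d : ℤ, Module.Finite k (Coh.HH PS (CohB1.tensorMod F (O(d))) 0) := fun d =>
    EulerIneqLib.finite_HH (k := k)
      (CurveLib.isCoh_tmod hFc (CurveLib.isCoh_of_isInvertible (isInvertible_O 2 k d))) 0
  choose num μ hμ using fun d : ℕ =>
    exists_hom_spanning k (F := F) (invO (n := 2) (k := k) (-((d : ℤ) + 1)) ((d : ℤ) + 1) (by omega)) (freeAt_O _)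
  -- the map out of all the sums up to a bound
  let mdeg : ∀ D : ℕ, Fin (∑ d : Fin D, num d) → ℤ := fun D j => -(((finSigmaFinEquiv.symm j).1 : ℕ) + 1 : ℤ)
  let β : ∀ D : ℕ, (∐ fun j => O(mdeg D j)) ⟶ F := fun D =>
    Sigma.desc fun j => μ ((finSigmaFinEquiv.symm j).1 : ℕ) (finSigmaFinEquiv.symm j).2
  have hliftμ : ∀ (D d : ℕ) (hd : d < D) (b : Fin (num d)),
      ∃ f : O(-((d : ℤ) + 1)) ⟶ ∐ fun j => O(mdeg D j), f ≫ β D = μ d b := fun D d hd b => by
    obtain ⟨j, hj⟩ := (finSigmaFinEquiv (n := fun d : Fin D => num d)).symm.surjective ⟨⟨d, hd⟩, b⟩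
    have key : ∀ (p : Σ d' : Fin D, Fin (num d')), p = ⟨⟨d, hd⟩, b⟩ →
        ∀ (f : O(-(((p.1 : ℕ) : ℤ) + 1)) ⟶ ∐ fun j => O(mdeg D j)), f ≫ β D = μ p.1 p.2 →
          ∃ f : O(-((d : ℤ) + 1)) ⟶ ∐ fun j => O(mdeg D j), f ≫ β D = μ d b := by
      rintro p rfl f hf
      exact ⟨f, hf⟩
    exact key _ hj (Sigma.ι (fun j => O(mdeg D j)) j) (Sigma.ι_desc _ _)
  have hlift : ∀ (D d : ℕ), d < D → ∀ g : O(-((d : ℤ) + 1)) ⟶ F,
      ∃ f : O(-((d : ℤ) + 1)) ⟶ ∐ fun j => O(mdeg D j), f ≫ β D = g := fun D d hd g => by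
    obtain ⟨c, rfl⟩ := hμ d g
    choose f hf using hliftμ D d hd
    refine ⟨∑ b, f b ≫ (VBLib.cst k (∐ fun j => O(mdeg D j)) (c b) : _ ⟶ _), ?_⟩
    rw [Preadditive.sum_comp]
    refine Finset.sum_congr rfl fun b _ => ?_
    rw [Category.assoc, VBLib.cst_natural, ← Category.assoc, hf]
  -- a bound making the map epi
  obtain ⟨N₀, hN₀⟩ := AmpleEmb.eventually_isGloballyGenerated (AmpleEmb.isAmple_twistOne 2 k) hFc
  have hg : Curv2.IsGloballyGenerated (CohB1.tensorMod F (O(((N₀ + 1 : ℕ) : ℤ)))) :=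
    AmpleLib.isGloballyGenerated_of_iso (AmpleLib.tIso (Iso.refl F) (CMRegLib.powTwistIso (N₀ + 1))) (hN₀ _ (by omega))
  have hepi : ∀ D, N₀ < D → Epi (β D) := fun D hD => by
    refine Preadditive.epi_of_cancel_zero _ fun {Z} φ hφ => ?_
    let G := CurveLib.tensR (O(((N₀ + 1 : ℕ) : ℤ)))
    haveI : G.Additive := CurveLib.additive_tensR _
    let η : CohB1.tensorMod (O(-((N₀ : ℤ) + 1))) (O(((N₀ + 1 : ℕ) : ℤ))) ≅ Coh.structureModule PS :=
      invO (-((N₀ : ℤ) + 1)) ((N₀ + 1 : ℕ) : ℤ) (by omega)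
    haveI : G.IsEquivalence := VBLib.isEquivalence_tensR (AmpleLib.comm _ _ ≪≫ η)
    let η' : G.obj (O(-((N₀ : ℤ) + 1))) ≅ Coh.structureModule PS := η
    refine eq_zero_of_tensR (freeAt_O _) φ (eq_zero_of_sections k hg _ fun z => ?_)
    let σ := DCohLib.secHom (G.obj F) (CurveLib.secOf _ z)
    obtain ⟨g, hg'⟩ : ∃ g : O(-((N₀ : ℤ) + 1)) ⟶ F, G.map g = η'.hom ≫ σ := ⟨G.preimage _, G.map_preimage _⟩
    obtain ⟨f, hf⟩ := hlift D N₀ hD g
    have h1 : σ ≫ G.map φ = 0 := by
      rw [← cancel_epi η'.hom, ← Category.assoc, ← hg', ← G.map_comp, ← hf, Category.assoc, hφ, comp_zero,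
        G.map_zero, comp_zero]
    refine (CurveLib.secOf (G.obj Z)).injective ?_
    rw [CurveLib.secOf_hMap, map_zero]
    refine Eq.trans (congrArg ((G.map φ).app ⊤) (AmpleLib.sec_secHom (CurveLib.secOf (G.obj F) z)).symm) ?_
    show AmpleLib.sec (σ ≫ G.map φ) = 0
    rw [h1]
    show (0 : Coh.structureModule PS ⟶ G.obj Z).app ⊤ _ = 0
    rw [Scheme.Modules.Hom.zero_app]
    rfl
  have hsum : ∀ D, ∀ (d : ℤ) (p : ℕ), 0 < p → p < 2 →
      CMRegLib.HT (∐ fun j => O(mdeg D j)) d p := fun D d p hp hp2 =>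
    subsingleton_sigma_twist k _ _ fun j => CMRegLib.HT_twist _ _ hp (Or.inr hp2.ne)
  have hker : ∀ D, N₀ < D → FlatMod.IsFinLocFree (kernel (β D)) := fun D hD => by
    haveI := hepi D hD
    exact DCohLib.isFinLocFree_of_shortExact (CMRegLib.shortExact_ker (β D))
      (flf_sigma_line _ fun j => isInvertible_O 2 k _) hF
  -- the first bound
  haveI := hepi (N₀ + 1) (by omega)
  obtain ⟨d₁, hd₁⟩ := CMRegLib.eventually_vanish (CurveLib.isCoh_of_isFinLocFree (hker (N₀ + 1) (by omega)))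
    (p := 1) one_pos
  let D := N₀ + 1 + d₁.toNat
  haveI := hepi D (by omega)
  have hT := CMRegLib.shortExact_ker (β D)
  have hmap : ∀ d : ℕ, ∀ g : O(-((d : ℤ) + 1)) ⟶ F,
      ∃ f : O(-((d : ℤ) + 1)) ⟶ ∐ fun j => O(mdeg D j), f ≫ β D = g := fun d g => by
    rcases Nat.lt_or_ge d D with hd | hd
    · exact hlift D d hd g
    obtain ⟨dd₀⟩ := nonempty_dd_inverse
      (invO (n := 2) (k := k) (-((d : ℤ) + 1)) ((d : ℤ) + 1) (by omega))
    obtain ⟨f, hf⟩ := exists_lift_ext k (CMRegLib.shortExact_ker (β (N₀ + 1)))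
      (CurveLib.isFinLocFreeOfRank_one (isInvertible_O 2 k _))
      (subsingleton_iso k (AmpleLib.tIso (Iso.refl _) dd₀).symm (hd₁ ((d : ℤ) + 1) (by omega))) g
    choose t ht using fun j : Fin (∑ d : Fin (N₀ + 1), num d) =>
      hliftμ D ((finSigmaFinEquiv.symm j).1 : ℕ) (by omega) (finSigmaFinEquiv.symm j).2
    have htβ : Sigma.desc t ≫ β D = β (N₀ + 1) :=
      Sigma.hom_ext _ _ fun j => by rw [Sigma.ι_desc_assoc, Sigma.ι_desc]; exact ht j
    exact ⟨f ≫ Sigma.desc t, by rw [Category.assoc, htβ]; exact hf⟩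
  have hKH1 : ∀ d : ℤ, CMRegLib.HT (kernel (β D)) d 1 := fun d => by
    refine subsingleton_H1_of_lifts k hT (invO (n := 2) (k := k) (-d) d (neg_add_cancel d)) (freeAt_O d)
      (fun g => ?_) (hsum D d 1 one_pos one_lt_two)
    rcases le_or_gt d 0 with hd | hd
    · refine ⟨0, ?_⟩
      rw [zero_comp]
      by_contra hne
      obtain ⟨m, hm⟩ := exists_hom_O (n := 2) (k := k) (show (0 : ℤ) ≤ -d by omega)
      obtain ⟨z⟩ := nonempty_O_zero 2 k
      obtain ⟨r, hr⟩ := ASBunKS.exists_rank' hF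
      refine not_subsingleton_of_section (z.inv ≫ m ≫ g) (fun h => hne (Eq.symm ?_)) h0
      exact eq_zero_of_comp_line (isInvertible_O 2 k 0) (isInvertible_O 2 k (-d)) (isInvertible_O 2 k d)
        (invO (-d) d (neg_add_cancel d)) hr hm g ((cancel_epi z.inv).1 (h.trans comp_zero.symm))
    · obtain ⟨e, rfl⟩ : ∃ e : ℕ, d = (e : ℤ) + 1 := ⟨(d - 1).toNat, by omega⟩
      exact hmap e g
  obtain ⟨r, hr⟩ := ASBunKS.exists_rank' (hker D (by omega))
  obtain ⟨kk, ⟨eK⟩⟩ := HorrocksPnLib.splits_of_vanishing r (kernel (β D)) hr fun p d hp hp2 => by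
    obtain rfl : p = 1 := by omega
    exact hKH1 d
  refine ⟨r, _, kk, mdeg D, _, hT, fun i => ?_, fun j => by simp only [mdeg]; omega, ⟨eK⟩, ⟨Iso.refl _⟩,
    ⟨Iso.refl _⟩⟩
  by_contra hk
  obtain ⟨m, hm⟩ := exists_hom_O (n := 2) (k := k) (show (0 : ℤ) ≤ kk i by omega)
  obtain ⟨z⟩ := nonempty_O_zero 2 k
  have hK0 : Subsingleton (Coh.HH PS (kernel (β D)) 0) :=
    subsingleton_first_zero k hT (subsingleton_sigma k _ fun j =>
      subsingleton_O 2 k (by simp only [mdeg]; omega) (by omega))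
  refine not_subsingleton_of_section (z.inv ≫ m ≫ Sigma.ι (fun i => O(kk i)) i ≫ eK.inv) (fun h => hm ?_) hK0
  have h1 := (cancel_epi z.inv).1 (h.trans comp_zero.symm)
  exact (cancel_mono (Sigma.ι (fun i => O(kk i)) i ≫ eK.inv)).1 (h1.trans zero_comp.symm)

end Groth.Agent.HodgePnLib
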