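import Groth.Agent.HodgePnLib.Span
import Groth.Agent.DCohLib.Pullback
import Groth.Agent.DCohLib.PullPerf
import Groth.Agent.AmpleLib.Pullback

/-!
# The restriction of the differentials of projective space to linear subspaces
-/

set_option autoImplicit false
set_option backward.isDefEq.respectTransparency false
set_option linter.style.haveILetI false
set_option maxHeartbeats 1000000

universe u

open CategoryTheory CategoryTheory.Limits AlgebraicGeometry

noncomputable section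

namespace Groth.Agent.HodgePnLib

variable {n m : ℕ} {k : Type u} [Field k] (i : CohB1.ProjSpace m k ⟶ CohB1.ProjSpace n k)

local notation "PS" => CohB1.ProjSpace
local notation "O₁" => Twist.twistProjSpace

theorem nonempty_pullback_omega_twist
    (hO : Nonempty ((Scheme.Modules.pullback i).obj (O₁ n k 1) ≅ O₁ m k 1)) :
    ∃ P, n = m + P ∧ Nonempty ((Scheme.Modules.pullback i).obj
        (CohB1.tensorMod (Omega.sheaf (CohB1.ProjSpace.toSpec n k)) (O₁ n k 1)) ≅
      CohB1.tensorMod (Omega.sheaf (CohB1.ProjSpace.toSpec m k)) (O₁ m k 1) ⊞ FlatMod.freeMod (PS m k) P) := by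
  obtain ⟨e⟩ := hO
  obtain ⟨S, hS, ⟨e₁⟩, ⟨e₂⟩, ⟨e₃⟩⟩ := exists_euler_ses n k
  let F := Scheme.Modules.pullback i
  have hT : (S.map F).ShortExact := DCohLib.shortExact_pullback_of_isFlat i S hS
    (DCohLib.isFlat_of_flf (DCohLib.isFinLocFree_iso e₃.symm (flf_O n k 1)))
  let q : FlatMod.freeMod (PS m k) (n + 1) ⟶ O₁ m k 1 :=
    (DCohLib.pullFreeIso i (n + 1)).inv ≫ F.map e₂.inv ≫ (S.map F).g ≫ F.map e₃.hom ≫ e.hom
  haveI := hT.epi_g
  haveI := hT.mono_f
  haveI : Epi q := inferInstance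
  obtain ⟨P, hP, ⟨j⟩⟩ := nonempty_kernel_O1 m k q
  refine ⟨P, by omega, ⟨F.mapIso e₁.symm ≪≫ IsLimit.conePointUniqueUpToIso hT.fIsKernel (limit.isLimit _) ≪≫ ?_ ≪≫ j⟩⟩
  exact kernel.mapIso (S.map F).g q (F.mapIso e₂ ≪≫ DCohLib.pullFreeIso i (n + 1)) (F.mapIso e₃ ≪≫ e)
    (by simp [q])

theorem nonempty_pullback_omega
    (hO : Nonempty ((Scheme.Modules.pullback i).obj (O₁ n k 1) ≅ O₁ m k 1)) :
    ∃ P, n = m + P ∧ Nonempty ((Scheme.Modules.pullback i).obj (Omega.sheaf (CohB1.ProjSpace.toSpec n k)) ≅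
      Omega.sheaf (CohB1.ProjSpace.toSpec m k) ⊞ ∐ fun _ : Fin P => O₁ m k (-1)) := by
  obtain ⟨P, hP, ⟨f⟩⟩ := nonempty_pullback_omega_twist i hO
  obtain ⟨e⟩ := hO
  let G := CurveLib.tensR (O₁ m k (-1))
  haveI : G.Additive := CurveLib.additive_tensR _
  haveI : PreservesFiniteColimits G := CurveLib.preservesFiniteColimits_tensR _
  haveI : PreservesBinaryBiproducts G := preservesBinaryBiproducts_of_preservesBiproducts G
  refine ⟨P, hP, ⟨(untwist m k _).symm ≪≫
    AmpleLib.tIso ((AmpleLib.tIso (Iso.refl _) e).symm ≪≫ (AmpleLib.pullTensor i _ _).symm ≪≫ f) (Iso.refl _) ≪≫ G.mapBiprod _ _ ≪≫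
      biprod.mapIso (untwist m k _)
        (PreservesCoproduct.iso G _ ≪≫ Sigma.mapIso fun _ => AmpleLib.unitL _)⟩⟩

end Groth.Agent.HodgePnLib
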