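import Groth.Agent.HodgePnLib.Euler
import Groth.Agent.HodgePnLib.ExtSES
import Groth.Agent.HodgePnLib.FreeExt
import Groth.Agent.KVbLib.Twist
import Groth.Agent.KVbLib.Rank
import Groth.Agent.KVbLib.PullExt
import Groth.Agent.DCohMore.TwistProj

/-!
# The sequences relating the twisted exterior powers of the differentials of projective space
-/

set_option autoImplicit false
set_option backward.isDefEq.respectTransparency false
set_option linter.style.haveILetI false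
set_option maxHeartbeats 1000000

universe u

open CategoryTheory CategoryTheory.Limits AlgebraicGeometry

noncomputable section

namespace Groth.Agent.HodgePnLib

variable (n : ℕ) (A : Type u) [CommRing A]

local notation "PS" => CohB1.ProjSpace n A
local notation "str" => CohB1.ProjSpace.toSpec n A
local notation "O(" d ")" => Twist.twistProjSpace n A d
local notation "Ω¹" => Omega.sheaf (CohB1.ProjSpace.toSpec n A)

theorem isInvertible_O (d : ℤ) : PicF.IsInvertible (O(d)) :=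
  ProjTwistLib.isInvertible_of_hasUnit (DCohMore.TwistFam.hasUnit_twist n A d)

theorem flf_O (d : ℤ) : FlatMod.IsFinLocFree (O(d)) := CurveLib.isFinLocFree_of_isInvertible (isInvertible_O n A d)

theorem nonempty_O_zero : Nonempty (O(0) ≅ Coh.structureModule PS) := ⟨DCohMore.TwistFam.projMulZero n A⟩

/-- `O(a) ⊗ O(b) ≅ O(c)` for `a + b = c`. -/
def mulO {a b c : ℤ} (h : a + b = c) : CohB1.tensorMod (O(a)) (O(b)) ≅ O(c) :=
  ProjTwistLib.mulIso h (DCohMore.TwistFam.hasUnit_twist n A a)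

theorem nonempty_pow : ∀ i : ℕ, Nonempty (CohB1.tensorPow (O(1)) i ≅ O((i : ℤ)))
  | 0 => ⟨(DCohMore.TwistFam.projMulZero n A).symm⟩
  | i + 1 => (nonempty_pow i).map fun e => AmpleLib.tIso e (Iso.refl _) ≪≫ mulO n A (by push_cast; ring)

theorem flf_tmod {M N : (PS).Modules} (hM : FlatMod.IsFinLocFree M) (hN : FlatMod.IsFinLocFree N) :
    FlatMod.IsFinLocFree (CohB1.tensorMod M N) := DCohLib.isFinLocFree_tensor hM hN

/-- Undoing a twist by `O(1)`. -/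
def untwist (M : (PS).Modules) : CohB1.tensorMod (CohB1.tensorMod M (O(1))) (O(-1)) ≅ M :=
  AmpleLib.assoc M (O(1)) (O(-1)) ≪≫
    AmpleLib.tIso (Iso.refl M) (mulO n A (a := 1) (b := -1) (c := 0) (by norm_num) ≪≫ DCohMore.TwistFam.projMulZero n A) ≪≫
    AmpleLib.unitR M

theorem flf_omega : FlatMod.IsFinLocFree Ω¹ := by
  obtain ⟨S, hS, ⟨e₁⟩, ⟨e₂⟩, ⟨e₃⟩⟩ := exists_euler_ses n A
  have h := DCohLib.isFinLocFree_iso e₁ (DCohLib.isFinLocFree_of_shortExact hS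
    (DCohLib.isFinLocFree_iso e₂.symm (DCohLib.isFinLocFree_freeMod (n + 1)))
    (DCohLib.isFinLocFree_iso e₃.symm (flf_O n A 1)))
  exact DCohLib.isFinLocFree_iso (untwist n A Ω¹) (flf_tmod n A h (flf_O n A (-1)))

theorem exists_omega (j : ℕ) : ∃ L : (PS).Modules, ExtPow.IsExtPow j Ω¹ L := by
  obtain ⟨L, -, hL⟩ := KVb.hasExt j Ω¹ (flf_omega n A)
  exact ⟨L, hL⟩

/-- `0 → Ω^{j+1}(m) → O(m-j-1)^N → Ω^j(m) → 0`. -/
theorem exists_seq (j : ℕ) (m : ℤ) {L L' : (PS).Modules} (hL : ExtPow.IsExtPow (j + 1) Ω¹ L)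
    (hL' : ExtPow.IsExtPow j Ω¹ L') :
    ∃ T : ShortComplex (PS).Modules, T.ShortExact ∧ Nonempty (T.X₁ ≅ CohB1.tensorMod L (O(m))) ∧
      Nonempty (T.X₂ ≅ ∐ fun _ : Fin ((n + 1).choose (j + 1)) => O(m - (j + 1))) ∧
      Nonempty (T.X₃ ≅ CohB1.tensorMod L' (O(m))) := by
  obtain ⟨S, hS, ⟨e₁⟩, ⟨e₂⟩, ⟨e₃⟩⟩ := exists_euler_ses n A
  have h₁ : FlatMod.IsFinLocFree S.X₁ :=
    DCohLib.isFinLocFree_iso e₁.symm (flf_tmod n A (flf_omega n A) (flf_O n A 1))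
  have h₂ : FlatMod.IsFinLocFree S.X₂ := DCohLib.isFinLocFree_iso e₂.symm (DCohLib.isFinLocFree_freeMod _)
  have h₃ : PicF.IsInvertible S.X₃ := ParaFLib.isInvertible_of_iso e₃.symm (isInvertible_O n A 1)
  haveI := (PullbackMod.isQCoh_and_isFP_of_isFinLocFree _ h₁).1
  obtain ⟨M, -, hM⟩ := ExtPowLib.exists_isExtPow S.X₁ (j + 1)
  obtain ⟨M', -, hM'⟩ := ExtPowLib.exists_isExtPow S.X₁ j
  have hrk := CurveLib.isFinLocFreeOfRank_one (isInvertible_O n A 1)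
  obtain ⟨a⟩ := KVb.isExtPow_twist hrk (KVb.isExtPow_iso e₁ (Iso.refl M) hM) hL
  obtain ⟨a'⟩ := KVb.isExtPow_twist hrk (KVb.isExtPow_iso e₁ (Iso.refl M') hM') hL'
  have hB := KVb.isExtPow_iso e₂.symm (Iso.refl _) (exists_extPow_free str n (j + 1))
  obtain ⟨T, hT, ⟨t₁⟩, ⟨t₂⟩, ⟨t₃⟩⟩ := exists_extPow_ses hS h₁ h₂ h₃ j hM hB hM'
  obtain ⟨p⟩ := nonempty_pow n A (j + 1)
  obtain ⟨p'⟩ := nonempty_pow n A j
  let N := O(m - (j + 1))
  let G := CurveLib.tensR N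
  refine ⟨T.map G, CurveLib.shortExact_tensR hT
    (fun x => CurveLib.freeAt_one_of_isInvertible (isInvertible_O n A _) x), ⟨?_⟩, ⟨?_⟩, ⟨?_⟩⟩
  · exact AmpleLib.tIso (t₁ ≪≫ a ≪≫ AmpleLib.tIso (Iso.refl L) p) (Iso.refl N) ≪≫ AmpleLib.assoc _ _ _ ≪≫
      AmpleLib.tIso (Iso.refl L) (mulO n A (by push_cast; ring))
  · haveI : PreservesFiniteColimits G := CurveLib.preservesFiniteColimits_tensR N
    exact G.mapIso t₂ ≪≫ PreservesCoproduct.iso G _ ≪≫ Sigma.mapIso fun _ => AmpleLib.unitL N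
  · exact AmpleLib.tIso (t₃ ≪≫ AmpleLib.tIso (a' ≪≫ AmpleLib.tIso (Iso.refl L') p') e₃ ≪≫ AmpleLib.assoc _ _ _ ≪≫
      AmpleLib.tIso (Iso.refl L') (mulO n A rfl)) (Iso.refl N) ≪≫ AmpleLib.assoc _ _ _ ≪≫
      AmpleLib.tIso (Iso.refl L') (mulO n A (by push_cast; ring))

end Groth.Agent.HodgePnLib
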