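import Groth.Agent.HodgePnLib.HomSections
import Groth.Agent.S15520
import Groth.Agent.ContraResLib.Hom
import Groth.Agent.FundLocIsoLib.Main
import Groth.Agent.ProjSerreLib.Codim

/-!
# The Ext sheaves of a closed subscheme from a resolution of its ideal
-/

set_option autoImplicit false
set_option backward.isDefEq.respectTransparency false
set_option linter.style.haveILetI false
set_option linter.unusedSectionVars false
set_option maxHeartbeats 1000000

universe u

open CategoryTheory CategoryTheory.Limits AlgebraicGeometry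
open Groth.Agent.PullbackMod Groth.Agent.ParaFLib Groth.Agent.StalkHomLib

noncomputable section

namespace Groth.Agent.HodgePnLib

variable {X Y : Scheme.{u}} {i : Y ⟶ X} [IsClosedImmersion i]

local instance hasHFD (M : X.Modules) : ModSite.HasSheafHom (O := X.sheaf) M :=
  ModTensor.hasSheafHom (O := X.sheaf) M

/-- The terms of the resolution of `i_*O` obtained from one of the ideal. -/
def resX (K P : X.Modules) : ℕ → X.Modules
  | 0 => Coh.structureModule X
  | 1 => P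
  | 2 => K
  | _ + 3 => FlatMod.freeMod X 0

/-- The differentials of that resolution. -/
def resD {K P : X.Modules} (f : K ⟶ P) (a : P ⟶ Coh.structureModule X) : ∀ j, resX K P (j + 1) ⟶ resX K P j
  | 0 => a
  | 1 => f
  | _ + 2 => 0

theorem isZero_freeMod_zero : IsZero (FlatMod.freeMod X 0) :=
  (IsZero.iff_id_eq_zero _).2 (Sigma.hom_ext _ _ fun i => i.elim0)

theorem hom_app_eq_zero {A B : X.Modules} (hA : FlatMod.IsFinLocFree A) (G : X.Modules) :
    (ExtShLib.hFMap (0 : A ⟶ B)).app G = 0 :=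
  (eq_zero_iff_stalk _).2 fun x => LinearMap.ext fun z =>
    (LocFreeHomLib.theta_bijective_flf A hA G x).1 (LinearMap.ext fun f => by
      rw [theta_hFMap', (eq_zero_iff_stalk (0 : A ⟶ B)).1 rfl x]
      simp)

/-- Low degree homology of a cochain complex. -/
theorem exists_low_homology {A : Type*} [Category A] [Abelian A] (C : CochainComplex A ℕ)
    (h0 : IsZero (C.homology 0)) (h1 : IsZero (C.homology 1)) (h23 : C.d 2 3 = 0) :
    Mono (C.d 0 1) ∧ (ShortComplex.mk (C.d 0 1) (C.d 1 2) (C.d_comp_d 0 1 2)).Exact ∧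
      Nonempty (cokernel (C.d 1 2) ≅ C.homology 2) := by
  rw [← C.exactAt_iff_isZero_homology, C.exactAt_iff' 0 0 1 (by simp) (by simp)] at h0
  rw [← C.exactAt_iff_isZero_homology, C.exactAt_iff' 0 1 2 (by simp) (by simp)] at h1
  exact ⟨(ShortComplex.exact_iff_mono _ (C.shape 0 0 (by simp))).1 h0, h1,
    ⟨(cokernelIsCokernel _).coconePointUniqueUpToIso (C.opcyclesIsCokernel 1 2 (by simp)) ≪≫
      (C.isoHomologyι 2 3 (by simp) h23).symm⟩⟩

theorem exists_low_of_data {A : Type*} [Category A] [Abelian A] (C : CochainComplex A ℕ) {X₀ X₁ X₂ H : A}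
    (h0 : IsZero (C.homology 0)) (h1 : IsZero (C.homology 1)) (h23 : C.d 2 3 = 0) (e : C.homology 2 ≅ H)
    (i₀ : C.X 0 ≅ X₀) (i₁ : C.X 1 ≅ X₁) (i₂ : C.X 2 ≅ X₂) (f : X₀ ⟶ X₁) (g : X₁ ⟶ X₂)
    (hf : C.d 0 1 ≫ i₁.hom = i₀.hom ≫ f) (hg : C.d 1 2 ≫ i₂.hom = i₁.hom ≫ g) :
    ∃ hw : f ≫ g = 0, Mono f ∧ (ShortComplex.mk f g hw).Exact ∧ Nonempty (cokernel g ≅ H) := by
  obtain ⟨hm, hex, ⟨c⟩⟩ := exists_low_homology C h0 h1 h23
  have hf' : f = i₀.inv ≫ C.d 0 1 ≫ i₁.hom := by rw [hf, Iso.inv_hom_id_assoc]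
  have hg' : g = i₁.inv ≫ C.d 1 2 ≫ i₂.hom := by rw [hg, Iso.inv_hom_id_assoc]
  have hw : f ≫ g = 0 := by simp [hf', hg']
  refine ⟨hw, by rw [hf']; infer_instance, ?_, ⟨?_ ≪≫ c ≪≫ e⟩⟩
  · exact (ShortComplex.exact_iff_of_iso (ShortComplex.isoMk i₀ i₁ i₂ hf.symm hg.symm)).1 hex
  · exact (cokernel.mapIso _ _ i₁ i₂ hg).symm

variable {T : ShortComplex X.Modules} (hT : T.ShortExact)
  (h₁ : FlatMod.IsFinLocFree T.X₁) (h₂ : FlatMod.IsFinLocFree T.X₂) (e₃ : T.X₃ ≅ ClSub.idealMod i.ker)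
  [HasInjectiveResolutions (ModSite.Mod X.sheaf)] (G : X.Modules)

include hT in
/-- The resolution of `i_*O`. -/
theorem exists_resolution_pushO : ∃ (hsq : ∀ j, resD T.f (T.g ≫ e₃.hom ≫ ClSub.idealModι i.ker) (j + 1) ≫
      resD T.f (T.g ≫ e₃.hom ≫ ClSub.idealModι i.ker) j = 0)
    (π : (ChainComplex.of (resX T.X₁ T.X₂) (resD T.f (T.g ≫ e₃.hom ≫ ClSub.idealModι i.ker)) hsq).X 0 ⟶
      ProjSerreLib.pushO i) (_ : Epi π)
    (hπ : (ChainComplex.of (resX T.X₁ T.X₂) (resD T.f (T.g ≫ e₃.hom ≫ ClSub.idealModι i.ker)) hsq).d 1 0 ≫ π = 0),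
    (ShortComplex.mk _ π hπ).Exact ∧
      ∀ j, (ChainComplex.of (resX T.X₁ T.X₂) (resD T.f (T.g ≫ e₃.hom ≫ ClSub.idealModι i.ker)) hsq).ExactAt (j + 1) := by
  haveI := hT.mono_f
  haveI := hT.epi_g
  haveI := Groth.Agent.SerreAff.epi_unitToPush i.ker.subschemeι
  haveI : Mono (ClSub.idealModι i.ker) := inferInstanceAs (Mono (kernel.ι _))
  obtain ⟨q⟩ := HypSq.nonempty_quotMod_iso i
  let a : T.X₂ ⟶ Coh.structureModule X := T.g ≫ e₃.hom ≫ ClSub.idealModι i.ker
  have hfa : T.f ≫ a = 0 := by simp [a, reassoc_of% T.zero]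
  have hsq : ∀ j, resD T.f a (j + 1) ≫ resD T.f a j = 0 := fun j => match j with
    | 0 => hfa
    | _ + 1 => zero_comp
  let E : ChainComplex X.Modules ℕ := ChainComplex.of (resX T.X₁ T.X₂) (resD T.f a) hsq
  have hd : ∀ j, E.d (j + 1) j = resD T.f a j := fun j => ChainComplex.of_d _ _ j
  let π : E.X 0 ⟶ ProjSerreLib.pushO i := ClSub.toSubscheme i.ker ≫ q.hom
  haveI : Epi (ClSub.toSubscheme i.ker) := inferInstanceAs (Epi (ClSub.toSubscheme i.ker))
  haveI : Epi π := epi_comp _ _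
  have hπ : E.d 1 0 ≫ π = 0 := by
    rw [hd 0]
    show (T.g ≫ e₃.hom ≫ ClSub.idealModι i.ker) ≫ ClSub.toSubscheme i.ker ≫ q.hom = 0
    rw [Category.assoc, Category.assoc, ← Category.assoc (ClSub.idealModι i.ker),
      show ClSub.idealModι i.ker ≫ ClSub.toSubscheme i.ker = 0 from kernel.condition _, zero_comp, comp_zero,
      comp_zero]
  have hι0 : ClSub.idealModι i.ker ≫ π = 0 := by
    show ClSub.idealModι i.ker ≫ ClSub.toSubscheme i.ker ≫ q.hom = 0
    rw [← Category.assoc, show ClSub.idealModι i.ker ≫ ClSub.toSubscheme i.ker = 0 from kernel.condition _, zero_comp]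
  have hι : (ShortComplex.mk (ClSub.idealModι i.ker) π hι0).Exact :=
    (ShortComplex.exact_iff_of_epi_of_isIso_of_mono
      ({ τ₁ := 𝟙 _, τ₂ := 𝟙 _, τ₃ := q.hom } :
        ShortComplex.mk (ClSub.idealModι i.ker) (ClSub.toSubscheme i.ker) (kernel.condition _) ⟶
          ShortComplex.mk (ClSub.idealModι i.ker) π hι0)).1
      (ShortComplex.exact_of_f_is_kernel _ (kernelIsKernel _))
  have hex0 : (ShortComplex.mk (E.d 1 0) π hπ).Exact := by
    haveI : Epi (T.g ≫ e₃.hom) := epi_comp _ _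
    exact (ShortComplex.exact_iff_of_epi_of_isIso_of_mono
      ({ τ₁ := T.g ≫ e₃.hom, τ₂ := 𝟙 _, τ₃ := 𝟙 _, comm₁₂ := by
          rw [Category.comp_id]
          show (T.g ≫ e₃.hom) ≫ ClSub.idealModι i.ker = E.d 1 0
          rw [hd 0]
          exact Category.assoc _ _ _ } :
        ShortComplex.mk (E.d 1 0) π hπ ⟶ ShortComplex.mk (ClSub.idealModι i.ker) π hι0)).2 hι
  have hex : ∀ j : ℕ, E.ExactAt (j + 1) := fun j => by
    rw [E.exactAt_iff' (j + 1 + 1) (j + 1) j (by simp) (by simp)]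
    rcases j with _ | _ | j
    · haveI : Mono (e₃.hom ≫ ClSub.idealModι i.ker) := mono_comp _ _
      refine (ShortComplex.exact_iff_of_epi_of_isIso_of_mono
        ({ τ₁ := 𝟙 _, τ₂ := 𝟙 _, τ₃ := e₃.hom ≫ ClSub.idealModι i.ker,
           comm₁₂ := by rw [Category.id_comp, Category.comp_id]; exact hd 1,
           comm₂₃ := by rw [Category.id_comp]; exact hd 0 } :
          ShortComplex.mk T.f T.g T.zero ⟶ E.sc' (0 + 1 + 1) (0 + 1) 0)).1 hT.exact
    · haveI : Mono (E.sc' (0 + 1 + 1 + 1) (0 + 1 + 1) (0 + 1)).g := by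
        show Mono (E.d (0 + 1 + 1) (0 + 1))
        rw [hd 1]
        exact hT.mono_f
      refine (ShortComplex.exact_iff_mono _ ?_).2 inferInstance
      exact hd 2
    · exact ShortComplex.exact_of_isZero_X₂ _ isZero_freeMod_zero
  exact ⟨hsq, π, inferInstance, hπ, hex0, hex⟩

theorem resX_flf (h₁ : FlatMod.IsFinLocFree T.X₁) (h₂ : FlatMod.IsFinLocFree T.X₂) :
    ∀ j, FlatMod.IsFinLocFree (resX T.X₁ T.X₂ j)
  | 0 => CurveLib.isFinLocFree_of_isInvertible ParaFLib.isInvertible_structureModule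
  | 1 => h₂
  | 2 => h₁
  | _ + 3 => KVb.isFinLocFree_of_rank (DegDevLib.isFinLocFreeOfRank_freeMod 0)

include h₁ h₂ in
theorem homD_comp (a : T.X₂ ⟶ Coh.structureModule X) (hsq : ∀ j, resD T.f a (j + 1) ≫ resD T.f a j = 0) (j : ℕ) :
    (ExtShLib.hFMap (resD T.f a j)).app G ≫ (ExtShLib.hFMap (resD T.f a (j + 1))).app G = 0 := by
  refine (eq_zero_iff_stalk _).2 fun x => LinearMap.ext fun z =>
    (LocFreeHomLib.theta_bijective_flf _ (resX_flf h₁ h₂ (j + 2)) G x).1 (LinearMap.ext fun w => ?_)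
  rw [stalkLin_comp, LinearMap.comp_apply, theta_hFMap', theta_hFMap',
    ← LinearMap.comp_apply (stalkLin (resD T.f a j) x), ← stalkLin_comp, hsq j,
    (eq_zero_iff_stalk (0 : resX T.X₁ T.X₂ (j + 2) ⟶ resX T.X₁ T.X₂ j)).1 rfl x]
  simp

include hT h₁ h₂ in
/-- The Ext sheaves of `i_*O` below degree two vanish or are computed by the dual of the resolution. -/
theorem exists_serre_data
    (hz : ∀ q < 2, IsZero (((ModSite.extSh (O := X.sheaf) (ProjSerreLib.pushO i) q).obj G : X.Modules))) :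
    ∃ (hw : (ExtShLib.hFMap (T.g ≫ e₃.hom ≫ ClSub.idealModι i.ker)).app G ≫ (ExtShLib.hFMap T.f).app G = 0),
      Mono ((ExtShLib.hFMap (T.g ≫ e₃.hom ≫ ClSub.idealModι i.ker)).app G) ∧
      (ShortComplex.mk _ _ hw).Exact ∧
      Nonempty (cokernel ((ExtShLib.hFMap T.f).app G) ≅
        ((ModSite.extSh (O := X.sheaf) (ProjSerreLib.pushO i) 2).obj G : X.Modules)) := by
  obtain ⟨hsq, π, hepi, hπ, hex0, hex⟩ := exists_resolution_pushO hT e₃
  haveI := hepi
  let a : T.X₂ ⟶ Coh.structureModule X := T.g ≫ e₃.hom ≫ ClSub.idealModι i.ker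
  let d : ∀ j, (hF (resX T.X₁ T.X₂ j)).obj G ⟶ (hF (resX T.X₁ T.X₂ (j + 1))).obj G := fun j =>
    (ExtShLib.hFMap (resD T.f a j)).app G
  let C : CochainComplex X.Modules ℕ := CochainComplex.of (fun j => (hF (resX T.X₁ T.X₂ j)).obj G) d
    (homD_comp h₁ h₂ G a hsq)
  have hCd : ∀ j, C.d j (j + 1) = d j := fun j =>
    CochainComplex.of_d (fun j => (hF (resX T.X₁ T.X₂ j)).obj G) d j
  haveI : ∀ j, ModSite.HasSheafHom (O := X.sheaf)
      ((ChainComplex.of (resX T.X₁ T.X₂) (resD T.f a) hsq).X j) := fun j => ModTensor.hasSheafHom (O := X.sheaf) _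
  have hH : ∀ p, Nonempty (C.homology p ≅
      ((ModSite.extSh (O := X.sheaf) (ProjSerreLib.pushO i) p).obj G : X.Modules)) := fun p =>
    S15520.result X (ProjSerreLib.pushO i) G _ π hπ hex0 hex (resX_flf h₁ h₂) C (fun j => Iso.refl _) (fun j => by
      refine (Category.comp_id _).trans (Eq.trans ?_ (Category.id_comp _).symm)
      rw [hCd]
      exact (congrArg (fun g => (ExtShLib.hFMap g).app G) (ChainComplex.of_d (resX T.X₁ T.X₂) (resD T.f a) j)).symm) p
  obtain ⟨e0⟩ := hH 0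
  obtain ⟨e1⟩ := hH 1
  obtain ⟨e2⟩ := hH 2
  exact exists_low_of_data C ((hz 0 (by omega)).of_iso e0) ((hz 1 (by omega)).of_iso e1)
    ((hCd 2).trans (hom_app_eq_zero (resX_flf h₁ h₂ 3) G)) e2 (Iso.refl _) (Iso.refl _) (Iso.refl _) _ _
    ((Category.comp_id _).trans ((hCd 0).trans (Category.id_comp _).symm))
    ((Category.comp_id _).trans ((hCd 1).trans (Category.id_comp _).symm))

end Groth.Agent.HodgePnLib
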