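import Groth.Agent.HodgePnLib.Nilp
import Groth.Agent.HodgePnLib.HomSections
import Groth.Agent.Unibranch.Open
import Mathlib.RingTheory.Ideal.KrullsHeightTheorem

/-!
# The determinant of an extension of an ideal of codimension two
-/

set_option autoImplicit false
set_option backward.isDefEq.respectTransparency false
set_option linter.style.haveILetI false
set_option linter.unusedSectionVars false
set_option maxHeartbeats 1000000

universe u

open CategoryTheory CategoryTheory.Limits AlgebraicGeometry TopologicalSpace Opposite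
open Groth.Agent.PullbackMod Groth.Agent.DCohLib Groth.Agent.ParaFLib Groth.Agent.DegDevLib
open Groth.Agent.StalkHomLib

noncomputable section

namespace Groth.Agent.HodgePnLib

variable {X : Scheme.{u}}

local instance hasHFT' (M : X.Modules) : ModSite.HasSheafHom (O := X.sheaf) M :=
  ModTensor.hasSheafHom (O := X.sheaf) M

/-- A section of a line bundle invertible outside codimension two is invertible. -/
theorem isIso_of_codim_two [IsIntegral X] [IsLocallyNoetherian X] {M : X.Modules} (hM : PicF.IsInvertible M)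
    (σ : Coh.structureModule X ⟶ M) (Z : Set X) (hZ : ∀ y ∈ Z, (2 : WithBot ℕ∞) ≤ ringKrullDim (X.presheaf.stalk y))
    (h : ∀ x ∉ Z, Function.Bijective (stalkLin σ x)) : IsIso σ := by
  refine (isIso_iff_stalk σ).2 fun x => ?_
  obtain ⟨W₀, e₀, hxW₀, he₀⟩ := ParaFLib.exists_gen_nhd hM x
  obtain ⟨_, ⟨W : X.Opens, hW, rfl⟩, hxW, hWW₀⟩ := X.isBasis_affineOpens.exists_subset_of_mem_open hxW₀ W₀.2
  let e := M.presheaf.map (homOfLE (show W ≤ W₀ from hWW₀)).op e₀
  have he : Gen W e := he₀.res _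
  obtain ⟨c, hc⟩ := (he W le_rfl).2 (AmpleLib.resT (AmpleLib.sec σ) (O := W))
  change c • M.presheaf.map (homOfLE (le_refl W)).op e = _ at hc
  rw [ParaFLib.res_self] at hc
  have hst : ∀ (y : X) (hy : y ∈ W), stalkLin σ y (oneG y) = X.presheaf.germ W y hy c • M.presheaf.germ W y hy e := by
    intro y hy
    show stalkLin σ y ((Coh.structureModule X).presheaf.germ ⊤ y trivial (1 : Γ(X, ⊤))) = _
    rw [stalkLin_germ]
    show M.presheaf.germ ⊤ y trivial (AmpleLib.sec σ) = _
    rw [← TopCat.Presheaf.germ_res_apply M.presheaf (homOfLE (le_top : W ≤ ⊤)) y hy (AmpleLib.sec σ)]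
    exact (congrArg _ hc.symm).trans (ParaFLib.germ_smul' ..)
  have hiff : ∀ (y : X) (hy : y ∈ W), IsUnit (X.presheaf.germ W y hy c) ↔ Function.Bijective (stalkLin σ y) := by
    intro y hy
    have hg := he.bijective_germ y hy
    have hfac : ∀ a : X.presheaf.stalk y, stalkLin σ y (a • oneG y) =
        (a * X.presheaf.germ W y hy c) • M.presheaf.germ W y hy e := fun a => by
      rw [map_smul, hst y hy, smul_smul]
    refine ⟨fun hu => ⟨fun a b hab => ?_, fun m => ?_⟩, fun hb => ?_⟩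
    · obtain ⟨a, rfl⟩ := (bijective_oneG y).2 a
      obtain ⟨b, rfl⟩ := (bijective_oneG y).2 b
      change stalkLin σ y (a • oneG y) = stalkLin σ y (b • oneG y) at hab
      rw [hfac, hfac] at hab
      show a • oneG y = b • oneG y
      rw [hu.mul_left_inj.1 (hg.1 hab)]
    · obtain ⟨b, rfl⟩ := hg.2 m
      obtain ⟨v, hv⟩ := hu.exists_left_inv
      exact ⟨(b * v) • oneG y, by rw [hfac, mul_assoc, hv, mul_one]⟩
    · obtain ⟨z, hz⟩ := hb.2 (M.presheaf.germ W y hy e)
      obtain ⟨a, rfl⟩ := (bijective_oneG y).2 z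
      change stalkLin σ y (a • oneG y) = _ at hz
      rw [hfac] at hz
      exact IsUnit.of_mul_eq_one_right a (hg.1 (hz.trans (one_smul _ _).symm))
  refine (hiff x hxW).1 ?_
  by_contra hu
  let px := hW.primeIdealOf ⟨x, hxW⟩
  haveI := hW.isLocalization_stalk ⟨x, hxW⟩
  letI : Algebra Γ(X, W) (X.presheaf.stalk x) := TopCat.Presheaf.algebra_section_stalk X.presheaf ⟨x, hxW⟩
  have hcx : c ∈ px.asIdeal := by
    by_contra hcx
    exact hu (IsLocalization.map_units (X.presheaf.stalk x) (⟨c, hcx⟩ : px.asIdeal.primeCompl))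
  obtain ⟨q, hq, hle⟩ := Ideal.exists_minimalPrimes_le (I := Ideal.span {c}) (J := px.asIdeal)
    ((Ideal.span_singleton_le_iff_mem _).2 hcx)
  haveI := hq.isPrime
  haveI : IsNoetherianRing Γ(X, W) := IsLocallyNoetherian.component_noetherian ⟨W, hW⟩
  have hht : q.height ≤ 1 := Ideal.height_le_one_of_isPrincipal_of_mem_minimalPrimes _ q hq
  obtain ⟨a, ha⟩ := Unibranch.exists_point_of_prime hW q hq.isPrime
  letI : Algebra Γ(X, W) (X.presheaf.stalk a.1) := TopCat.Presheaf.algebra_section_stalk X.presheaf a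
  haveI := hW.isLocalization_stalk a
  have hdim := IsLocalization.AtPrime.ringKrullDim_eq_height (hW.primeIdealOf a).asIdeal (X.presheaf.stalk a.1)
  have haZ : a.1 ∉ Z := fun haZ => by
    have h2 := hZ _ haZ
    rw [hdim, ha] at h2
    have h3 : (2 : ℕ∞) ≤ q.height := WithBot.coe_le_coe.1 h2
    exact absurd (h3.trans hht) (by norm_num)
  have hu' := (hiff a.1 a.2).2 (h _ haZ)
  rw [show X.presheaf.germ W a.1 a.2 c = algebraMap Γ(X, W) (X.presheaf.stalk a.1) c from rfl,
    IsLocalization.AtPrime.isUnit_to_map_iff (X.presheaf.stalk a.1) (hW.primeIdealOf a).asIdeal] at hu'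
  exact hu' (show c ∈ (hW.primeIdealOf a).asIdeal from ha ▸ hq.le (Ideal.mem_span_singleton_self c))

/-- A map out of the ideal extends to the structure module. -/
theorem exists_extend_of_exact {K P G : X.Modules} (hK : FlatMod.IsFinLocFree K) (hP : FlatMod.IsFinLocFree P)
    (f : K ⟶ P) (a : P ⟶ Coh.structureModule X)
    (hw : (ExtShLib.hFMap a).app G ≫ (ExtShLib.hFMap f).app G = 0) [Mono ((ExtShLib.hFMap a).app G)]
    (hex : (ShortComplex.mk _ _ hw).Exact) (φ : P ⟶ G) (hφ : f ≫ φ = 0) :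
    ∃ g : Coh.structureModule X ⟶ G, a ≫ g = φ := by
  have hz : toSec φ ≫ (ExtShLib.hFMap f).app G = 0 := eq_zero_of_oneG _ fun x =>
    (LocFreeHomLib.theta_bijective_flf K hK G x).1 (LinearMap.ext fun k => by
      rw [stalkLin_comp, LinearMap.comp_apply, theta_hFMap', theta_toSec, ← LinearMap.comp_apply, ← stalkLin_comp, hφ,
        (eq_zero_iff_stalk (0 : K ⟶ G)).1 rfl x]
      simp only [map_zero, Scheme.Modules.Hom.zero_app, LinearMap.zero_apply])
  let s₀ := hex.lift (toSec φ) hz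
  have hs₀ : s₀ ≫ (ExtShLib.hFMap a).app G = toSec φ := hex.lift_f _ _
  refine ⟨ofSec s₀, hom_ext_stalk fun x => LinearMap.ext fun p => ?_⟩
  rw [stalkLin_comp, LinearMap.comp_apply, ofSec_stalk, ← theta_hFMap', ← LinearMap.comp_apply (stalkLin _ x),
    ← stalkLin_comp, hs₀, theta_toSec]

/-- The wedge map of an extension by the structure module. -/
theorem exists_wedge_desc {S : ShortComplex X.Modules} (hS : S.ShortExact) (hE : FlatMod.IsFinLocFreeOfRank 2 S.X₂)
    (e₁ : S.X₁ ≅ Coh.structureModule X) {L : X.Modules} (hL : ExtPow.IsExtPow 2 S.X₂ L) :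
    ∃ ψ : S.X₃ ⟶ L, ∀ x, FreeAt 1 S.X₃ x → Function.Bijective (stalkLin ψ x) := by
  classical
  obtain ⟨φ, hc⟩ : ∃ φ : ExtIso 2 S.X₂ L, Compat φ := hL
  obtain ⟨P, hP⟩ := exists_wedgePairing φ hc
  haveI := hS.mono_f
  haveI := hS.epi_g
  let s := e₁.inv ≫ S.f
  let σ := AmpleLib.sec s
  let Ψ := pairWith P σ
  have hsψ : s ≫ Ψ = 0 := by
    rw [← AmpleLib.secHom_sec (s ≫ Ψ), ← AmpleLib.secHom_sec (0 : Coh.structureModule X ⟶ L)]
    refine congrArg _ ?_
    show Ψ.app ⊤ (s.app ⊤ (1 : Γ(X, ⊤))) = (0 : Coh.structureModule X ⟶ L).app ⊤ (1 : Γ(X, ⊤))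
    rw [Scheme.Modules.Hom.zero_app]
    rw [pairWith_app]
    show _ = (0 : Γ(L, ⊤))
    refine ExtSeq.ext_affine L fun W hW => ?_
    show L.presheaf.map (homOfLE hW).op _ = L.presheaf.map (homOfLE hW).op 0
    rw [← P.fres hW, hP, map_zero, ParaFLib.res_res]
    refine (congrArg (φ W).symm ?_).trans (map_zero (φ W).symm)
    exact (exteriorPower.ιMulti Γ(X, W.1) 2).map_eq_zero_of_eq _ (i := 0) (j := 1) rfl (by simp)
  have hfψ : S.f ≫ Ψ = 0 := by
    have h : e₁.hom ≫ (e₁.inv ≫ S.f) ≫ Ψ = 0 := by rw [show (e₁.inv ≫ S.f) ≫ Ψ = 0 from hsψ, comp_zero]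
    rwa [Category.assoc, Iso.hom_inv_id_assoc] at h
  let ψ : S.X₃ ⟶ L := hS.gIsCokernel.desc (CokernelCofork.ofπ Ψ hfψ)
  have hψ : S.g ≫ ψ = Ψ := hS.gIsCokernel.fac _ WalkingParallelPair.one
  refine ⟨ψ, fun x ⟨eQ⟩ => ?_⟩
  let R := X.presheaf.stalk x
  obtain ⟨_, ⟨V : X.Opens, hV, rfl⟩, hxV, -⟩ :=
    X.isBasis_affineOpens.exists_subset_of_mem_open (Set.mem_univ x) isOpen_univ
  obtain ⟨U, f₀, hxU, -, hf₀⟩ := exists_frame hE (Set.finite_singleton x) hV (Set.singleton_subset_iff.2 hxV)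
  obtain ⟨_, ⟨D : X.Opens, hD, rfl⟩, hx, hDU⟩ := X.isBasis_affineOpens.exists_subset_of_mem_open (hxU rfl) U.2
  let f : Fin 2 → Γ(S.X₂, D) := fun i => S.X₂.presheaf.map (homOfLE hDU).op (f₀ i)
  have hf : IsFrame D f := hf₀.res hDU
  obtain ⟨c, hc'⟩ := hf.bijective.2 (S.X₂.presheaf.map (homOfLE (le_top : D ≤ ⊤)).op σ)
  rw [Fintype.linearCombination_apply] at hc'
  let ω := L.presheaf.germ D x hx (wsec φ ⟨D, hD⟩ f)
  have hω : Function.Bijective fun r : R => r • ω := (gen_wsec φ hc (V := ⟨D, hD⟩) hf).bijective_germ x hx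
  let σx := S.X₂.presheaf.germ ⊤ x trivial σ
  let v : Fin 2 → S.X₂.presheaf.stalk x := fun j => S.X₂.presheaf.germ D x hx (f j)
  let cx : Fin 2 → R := fun j => X.presheaf.germ D x hx (c j)
  have hσx : σx = cx 0 • v 0 + cx 1 • v 1 := by
    show S.X₂.presheaf.germ ⊤ x trivial σ = _
    rw [← S.X₂.presheaf.germ_res_apply (homOfLE (le_top : D ≤ ⊤)) x hx σ, ← hc', map_sum, Fin.sum_univ_two,
      ParaFLib.germ_smul', ParaFLib.germ_smul']
  have hdet : ∀ (j : Fin 2) (A : Matrix (Fin 2) (Fin 2) Γ(X, D)), (A 0 = c) → (A 1 = Pi.single j 1) →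
      stalkLin Ψ x (v j) = X.presheaf.germ D x hx A.det • ω := fun j A hA0 hA1 => by
    show _ = _ • L.presheaf.germ D x hx _
    rw [← ParaFLib.germ_smul', ← wsec_smul φ (V := ⟨D, hD⟩) hf A]
    have hvec : (fun i => ∑ l, A i l • f l) = ![S.X₂.presheaf.map (homOfLE (le_top : D ≤ ⊤)).op σ, f j] := by
      funext i
      fin_cases i
      · simpa [hA0] using hc'
      · simp [hA1, Pi.single_apply]
    rw [hvec, ← hP ⟨D, hD⟩, ← pairWith_app]
    exact stalkLin_germ _ _ _ _
  have h1 : stalkLin Ψ x (v 1) = cx 0 • ω := by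
    rw [hdet 1 (Matrix.of ![c, Pi.single 1 1]) rfl rfl]
    simp [Matrix.det_fin_two, cx]
  have h0 : stalkLin Ψ x (v 0) = (- cx 1) • ω := by
    rw [hdet 0 (Matrix.of ![c, Pi.single 0 1]) rfl rfl]
    simp [Matrix.det_fin_two, cx]
  -- a functional equal to one on the section
  let g₃ := stalkLin S.g x
  have hx₃ := (shortExact_iff_stkF _).1 hS x
  have hgs : Function.Surjective g₃ := hx₃.moduleCat_surjective_g
  have hfi : Function.Injective (stalkLin S.f x) := hx₃.moduleCat_injective_f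
  have hexx : Function.Exact (stalkLin S.f x) g₃ := by
    have := hx₃.exact
    rw [ShortComplex.moduleCat_exact_iff_range_eq_ker] at this
    exact LinearMap.exact_iff.2 this.symm
  haveI : Module.Free R (S.X₃.presheaf.stalk x) := Module.Free.of_equiv eQ.symm
  obtain ⟨sec₃, hsec⟩ := Module.projective_lifting_property g₃ LinearMap.id hgs
  let em : (R × S.X₃.presheaf.stalk x) →ₗ[R] S.X₂.presheaf.stalk x :=
    (LinearMap.toSpanSingleton R _ σx).coprod sec₃
  have hes : ∀ r : R, r • σx = stalkLin S.f x (stalkLin e₁.inv x (r • oneG x)) := fun r => by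
    rw [map_smul, map_smul]
    refine congrArg (r • ·) ?_
    show S.X₂.presheaf.germ ⊤ x trivial (s.app ⊤ (1 : Γ(X, ⊤))) = _
    rw [← stalkLin_germ, ← LinearMap.comp_apply, ← stalkLin_comp]
    rfl
  have hem : Function.Bijective em := by
    refine ⟨(injective_iff_map_eq_zero _).2 fun ⟨r, q⟩ hz => ?_, fun w => ?_⟩
    · change r • σx + sec₃ q = 0 at hz
      have hq : q = 0 := by
        have := congrArg g₃ hz
        rw [map_add, map_zero, hes, (hexx _).2 ⟨_, rfl⟩, zero_add] at this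
        exact (LinearMap.congr_fun hsec q).symm.trans this
      subst hq
      rw [map_zero, add_zero, hes] at hz
      have h3 : stalkLin e₁.inv x (r • oneG x) = 0 := hfi (hz.trans (map_zero _).symm)
      have h4 : r • oneG x = 0 :=
        ((isIso_iff_stalk e₁.inv).1 inferInstance x).1 (h3.trans (map_zero _).symm)
      exact Prod.ext ((bijective_oneG x).1 (h4.trans (zero_smul _ _).symm)) rfl
    · obtain ⟨u, hu⟩ := (hexx (w - sec₃ (g₃ w))).1 (by
        rw [map_sub, sub_eq_zero]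
        exact (LinearMap.congr_fun hsec (g₃ w)).symm)
      obtain ⟨u', rfl⟩ := ((isIso_iff_stalk e₁.inv).1 inferInstance x).2 u
      obtain ⟨r, rfl⟩ := (bijective_oneG x).2 u'
      refine ⟨(r, g₃ w), ?_⟩
      show r • σx + sec₃ (g₃ w) = w
      rw [hes, show stalkLin S.f x (stalkLin e₁.inv x (r • oneG x)) = w - sec₃ (g₃ w) from hu, sub_add_cancel]
  let eE := LinearEquiv.ofBijective em hem
  let lam : S.X₂.presheaf.stalk x →ₗ[R] R := (LinearMap.fst R R _).comp eE.symm.toLinearMap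
  have hlam : lam σx = 1 := by
    have : eE (1, 0) = σx := by
      show (1 : R) • σx + sec₃ 0 = σx
      rw [one_smul, map_zero, add_zero]
    show (eE.symm σx).1 = 1
    rw [← this, LinearEquiv.symm_apply_apply]
  rw [hσx, map_add, map_smul, map_smul] at hlam
  -- surjectivity
  have hsurj : Function.Surjective (stalkLin ψ x) := fun m => by
    obtain ⟨r, rfl⟩ := hω.2 m
    refine ⟨g₃ (r • (lam (v 0) • v 1 - lam (v 1) • v 0)), ?_⟩
    show stalkLin ψ x (stalkLin S.g x _) = r • ω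
    rw [← LinearMap.comp_apply, ← stalkLin_comp, hψ, map_smul, map_sub, map_smul, map_smul, h0, h1, smul_smul,
      smul_smul, ← sub_smul]
    refine congrArg (r • ·) ((congrArg (· • ω) ?_).trans (one_smul R ω))
    rw [← hlam]
    simp [smul_eq_mul]
    ring
  let eω : L.presheaf.stalk x ≃ₗ[R] R := (LinearEquiv.ofBijective (LinearMap.toSpanSingleton R _ ω) hω).symm
  let e1 : (Fin 1 → R) ≃ₗ[R] R := LinearEquiv.funUnique (Fin 1) R R
  haveI : Module.Finite R (S.X₃.presheaf.stalk x) := Module.Finite.equiv eQ.symm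
  let e3 := eQ.trans e1
  have hb : Function.Bijective ((eω.toLinearMap ∘ₗ stalkLin ψ x) ∘ₗ e3.symm.toLinearMap) :=
    OrzechProperty.bijective_of_surjective_endomorphism _
      ((eω.surjective.comp hsurj).comp e3.symm.surjective)
  exact (Function.Bijective.of_comp_iff' eω.bijective _).1
    ((Function.Bijective.of_comp_iff _ e3.symm.bijective).1 hb)

end Groth.Agent.HodgePnLib
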