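import Groth.Agent.HodgePnLib.PushBundle
import Groth.Agent.HodgePnLib.SerreData
import Groth.Agent.HodgePnLib.SerreDet
import Groth.Agent.HodgePnLib.CodimTwo
import Groth.Agent.HodgePnLib.Resolution
import Groth.Agent.ProjSerreLib.Criterion
import Groth.Agent.NumBddLib.Res
import Groth.Agent.SeesawVB.TrivFibres
import Groth.Agent.ExtPowLib.Exist
import Groth.Agent.FundLocIsoLib.LciDual
import Groth.Agent.S1688

/-!
# The correspondence between codimension two subschemes and bundles of rank two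
-/

set_option autoImplicit false
set_option backward.isDefEq.respectTransparency false
set_option linter.style.haveILetI false
set_option linter.unusedSectionVars false
set_option maxHeartbeats 1000000

universe u

open CategoryTheory CategoryTheory.Limits AlgebraicGeometry
open Groth.Agent.PullbackMod Groth.Agent.DCohLib Groth.Agent.ParaFLib Groth.Agent.StalkHomLib

noncomputable section

namespace Groth.Agent.HodgePnLib

variable {X Y : Scheme.{u}}

local instance hasHFC (M : X.Modules) : ModSite.HasSheafHom (O := X.sheaf) M :=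
  ModTensor.hasSheafHom (O := X.sheaf) M

/-- The ideal is the whole ring outside the subscheme. -/
theorem bijective_idealModι (i : Y ⟶ X) [IsClosedImmersion i] (x : X) (hx : x ∉ Set.range i) :
    Function.Bijective (stalkLin (ClSub.idealModι i.ker) x) := by
  haveI : Mono (ClSub.idealModι i.ker) := inferInstanceAs (Mono (kernel.ι _))
  refine ⟨(mono_iff_stalk _).1 inferInstance x, fun z => ?_⟩
  obtain ⟨r, rfl⟩ := (bijective_oneG x).2 z
  refine (HilbObsLib.mem_range_idealModι i.ker x r).2 ?_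
  rw [HilbObsLib.stalkIdeal_eq_top i.ker (by
    rwa [Scheme.IdealSheafData.range_subschemeι, Scheme.Hom.support_ker,
      i.isClosedEmbedding.isClosed_range.closure_eq])]
  trivial

theorem freeAt_one_idealMod (i : Y ⟶ X) [IsClosedImmersion i] (x : X) (hx : x ∉ Set.range i) :
    FreeAt 1 (ClSub.idealMod i.ker) x := by
  obtain ⟨e⟩ := CurveLib.freeAt_one_of_isInvertible (ParaFLib.isInvertible_structureModule (X := X)) x
  exact ⟨(LinearEquiv.ofBijective _ (bijective_idealModι i x hx)).trans e⟩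

theorem bijective_tensR_map {A B M : X.Modules} (θ : A ⟶ B) (x : X) (h : Function.Bijective (stalkLin θ x)) :
    Function.Bijective (stalkLin ((CurveLib.tensR M).map θ) x) := by
  have hb : Function.Bijective (LinearMap.rTensor (M.presheaf.stalk x) (stalkLin θ x)) :=
    ((LinearEquiv.ofBijective _ h).rTensor (M.presheaf.stalk x)).bijective
  have hc : ∀ t, stalkLin ((CurveLib.tensR M).map θ) x (stalkTensor x A M t) =
      stalkTensor x B M (LinearMap.rTensor (M.presheaf.stalk x) (stalkLin θ x) t) :=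
    fun t => stalkTensor_natural_left x θ t
  refine ⟨fun a b hab => ?_, fun z => ?_⟩
  · obtain ⟨a, rfl⟩ := (stalkTensor x A M).surjective a
    obtain ⟨b, rfl⟩ := (stalkTensor x A M).surjective b
    exact congrArg _ (hb.1 ((stalkTensor x B M).injective ((hc a).symm.trans (hab.trans (hc b)))))
  · obtain ⟨z, rfl⟩ := (stalkTensor x B M).surjective z
    obtain ⟨t, rfl⟩ := hb.2 z
    exact ⟨stalkTensor x A M t, hc t⟩

/-- The generating homomorphism. -/
theorem exists_generating_hom (i : Y ⟶ X) [IsClosedImmersion i] {K P G : X.Modules} (hK : FlatMod.IsFinLocFree K)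
    (f : K ⟶ P) (q : (hF K).obj G ⟶ ProjSerreLib.pushO i) {w : (ExtShLib.hFMap f).app G ≫ q = 0}
    (hex : (ShortComplex.mk _ _ w).Exact) (t : Γ((hF K).obj G, ⊤))
    (ht : q.app ⊤ t = FundLocIsoLib.uSec i) :
    ∃ ψ : K ⟶ G, ∀ x, ∀ l : K.presheaf.stalk x →ₗ[X.presheaf.stalk x] G.presheaf.stalk x,
      ∃ (μ : P.presheaf.stalk x →ₗ[X.presheaf.stalk x] G.presheaf.stalk x) (a : X.presheaf.stalk x),
        l = μ ∘ₗ stalkLin f x + a • stalkLin ψ x := by
  let σ := DCohLib.secHom ((hF K).obj G) t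
  refine ⟨ofSec σ, fun x l => ?_⟩
  obtain ⟨z, hz⟩ := (LocFreeHomLib.theta_bijective_flf K hK G x).2 l
  have hσ : stalkLin q x (stalkLin σ x (oneG x)) = FundLocIsoLib.uG i x := by
    rw [CurveLib.stalkLin_secHom, stalkLin_germ, ht]
  obtain ⟨a, ha⟩ : ∃ a : X.presheaf.stalk x, stalkLin q x z = a • FundLocIsoLib.uG i x := by
    by_cases hx : x ∈ Set.range i
    · obtain ⟨y, rfl⟩ := hx
      obtain ⟨a, ha⟩ := FundLocIsoLib.exists_smul_uG i y (stalkLin q (i y) z)
      exact ⟨a, ha.symm⟩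
    · haveI := subsingleton_stalk_pushforward i (Coh.structureModule Y) x hx
      exact ⟨0, Subsingleton.elim _ _⟩
  obtain ⟨y, hy⟩ : ∃ y, stalkLin ((ExtShLib.hFMap f).app G) x y = z - a • stalkLin σ x (oneG x) :=
    by
      have h := hex.map (stkF x)
      rw [ShortComplex.moduleCat_exact_iff] at h
      refine h (z - a • stalkLin σ x (oneG x)) ?_
      show stalkLin q x (z - a • stalkLin σ x (oneG x)) = 0
      rw [map_sub, map_smul, hσ, ha, sub_self]
  refine ⟨theta P G x y, a, LinearMap.ext fun v => ?_⟩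
  rw [LinearMap.add_apply, LinearMap.smul_apply, LinearMap.comp_apply, ofSec_stalk,
    ← theta_hFMap' f G x y v, hy, map_sub, map_smul, LinearMap.sub_apply, LinearMap.smul_apply, sub_add_cancel, hz]


section Main

variable (k : Type u) [Field k] [IsAlgClosed k] [X.Over (Spec (CommRingCat.of k))]
  [IsProper (X ↘ Spec (CommRingCat.of k))] [IsIntegral X] (i : Y ⟶ X) [IsClosedImmersion i]
  [ModSite.HasSheafHom (O := X.sheaf) (ProjSerreLib.pushO i)] [HasInjectiveResolutions (ModSite.Mod X.sheaf)]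

include k in
/-- The generating section of the Ext sheaf lifts. -/
theorem exists_section_lift {T : ShortComplex X.Modules} {G : X.Modules} (e₃ : T.X₃ ≅ ClSub.idealMod i.ker)
    (hw : (ExtShLib.hFMap (T.g ≫ e₃.hom ≫ ClSub.idealModι i.ker)).app G ≫ (ExtShLib.hFMap T.f).app G = 0)
    (hmono : Mono ((ExtShLib.hFMap (T.g ≫ e₃.hom ≫ ClSub.idealModι i.ker)).app G))
    (hex : (ShortComplex.mk _ _ hw).Exact) (c : cokernel ((ExtShLib.hFMap T.f).app G) ≅ ProjSerreLib.pushO i)
    (h1 : Subsingleton (Coh.HH X ((hF T.X₂).obj G) 1))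
    (h2 : Subsingleton (Coh.HH X ((hF (Coh.structureModule X)).obj G) 2)) :
    ∃ (q : (hF T.X₁).obj G ⟶ ProjSerreLib.pushO i) (w : (ExtShLib.hFMap T.f).app G ≫ q = 0),
      (ShortComplex.mk _ _ w).Exact ∧ ∃ t, q.app ⊤ t = FundLocIsoLib.uSec i := by
  let qN : (hF T.X₁).obj G ⟶ ProjSerreLib.pushO i := cokernel.π ((ExtShLib.hFMap T.f).app G) ≫ c.hom
  have hwq : (ExtShLib.hFMap T.f).app G ≫ qN = 0 := by
    simp only [qN, ← Category.assoc, cokernel.condition, zero_comp]
  let ccx : ShortComplex X.Modules :=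
    ShortComplex.mk ((ExtShLib.hFMap T.f).app G) (cokernel.π _) (cokernel.condition _)
  let τ : ccx ≅ ShortComplex.mk ((ExtShLib.hFMap T.f).app G) qN hwq :=
    ShortComplex.isoMk (Iso.refl _) (Iso.refl _) c ((Category.id_comp _).trans (Category.comp_id _).symm)
      (Category.id_comp _)
  have hexq : (ShortComplex.mk _ _ hwq).Exact :=
    (ShortComplex.exact_iff_of_iso τ).1
      (ShortComplex.exact_of_g_is_cokernel ccx (cokernelIsCokernel ((ExtShLib.hFMap T.f).app G)))
  haveI : Epi qN := epi_comp _ _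
  refine ⟨qN, hwq, hexq, ?_⟩
  let I := kernel qN
  let d1' : (hF T.X₂).obj G ⟶ I := kernel.lift qN _ hwq
  haveI : Epi d1' := hexq.epi_kernelLift
  have hw' : (ExtShLib.hFMap (T.g ≫ e₃.hom ≫ ClSub.idealModι i.ker)).app G ≫ d1' = 0 := by
    rw [← cancel_mono (kernel.ι qN), Category.assoc, kernel.lift_ι, zero_comp]
    exact hw
  haveI := hmono
  have hS1 : (ShortComplex.mk _ d1' hw').ShortExact := ShortComplex.ShortExact.mk'
    ((ShortComplex.exact_iff_of_epi_of_isIso_of_mono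
      ({ τ₁ := 𝟙 _, τ₂ := 𝟙 _, τ₃ := kernel.ι qN, comm₁₂ := by simp,
         comm₂₃ := by simp [d1'] } : ShortComplex.mk _ d1' hw' ⟶ ShortComplex.mk _ _ hw)).2 hex)
    hmono inferInstance
  have hI1 : Subsingleton (Coh.HH X I 1) := subsingleton_third k hS1 1 h1 h2
  have hS2 : (ShortComplex.mk (kernel.ι qN) qN (kernel.condition qN)).ShortExact := CMRegLib.shortExact_ker qN
  let y := (CurveLib.secOf (ProjSerreLib.pushO i)).symm (FundLocIsoLib.uSec i)
  obtain ⟨w, hw2⟩ := (CurveLib.range_hMap_g (k := k) hS2 0).ge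
    (show y ∈ LinearMap.ker _ from LinearMap.mem_ker.2 (@Subsingleton.elim _ hI1 _ _))
  refine ⟨CurveLib.secOf _ w, ?_⟩
  have := CurveLib.secOf_hMap (k := k) qN w
  rw [show CurveLib.hMap (k := k) qN 0 w = y from hw2, AddEquiv.apply_symm_apply] at this
  exact this.symm

omit [IsAlgClosed k] [IsProper (X ↘ Spec (CommRingCat.of k))] [ModSite.HasSheafHom (O := X.sheaf) (ProjSerreLib.pushO i)]
  [HasInjectiveResolutions (ModSite.Mod X.sheaf)] in
/-- The twisted wedge map out of the ideal. -/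
theorem exists_twisted_wedge [IsLocallyNoetherian X] {S : ShortComplex X.Modules} (hS : S.ShortExact)
    (hE : FlatMod.IsFinLocFreeOfRank 2 S.X₂) (b₁ : S.X₁ ≅ Coh.structureModule X) {G G' D : X.Modules}
    (hG' : PicF.IsInvertible G') (η : CohB1.tensorMod G' G ≅ Coh.structureModule X)
    (b₃ : S.X₃ ≅ CohB1.tensorMod (ClSub.idealMod i.ker) G') (hD : ExtPow.IsExtPow 2 S.X₂ D) :
    ∃ χ : ClSub.idealMod i.ker ⟶ CohB1.tensorMod D G, ∀ x, x ∉ Set.range i → Function.Bijective (stalkLin χ x) := by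
  obtain ⟨w, hwb⟩ := exists_wedge_desc hS hE b₁ hD
  let F' := CurveLib.tensR G
  refine ⟨(VBLib.untwist η).inv.app _ ≫ F'.map (b₃.inv ≫ w), fun x hx => ?_⟩
  rw [stalkLin_comp, LinearMap.coe_comp]
  refine Function.Bijective.comp (bijective_tensR_map _ x ?_) ((isIso_iff_stalk _).1 inferInstance x)
  rw [stalkLin_comp, LinearMap.coe_comp]
  refine Function.Bijective.comp (hwb x ?_) ((isIso_iff_stalk _).1 inferInstance x)
  have hb := bijective_tensR_map (M := G') (ClSub.idealModι i.ker) x (bijective_idealModι i x hx)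
  obtain ⟨e⟩ := CurveLib.freeAt_one_of_isInvertible
    (AmpleLib.isInvertible_tensor (ParaFLib.isInvertible_structureModule (X := X)) hG') x
  exact ⟨((LinearEquiv.ofBijective _ ((isIso_iff_stalk b₃.hom).1 inferInstance x)).trans
    (LinearEquiv.ofBijective _ hb)).trans e⟩

omit [IsAlgClosed k] [IsProper (X ↘ Spec (CommRingCat.of k))] [ModSite.HasSheafHom (O := X.sheaf) (ProjSerreLib.pushO i)]
  [HasInjectiveResolutions (ModSite.Mod X.sheaf)] in
/-- Twisting an extension. -/
theorem exists_twisted_ext [IsLocallyNoetherian X] {S : ShortComplex X.Modules} (hS : S.ShortExact) {G G' J : X.Modules}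
    (hE : FlatMod.IsFinLocFreeOfRank 2 S.X₂) (hG' : PicF.IsInvertible G')
    (η : CohB1.tensorMod G G' ≅ Coh.structureModule X) (a₁ : S.X₁ ≅ G) (a₃ : S.X₃ ≅ J) :
    ∃ S' : ShortComplex X.Modules, S'.ShortExact ∧ FlatMod.IsFinLocFreeOfRank 2 S'.X₂ ∧
      Nonempty (S'.X₁ ≅ Coh.structureModule X) ∧ Nonempty (S'.X₃ ≅ CohB1.tensorMod J G') := by
  have hfree : ∀ x, FreeAt 1 G' x := fun x => CurveLib.freeAt_one_of_isInvertible hG' x
  obtain ⟨F, hF0, hF1, hF2, hF3⟩ : ∃ F : ShortComplex X.Modules, F.ShortExact ∧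
      F.X₁ = (CurveLib.tensR G').obj S.X₁ ∧ F.X₂ = (CurveLib.tensR G').obj S.X₂ ∧
      F.X₃ = (CurveLib.tensR G').obj S.X₃ := ⟨_, CurveLib.shortExact_tensR hS (E := G') hfree, rfl, rfl, rfl⟩
  exact ⟨F, hF0, hF2 ▸ rank_twistBy hE hG', ⟨eqToIso hF1 ≪≫ (CurveLib.tensR G').mapIso a₁ ≪≫ η⟩,
    ⟨eqToIso hF3 ≪≫ (CurveLib.tensR G').mapIso a₃⟩⟩

include k in
/-- The determinant of the twisted extension. -/
theorem exists_det_iso [IsLocallyNoetherian X] (hdim : ∀ p ∈ Set.range i, (2 : WithBot ℕ∞) ≤ ringKrullDim (X.presheaf.stalk p))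
    (hvan : ∀ (G : X.Modules), FlatMod.IsFinLocFree G → ∀ q < 2,
      IsZero (((ModSite.extSh (O := X.sheaf) (ProjSerreLib.pushO i) q).obj G : X.Modules)))
    {T : ShortComplex X.Modules} (hT : T.ShortExact) (e₃ : T.X₃ ≅ ClSub.idealMod i.ker)
    (hK : FlatMod.IsFinLocFree T.X₁) (hP : FlatMod.IsFinLocFree T.X₂) {G G' : X.Modules}
    (hG : PicF.IsInvertible G) (hG' : PicF.IsInvertible G') (η : CohB1.tensorMod G G' ≅ Coh.structureModule X)
    {S' : ShortComplex X.Modules} (hS' : S'.ShortExact) (hE : FlatMod.IsFinLocFreeOfRank 2 S'.X₂)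
    (b₁ : S'.X₁ ≅ Coh.structureModule X) (b₃ : S'.X₃ ≅ CohB1.tensorMod (ClSub.idealMod i.ker) G') :
    ∃ D : X.Modules, ExtPow.IsExtPow 2 S'.X₂ D ∧ Nonempty (D ≅ G') := by
  haveI : Coh.IsQCoh S'.X₂ := (isQCoh_and_isFP_of_isFinLocFree _ (KVb.isFinLocFree_of_rank hE)).1
  obtain ⟨D, -, hD⟩ := ExtPowLib.exists_isExtPow S'.X₂ 2
  refine ⟨D, hD, ?_⟩
  have hDi : PicF.IsInvertible D := SeesawVB.isInvertible_of_isExtPow hD fun x => by
    obtain ⟨_, ⟨V : X.Opens, hV, rfl⟩, hxV, -⟩ :=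
      X.isBasis_affineOpens.exists_subset_of_mem_open (Set.mem_univ x) isOpen_univ
    obtain ⟨U, f, hU, -, hf⟩ := DegDevLib.exists_frame hE (Set.finite_singleton x) hV (Set.singleton_subset_iff.2 hxV)
    exact ⟨U, f, hU rfl, hf⟩
  let η' : CohB1.tensorMod G' G ≅ Coh.structureModule X := AmpleLib.comm G' G ≪≫ η
  obtain ⟨χ, hχ⟩ := exists_twisted_wedge i hS' hE b₁ hG' η' b₃ hD
  let M := CohB1.tensorMod D G
  have hM : PicF.IsInvertible M := AmpleLib.isInvertible_tensor hDi hG
  obtain ⟨hw', hmono', hex', -⟩ := exists_serre_data hT hK hP e₃ M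
    (hvan _ (CurveLib.isFinLocFree_of_isInvertible hM))
  haveI := hmono'
  obtain ⟨g, hg⟩ := exists_extend_of_exact hK hP T.f _ hw' hex' (T.g ≫ e₃.hom ≫ χ) (by rw [T.zero_assoc, zero_comp])
  have hg' : ClSub.idealModι i.ker ≫ g = χ := by
    haveI := hT.epi_g
    rw [← cancel_epi e₃.hom, ← cancel_epi T.g]
    refine Eq.trans ?_ hg
    simp
  haveI : IsIso g := isIso_of_codim_two hM g (Set.range i) hdim fun x hx => by
    have h := hχ x hx
    rw [← hg', stalkLin_comp, LinearMap.coe_comp] at h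
    exact (Function.Bijective.of_comp_iff _ (bijective_idealModι i x hx)).1 h
  exact ⟨((VBLib.untwist η).app D).symm ≪≫ AmpleLib.tIso (asIso g).symm (Iso.refl G') ≪≫ CurveLib.tmodUnit _⟩

include k in
/-- Bundles of rank two with prescribed vanishing locus. -/
theorem exists_serre_general (hlci : RegImm.IsRegularImmersionOfCodim RegImm.Kind.regular 2 i)
    (hvan : ∀ (G : X.Modules), FlatMod.IsFinLocFree G → ∀ q < 2,
      IsZero (((ModSite.extSh (O := X.sheaf) (ProjSerreLib.pushO i) q).obj G : X.Modules)))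
    {T : ShortComplex X.Modules} (hT : T.ShortExact) (e₃ : T.X₃ ≅ ClSub.idealMod i.ker) {m b : ℕ}
    (hKr : FlatMod.IsFinLocFreeOfRank m T.X₁) (hPr : FlatMod.IsFinLocFreeOfRank b T.X₂) {G G' : X.Modules}
    (hG : PicF.IsInvertible G) (hG' : PicF.IsInvertible G') (η : CohB1.tensorMod G G' ≅ Coh.structureModule X)
    {L : Y.Modules} (hL : ExtPow.IsExtPow 2 (Omega.conormal i) L) (eL : L ≅ (Scheme.Modules.pullback i).obj G)
    (h1 : Subsingleton (Coh.HH X (CohB1.tensorMod G (VBLib.DualDeg.dd T.X₂)) 1))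
    (h2 : Subsingleton (Coh.HH X G 2)) :
    ∃ S : ShortComplex X.Modules, S.ShortExact ∧ FlatMod.IsFinLocFreeOfRank 2 S.X₂ ∧
      Nonempty (S.X₁ ≅ Coh.structureModule X) ∧
      Nonempty (S.X₃ ≅ CohB1.tensorMod (ClSub.idealMod i.ker) G') ∧
      ∃ D : X.Modules, ExtPow.IsExtPow 2 S.X₂ D ∧ Nonempty (D ≅ G') := by
  haveI := EulerIneqLib.isNoetherian_proper (X := X) k
  haveI : IsLocallyNoetherian Y := LocallyOfFiniteType.isLocallyNoetherian i
  haveI : ModSite.HasSheafHom (O := Y.sheaf) L := ModTensor.hasSheafHom (O := Y.sheaf) L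
  have hK := KVb.isFinLocFree_of_rank hKr
  have hP := KVb.isFinLocFree_of_rank hPr
  have hdim : ∀ p ∈ Set.range i, (2 : WithBot ℕ∞) ≤ ringKrullDim (X.presheaf.stalk p) := by
    rintro _ ⟨y, rfl⟩
    rw [← ringKrullDim_add_two i hlci y]
    exact le_add_of_nonneg_left ringKrullDim_nonneg_of_nontrivial
  have hη : genericPoint X ∉ Set.range i := fun h => by
    have h2 := hdim _ h
    rw [ringKrullDim_eq_zero_of_isField (Field.toIsField X.functionField)] at h2
    exact absurd h2 (by decide)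
  obtain ⟨hw, hmono, hex, ⟨eN⟩⟩ := exists_serre_data hT hK hP e₃ G (hvan _ (CurveLib.isFinLocFree_of_isInvertible hG))
  obtain ⟨u⟩ := FundLocIsoLib.nonempty_extSh_iso (ι := i) hlci hL G
  let ee : CohB1.tensorMod L ((Scheme.Modules.pullback i).obj G') ≅ Coh.structureModule Y :=
    AmpleLib.tIso eL (Iso.refl _) ≪≫ (AmpleLib.pullTensor i _ _).symm ≪≫
      (Scheme.Modules.pullback i).mapIso η ≪≫ AmpleLib.pullO i
  have hLi : PicF.IsInvertible L := ParaFLib.isInvertible_of_iso eL.symm (AmpleLib.isInvertible_pullback i hG)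
  obtain ⟨v⟩ := FundLocIsoLib.nonempty_hF_invertible hLi ee ((Scheme.Modules.pullback i).obj G)
  let eY : (hF L).obj ((Scheme.Modules.pullback i).obj G) ≅ Coh.structureModule Y :=
    v ≪≫ AmpleLib.tIso eL.symm (Iso.refl _) ≪≫ ee
  let eO : (hF (Coh.structureModule X)).obj G ≅ G :=
    (Adjunction.rightAdjointUniq (ModSite.sheafHomAdj (O := X.sheaf) (Coh.structureModule X))
      (Adjunction.id.ofNatIsoLeft (ModTensor.tensorUnitRight X.sheaf).symm)).app G
  haveI := LocFreeHomLib.isIso_alpha T.X₂ hP G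
  obtain ⟨q, wq, hexq, t, ht⟩ := exists_section_lift k i e₃ hw hmono hex
    (eN ≪≫ u ≪≫ (Scheme.Modules.pushforward i).mapIso eY)
    (subsingleton_iso k (asIso (LocFreeHomLib.alpha T.X₂ G)) h1) (subsingleton_iso k eO.symm h2)
  obtain ⟨ψ, hψ⟩ := exists_generating_hom i hK T.f q hexq t ht
  have hfree : FreeAt 1 T.X₃ (genericPoint X) := by
    obtain ⟨e⟩ := freeAt_one_idealMod i _ hη
    exact ⟨(LinearEquiv.ofBijective _ ((isIso_iff_stalk e₃.hom).1 inferInstance _)).trans e⟩
  obtain ⟨S, hS, hSr, ⟨a₁⟩, ⟨a₃⟩⟩ := exists_bundle_ext hT hKr hPr (genericPoint X) hfree hG ψ hψ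
  obtain ⟨S', hS', hE, ⟨b₁⟩, ⟨b₃⟩⟩ := exists_twisted_ext hS hSr hG' η a₁ (a₃ ≪≫ e₃)
  exact ⟨S', hS', hE, ⟨b₁⟩, ⟨b₃⟩, exists_det_iso k i hdim hvan hT e₃ hK hP hG hG' η hS' hE b₁ b₃⟩

end Main

section ProjSpace

variable {k : Type u} [Field k] {n : ℕ}

local notation "PS" => CohB1.ProjSpace n k
local notation "O(" d ")" => Twist.twistProjSpace n k d

theorem exists_serre_bundle [IsAlgClosed k] (hn : 3 ≤ n) {Y : Scheme.{u}} (i : Y ⟶ PS) [IsClosedImmersion i]
    (hlci : RegImm.IsRegularImmersionOfCodim RegImm.Kind.regular 2 i) (c : ℤ) {L : Y.Modules}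
    (hL : ExtPow.IsExtPow 2 (Omega.conormal i) L) (eL : L ≅ (Scheme.Modules.pullback i).obj (O(-c))) :
    ∃ S : ShortComplex (PS).Modules, S.ShortExact ∧ FlatMod.IsFinLocFreeOfRank 2 S.X₂ ∧
      Nonempty (S.X₁ ≅ Coh.structureModule PS) ∧
      Nonempty (S.X₃ ≅ CohB1.tensorMod (ClSub.idealMod i.ker) (O(c))) ∧
      ∃ D : (PS).Modules, ExtPow.IsExtPow 2 S.X₂ D ∧ Nonempty (D ≅ O(c)) := by
  haveI := isProper_PS n k
  haveI : IsIntegral PS := REqLib.isIntegral_projSpace n k
  haveI := EulerIneqLib.isNoetherian_proper (X := PS) k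
  haveI : JacobsonSpace PS := LocallyOfFiniteType.jacobsonSpace (CohB1.ProjSpace.toSpec n k)
  haveI : ModSite.HasSheafHom (O := (PS).sheaf) (ProjSerreLib.pushO i) := ModTensor.hasSheafHom (O := (PS).sheaf) _
  haveI : EnoughInjectives (PS).Modules := SiteBase.enoughInjectives_sheafOfModules _
  haveI : HasInjectiveResolutions (ModSite.Mod (PS).sheaf) :=
    (inferInstance : HasInjectiveResolutions (PS).Modules)
  obtain ⟨q₀⟩ := HypSq.nonempty_quotMod_iso i
  have hJ : Coh.IsCoh (ClSub.idealMod i.ker) := (QCohLib.isCoh_kernel_cokernel (ClSub.toSubscheme i.ker)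
    (DevLib.isCoh_structureModule _) (ShStabLib.isCoh_of_iso q₀.symm (ProjSerreLib.isCoh_pushO i))).1
  obtain ⟨d, b, π, hπ⟩ := NumBdd.exists_epi_twists k (𝟙 PS) hJ
  let P : (PS).Modules := ∐ fun _ : Fin b => O(d)
  let π' : P ⟶ ClSub.idealMod i.ker :=
    (Sigma.mapIso fun _ => ((Scheme.Modules.pullbackId PS).app (O(d))).symm).hom ≫ π
  haveI : Epi π' := epi_comp _ _
  let T : ShortComplex (PS).Modules := ShortComplex.mk (kernel.ι π') π' (kernel.condition π')
  have hT : T.ShortExact := CMRegLib.shortExact_ker π'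
  have hPr : FlatMod.IsFinLocFreeOfRank b P := rank_sigma_line b (isInvertible_O n k d)
  have hP := KVb.isFinLocFree_of_rank hPr
  have hKc : Coh.IsCoh T.X₁ := (QCohLib.isCoh_kernel_cokernel π' (CurveLib.isCoh_of_isFinLocFree hP) hJ).1
  have hK : FlatMod.IsFinLocFree T.X₁ := S1688.isFinLocFree_of_free hKc fun x => by
    obtain ⟨hp, hf⟩ := projective_stalk_kernel i hlci hT hP (Iso.refl _) x
    haveI := hp
    haveI := hf
    exact Module.free_of_flat_of_isLocalRing
  obtain ⟨m, hKr⟩ := ASBunKS.exists_rank' hK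
  obtain ⟨dP⟩ := VBLib.DualOps.nonempty_dd_sigma fun _ : Fin b => O(d)
  obtain ⟨o⟩ := nonempty_dd_inverse (invO (n := n) (k := k) d (-d) (add_neg_cancel d))
  exact exists_serre_general k i hlci
    (fun G hG q hq => ProjSerreLib.isZero_extSh_lt_codim i ProjSerreLib.regular_stalk 2
      (fun x _ => (ringKrullDim_add_two i hlci x).le) G hG hq)
    hT (Iso.refl _) hKr hPr (isInvertible_O n k (-c)) (isInvertible_O n k c)
    (invO (n := n) (k := k) (-c) c (neg_add_cancel c)) hL eL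
    (subsingleton_iso k (AmpleLib.comm _ _)
      (subsingleton_iso k (AmpleLib.tIso (dP ≪≫ Sigma.mapIso fun _ => o).symm (Iso.refl _))
        (subsingleton_sigma_twist k _ _ fun _ =>
          subsingleton_iso k (mulO n k (show -d + -c = -d + -c from rfl)).symm
            (subsingleton_O n k (by omega) (by omega)))))
    (subsingleton_O n k (by omega) (by omega))

end ProjSpace

end Groth.Agent.HodgePnLib
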