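import Groth.Agent.HodgePnLib.Field
import Groth.Agent.HodgePnLib.FreeHom
import Groth.Agent.CMRegLib.Seq

/-!
# Epimorphisms from trivial bundles onto `O(1)` on projective space
-/

set_option autoImplicit false
set_option backward.isDefEq.respectTransparency false
set_option linter.style.haveILetI false
set_option maxHeartbeats 1000000

universe u

open CategoryTheory CategoryTheory.Limits AlgebraicGeometry

noncomputable section

namespace Groth.Agent.HodgePnLib

variable (n : ℕ) (k : Type u) [Field k]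

local notation "PS" => CohB1.ProjSpace n k
local notation "O(" d ")" => Twist.twistProjSpace n k d
local notation "Ω¹" => Omega.sheaf (CohB1.ProjSpace.toSpec n k)

theorem isProper_PS : IsProper (PS ↘ Spec (CommRingCat.of k)) := CompleteCurve.isProper_toSpec n k

theorem finrank_structure : Module.finrank k (Coh.HH PS (Coh.structureModule PS) 0) = 1 := by
  obtain ⟨e⟩ := nonempty_O_zero n k
  obtain ⟨h⟩ := nonempty_H0_equiv n k
  rw [← (hIso k e 0).finrank_eq, h.finrank_eq, Module.finrank_self]

theorem finrank_O_one : Module.finrank k (Coh.HH PS (O(1)) 0) = n + 1 := by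
  obtain ⟨e⟩ := ProjTwist.nonempty_H0 n k 1
  refine e.finrank_eq.trans ?_
  rw [S4466.finrank_forms k n 1]
  simp [add_comm]

/-- `n` sections of `O(1)` cannot generate it. -/
theorem not_epi_free (m : ℕ) (hm : m ≤ n) (q : FlatMod.freeMod PS m ⟶ O(1)) : ¬ Epi q := by
  intro hq
  haveI := hq
  haveI := isProper_PS n k
  rcases m with _ | m
  · have hz : IsZero (O(1)) := IsZero.of_epi q (HorrocksPnLib.isZero_sigma_zero _)
    have : Subsingleton (Coh.HH PS (O(1)) 0) := subsingleton_iso k
      (hz.iso (HorrocksPnLib.isZero_sigma_zero fun _ : Fin 0 => O(1))).symm (subsingleton_sigma k _ fun i => i.elim0)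
    have h := finrank_O_one n k
    rw [Module.finrank_zero_of_subsingleton] at h
    omega
  have hS := CMRegLib.shortExact_ker q
  have h₃ : PicF.IsInvertible (O(1)) := isInvertible_O n k 1
  have h₂ : FlatMod.IsFinLocFree (FlatMod.freeMod PS (m + 1)) := DCohLib.isFinLocFree_freeMod _
  have h₁ : FlatMod.IsFinLocFree (kernel q) :=
    DCohLib.isFinLocFree_of_shortExact hS h₂ (flf_O n k 1)
  have key : ∀ (c j : ℕ), j + c = m + 1 → ∀ L : (PS).Modules, ExtPow.IsExtPow j (kernel q) L →
      Subsingleton (Coh.HH PS (CohB1.tensorMod L (O(-(j : ℤ)))) j) := by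
    intro c
    induction c with
    | zero =>
      intro j hj L hL
      obtain ⟨A, -, hA⟩ := KVb.hasExt (j + 1) (kernel q) h₁
      obtain ⟨T, hT, -, ⟨t₂⟩, ⟨t₃⟩⟩ := exists_extPow_ses hS h₁ h₂ h₃ j hA
        (exists_extPow_free (CohB1.ProjSpace.toSpec n k) m (j + 1)) hL
      have hz2 : IsZero T.X₂ := by
        refine IsZero.of_iso ?_ t₂
        rw [Nat.choose_eq_zero_of_lt (by omega)]
        exact HorrocksPnLib.isZero_sigma_zero _
      haveI := hT.epi_g
      have hz : IsZero (CohB1.tensorMod L (O(-(j : ℤ)))) :=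
        ((CurveLib.tensR (O(-(j : ℤ) - 1))).map_isZero ((IsZero.of_epi T.g hz2).of_iso t₃.symm)).of_iso
          (AmpleLib.assoc L (O(1)) _ ≪≫ AmpleLib.tIso (Iso.refl L) (mulO n k (by ring))).symm
      exact subsingleton_iso k (hz.iso (HorrocksPnLib.isZero_sigma_zero fun _ : Fin 0 => O(1))).symm
        (subsingleton_sigma k _ fun i => i.elim0)
    | succ c ih =>
      intro j hj L hL
      obtain ⟨A, -, hA⟩ := KVb.hasExt (j + 1) (kernel q) h₁
      obtain ⟨T, hT, ⟨t₁⟩, ⟨t₂⟩, ⟨t₃⟩⟩ := exists_extPow_ses hS h₁ h₂ h₃ j hA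
        (exists_extPow_free (CohB1.ProjSpace.toSpec n k) m (j + 1)) hL
      let N := O(-(j : ℤ) - 1)
      let G := CurveLib.tensR N
      have hT' := CurveLib.shortExact_tensR hT
        (fun x => CurveLib.freeAt_one_of_isInvertible (isInvertible_O n k (-(j : ℤ) - 1)) x)
      haveI : PreservesFiniteColimits G := CurveLib.preservesFiniteColimits_tensR N
      refine subsingleton_iso k (G.mapIso t₃ ≪≫ AmpleLib.assoc L (O(1)) N ≪≫
        AmpleLib.tIso (Iso.refl L) (mulO n k (by ring))) (subsingleton_third k hT' j ?_ ?_)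
      · exact subsingleton_twists n k
          (G.mapIso t₂ ≪≫ PreservesCoproduct.iso G _ ≪≫ Sigma.mapIso fun _ => AmpleLib.unitL N)
          (by omega) (by omega)
      · exact subsingleton_iso k ((G.mapIso t₁) ≪≫ AmpleLib.tIso (Iso.refl A)
          (eqToIso (by push_cast; ring_nf))).symm (ih (j + 1) (by omega) A hA)
  have h0 := key (m + 1) 0 (zero_add _) _ (KVb.isExtPow_zero (kernel q))
  have h1 := finrank_structure n k
  obtain ⟨e⟩ := nonempty_O_zero n k
  haveI : Subsingleton (Coh.HH PS (Coh.structureModule PS) 0) :=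
    subsingleton_iso k (AmpleLib.unitL _ ≪≫ eqToIso (by simp) ≪≫ e) h0
  rw [Module.finrank_zero_of_subsingleton] at h1
  omega

/-- An epimorphism from a trivial bundle onto `O(1)` is onto on global sections. -/
theorem surjective_of_epi {N : ℕ} (q : FlatMod.freeMod PS N ⟶ O(1)) [Epi q] :
    Function.Surjective (CurveLib.hMap (k := k) q 0) := by
  classical
  haveI := isProper_PS n k
  have hO := finrank_structure n k
  rw [← LinearMap.range_eq_top]
  by_contra hne
  haveI : Module.Finite k (Coh.HH PS (O(1)) 0) := finite_O n k 1 0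
  let W := LinearMap.range (CurveLib.hMap (k := k) q 0)
  have hW : Module.finrank k W ≤ n := by
    have := Submodule.finrank_lt (s := W) hne
    rw [finrank_O_one] at this
    omega
  let b := Module.finBasis k W
  let q' : FlatMod.freeMod PS n ⟶ O(1) := ofVals fun l : Fin n =>
    if h : l.1 < Module.finrank k W then (b ⟨l.1, h⟩).1 else 0
  have hle : W ≤ LinearMap.range (CurveLib.hMap (k := k) q' 0) := by
    have hb : Submodule.span k (Set.range fun i => (b i).1) = W := by
      have := congrArg (Submodule.map W.subtype) b.span_eq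
      rw [Submodule.map_span, Submodule.map_top, Submodule.range_subtype, ← Set.range_comp] at this
      exact this
    rw [← hb, Submodule.span_le]
    rintro _ ⟨i, rfl⟩
    refine ⟨std (k := k) n ⟨i.1, lt_of_lt_of_le i.2 hW⟩, ?_⟩
    rw [hMap_std]
    exact (ev_ofVals _ _).trans (dif_pos i.2)
  have hval : ∀ l, ∃ z, CurveLib.hMap (k := k) q' 0 z = CurveLib.hMap (k := k) q 0 (std (k := k) N l) :=
    fun l => hle ⟨_, rfl⟩
  choose v hv using hval
  have hfac : ofVals v ≫ q' = q := ext_ev (k := k) fun l => by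
    rw [← hMap_std, ← hMap_std, hMap_comp, hMap_std, ev_ofVals]
    exact hv l
  haveI : Epi q' := epi_of_epi_fac hfac
  exact not_epi_free n k n le_rfl q' inferInstance

/-- The kernel of an epimorphism from a trivial bundle onto `O(1)`. -/
theorem nonempty_kernel_O1 {N : ℕ} (q : FlatMod.freeMod PS N ⟶ O(1)) [Epi q] :
    ∃ P, N = n + 1 + P ∧
      Nonempty (kernel q ≅ CohB1.tensorMod Ω¹ (O(1)) ⊞ FlatMod.freeMod PS P) := by
  haveI := isProper_PS n k
  have hO := finrank_structure n k
  have hs := surjective_of_epi n k q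
  have hN : n + 1 ≤ N := by
    haveI := finite_free (k := k) hO N
    rw [← finrank_O_one n k, ← finrank_free (k := k) hO N]
    exact LinearMap.finrank_le_finrank_of_surjective hs
  obtain ⟨S, hS, ⟨e₁⟩, ⟨e₂⟩, ⟨e₃⟩⟩ := exists_euler_ses n k
  let u : FlatMod.freeMod PS (n + 1) ⟶ O(1) := e₂.inv ≫ S.g ≫ e₃.hom
  have hΩ := KVb.isExtPow_one Ω¹
  have h0 : Subsingleton (Coh.HH PS S.X₁ 0) := by
    refine subsingleton_iso k e₁.symm ?_
    rcases Nat.eq_zero_or_pos n with hn | hn
    · exact subsingleton_big n k (j := 1) (by omega) 1 hΩ 0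
    · exact subsingleton_H0_small n k (d := 1) (j := 1) hn Nat.one_pos le_rfl hΩ
  have h1 : Subsingleton (Coh.HH PS S.X₁ 1) :=
    subsingleton_iso k e₁.symm (subsingleton_pos n k (m := 1) Int.one_pos 1 hΩ Nat.one_pos)
  have hg : Function.Bijective (CurveLib.hMap (k := k) S.g 0) := by
    refine ⟨(injective_iff_map_eq_zero _).2 fun x hx => ?_, fun x => ?_⟩
    · obtain ⟨w, rfl⟩ := (CurveLib.range_hMap_f (k := k) hS 0).ge (show x ∈ LinearMap.ker _ from hx)
      rw [@Subsingleton.elim _ h0 w 0, map_zero]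
    · exact (CurveLib.range_hMap_g (k := k) hS 0).ge
        (show x ∈ LinearMap.ker _ from LinearMap.mem_ker.2 (@Subsingleton.elim _ h1 _ _))
  have hu : Function.Bijective (CurveLib.hMap (k := k) u 0) := by
    have h : ⇑(CurveLib.hMap (k := k) u 0) = hIso k e₃ 0 ∘ CurveLib.hMap (k := k) S.g 0 ∘ hIso k e₂.symm 0 := by
      funext z
      rw [hMap_comp, hMap_comp]; rfl
    rw [h]
    exact (hIso k e₃ 0).bijective.comp (hg.comp (hIso k e₂.symm 0).bijective)
  obtain ⟨e⟩ := nonempty_kernel_iso (k := k) hO (P := N - (n + 1)) (by omega) q hs u hu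
  haveI := hS.mono_f
  refine ⟨N - (n + 1), by omega, ⟨e ≪≫ biprod.mapIso (?_ ≪≫ e₁) (Iso.refl _)⟩⟩
  exact kernel.mapIso u S.g e₂.symm e₃.symm (by simp [u]) ≪≫
    (IsLimit.conePointUniqueUpToIso hS.fIsKernel (limit.isLimit _)).symm

end Groth.Agent.HodgePnLib
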