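import Groth.Agent.HodgePnLib.Span
import Groth.Agent.S11843
import Groth.Agent.S10829
import Groth.Agent.DCohLib.FTLocal
import Groth.Agent.REqLib.P1Irred

/-!
# Trivial subbundles of globally generated bundles of large rank
-/

set_option autoImplicit false
set_option backward.isDefEq.respectTransparency false
set_option linter.style.haveILetI false
set_option maxHeartbeats 1000000

universe u

open CategoryTheory CategoryTheory.Limits AlgebraicGeometry

noncomputable section

namespace Groth.Agent.HodgePnLib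

/-- A module generated by finitely many sections is globally generated. -/
theorem isGloballyGenerated_of_epi {X : Scheme.{u}} {N : ℕ} {E : X.Modules} (p : FlatMod.freeMod X N ⟶ E) [Epi p] :
    Curv2.IsGloballyGenerated E :=
  ⟨ULift.{u} (Fin N), (DCohLib.freeIsoFreeMod X Equiv.ulift).hom ≫ p, inferInstance⟩

section

variable {X : Scheme.{u}} {m : ℕ} {E : X.Modules}

/-- Prepend a component. -/
def consMap (a : Coh.structureModule X ⟶ E) (b : FlatMod.freeMod X m ⟶ E) : FlatMod.freeMod X (m + 1) ⟶ E :=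
  Sigma.desc (Fin.cases a fun j => Sigma.ι (fun _ : Fin m => Coh.structureModule X) j ≫ b)

theorem ι_consMap_zero (a : Coh.structureModule X ⟶ E) (b : FlatMod.freeMod X m ⟶ E) :
    Sigma.ι (fun _ : Fin (m + 1) => Coh.structureModule X) 0 ≫ consMap a b = a := Sigma.ι_desc _ _

theorem ι_consMap_succ (a : Coh.structureModule X ⟶ E) (b : FlatMod.freeMod X m ⟶ E) (j : Fin m) :
    Sigma.ι (fun _ : Fin (m + 1) => Coh.structureModule X) j.succ ≫ consMap a b =
      Sigma.ι (fun _ : Fin m => Coh.structureModule X) j ≫ b := Sigma.ι_desc _ _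

/-- The free module with one more generator. -/
def consIso (X : Scheme.{u}) (m : ℕ) : FlatMod.freeMod X (m + 1) ≅ Coh.structureModule X ⊞ FlatMod.freeMod X m where
  hom := consMap biprod.inl biprod.inr
  inv := biprod.desc (Sigma.ι (fun _ : Fin (m + 1) => Coh.structureModule X) 0)
    (Sigma.desc fun j => Sigma.ι (fun _ : Fin (m + 1) => Coh.structureModule X) j.succ)
  hom_inv_id := Sigma.hom_ext _ _ fun j => by
    induction j using Fin.cases with
    | zero => rw [← Category.assoc, ι_consMap_zero, biprod.inl_desc, Category.comp_id]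
    | succ j => rw [← Category.assoc, ι_consMap_succ, Category.assoc, biprod.inr_desc, Sigma.ι_desc, Category.comp_id]
  inv_hom_id := by
    apply biprod.hom_ext'
    · rw [biprod.inl_desc_assoc, ι_consMap_zero, Category.comp_id]
    · rw [biprod.inr_desc_assoc, Category.comp_id]
      exact Sigma.hom_ext _ _ fun j => by rw [Sigma.ι_desc_assoc, ι_consMap_succ]

variable (φ₀ : Coh.structureModule X ⟶ E) [Mono φ₀] (l : FlatMod.freeMod X m ⟶ E)
  [Mono (l ≫ cokernel.π φ₀)]

theorem mono_pair : Mono (biprod.desc φ₀ l) := by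
  refine Preadditive.mono_of_cancel_zero _ fun {T} g hg => ?_
  have h0 : g = (g ≫ biprod.fst) ≫ biprod.inl + (g ≫ biprod.snd) ≫ biprod.inr := by
    rw [Category.assoc, Category.assoc, ← Preadditive.comp_add, biprod.total, Category.comp_id]
  rw [biprod.desc_eq, Preadditive.comp_add, ← Category.assoc, ← Category.assoc] at hg
  have h1 : g ≫ biprod.snd = 0 := by
    refine (cancel_mono (l ≫ cokernel.π φ₀)).1 ?_
    rw [zero_comp, ← Category.assoc]
    have := congrArg (· ≫ cokernel.π φ₀) hg
    simpa [Preadditive.add_comp] using this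
  have h2 : g ≫ biprod.fst = 0 := by
    refine (cancel_mono φ₀).1 ?_
    rw [h1, zero_comp, add_zero] at hg
    rw [hg, zero_comp]
  rw [h0, h1, h2, zero_comp, zero_comp, add_zero]

/-- The cokernel of a pair. -/
def cokerPair : cokernel (biprod.desc φ₀ l) ≅ cokernel (l ≫ cokernel.π φ₀) where
  hom := cokernel.desc _ (cokernel.π φ₀ ≫ cokernel.π (l ≫ cokernel.π φ₀)) (by
    apply biprod.hom_ext'
    · rw [biprod.inl_desc_assoc, ← Category.assoc, cokernel.condition, zero_comp, comp_zero]
    · rw [biprod.inr_desc_assoc, ← Category.assoc, cokernel.condition, comp_zero])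
  inv := cokernel.desc _ (cokernel.desc φ₀ (cokernel.π (biprod.desc φ₀ l))
      (by
        have h := (biprod.inl : _ ⟶ Coh.structureModule X ⊞ FlatMod.freeMod X m) ≫= cokernel.condition (biprod.desc φ₀ l)
        rwa [biprod.inl_desc_assoc, comp_zero] at h)) (by
    rw [Category.assoc, cokernel.π_desc]
    have h := (biprod.inr : _ ⟶ Coh.structureModule X ⊞ FlatMod.freeMod X m) ≫= cokernel.condition (biprod.desc φ₀ l)
    rwa [biprod.inr_desc_assoc, comp_zero] at h)
  hom_inv_id := by
    rw [← cancel_epi (cokernel.π (biprod.desc φ₀ l)), ← Category.assoc, cokernel.π_desc, Category.assoc,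
      cokernel.π_desc, cokernel.π_desc, Category.comp_id]
  inv_hom_id := by
    rw [← cancel_epi (cokernel.π (l ≫ cokernel.π φ₀)), ← Category.assoc, cokernel.π_desc, Category.comp_id,
      ← cancel_epi (cokernel.π φ₀), ← Category.assoc, cokernel.π_desc, cokernel.π_desc]

end

variable (n : ℕ) (k : Type u) [Field k] [IsAlgClosed k] [CharZero k]

/-- Trivial subbundles of a globally generated bundle. -/
theorem exists_sub_free : ∀ (m r : ℕ), n + m ≤ r → ∀ (E : (CohB1.ProjSpace n k).Modules),
    FlatMod.IsFinLocFreeOfRank r E → Curv2.IsGloballyGenerated E →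
    ∃ φ : FlatMod.freeMod (CohB1.ProjSpace n k) m ⟶ E,
      Mono φ ∧ FlatMod.IsFinLocFreeOfRank (r - m) (cokernel φ) := by
  haveI := isProper_PS n k
  haveI : IsIntegral (CohB1.ProjSpace n k) := REqLib.isIntegral_projSpace n k
  intro m
  induction m with
  | zero =>
    intro r _ E hE _
    have hz : IsZero (FlatMod.freeMod (CohB1.ProjSpace n k) 0) := HorrocksPnLib.isZero_sigma_zero _
    refine ⟨0, ⟨fun _ _ _ => hz.eq_of_tgt _ _⟩, fun x => ?_⟩
    obtain ⟨U, hU, ⟨i⟩⟩ := hE x
    exact ⟨U, hU, ⟨(Scheme.Modules.restrictFunctor U.ι).mapIso cokernelZeroIsoTarget ≪≫ i⟩⟩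
  | succ m ih =>
    intro r hr E hE hgen
    obtain ⟨φ₀, h₀, hQ⟩ := S11843.result k (CohB1.ProjSpace n k) r E hE hgen (by
      rw [S10829.result k n]; exact_mod_cast (show n < r by omega))
    haveI := h₀
    obtain ⟨ι, p, hp⟩ := hgen
    haveI := hp
    obtain ⟨φ', h', hC⟩ := ih (r - 1) (by omega) (cokernel φ₀) hQ ⟨ι, p ≫ cokernel.π φ₀, inferInstance⟩
    haveI := h'
    have hsurj : Function.Surjective (CurveLib.hMap (k := k) (cokernel.π φ₀) 0) := fun y => by
      have h1 : Subsingleton (Coh.HH (CohB1.ProjSpace n k) (Coh.structureModule (CohB1.ProjSpace n k)) 1) := by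
        obtain ⟨e⟩ := nonempty_O_zero n k
        exact subsingleton_iso k e (subsingleton_O n k (by omega) (by omega))
      exact (CurveLib.range_hMap_g (k := k) (CMRegLib.shortExact_coker φ₀) 0).ge
        (show y ∈ LinearMap.ker _ from LinearMap.mem_ker.2 (@Subsingleton.elim _ h1 _ _))
    choose v hv using fun j : Fin m => hsurj (ev (k := k) φ' j)
    have hl : ofVals v ≫ cokernel.π φ₀ = φ' := ext_ev (k := k) fun j => by
      rw [← hMap_std, hMap_comp, hMap_std, ev_ofVals, hv]
    haveI : Mono (ofVals v ≫ cokernel.π φ₀) := by rw [hl]; exact h'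
    haveI := mono_pair φ₀ (ofVals v)
    refine ⟨(consIso _ m).hom ≫ biprod.desc φ₀ (ofVals v), inferInstance, fun x => ?_⟩
    obtain ⟨U, hU, ⟨i⟩⟩ := hC x
    rw [show r - (m + 1) = r - 1 - m by omega]
    exact ⟨U, hU, ⟨(Scheme.Modules.restrictFunctor U.ι).mapIso
      (cokernelEpiComp _ _ ≪≫ cokerPair φ₀ (ofVals v) ≪≫ cokernelIsoOfEq hl) ≪≫ i⟩⟩

end Groth.Agent.HodgePnLib
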