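import Groth.Agent.HodgePnLib.FreeHom
import Groth.Agent.DegDevLib.Det

/-!
# Globally generated bundles with trivial determinant
-/

set_option autoImplicit false
set_option backward.isDefEq.respectTransparency false
set_option linter.style.haveILetI false
set_option linter.unusedSectionVars false
set_option maxHeartbeats 600000

universe u

open CategoryTheory CategoryTheory.Limits AlgebraicGeometry TopologicalSpace Opposite
open Groth.Agent.PullbackMod Groth.Agent.DCohLib Groth.Agent.ParaFLib Groth.Agent.DegDevLib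

noncomputable section

namespace Groth.Agent.HodgePnLib

/-- Among generators of a free module over a local ring some form a basis. -/
theorem exists_det_unit {R : Type*} [CommRing R] [IsLocalRing R] {N r : ℕ} (B : Fin N → Fin r → R)
    (hB : Function.Surjective (Fintype.linearCombination R B)) :
    ∃ l : Fin r → Fin N, IsUnit (Matrix.det fun i j => B (l i) j) := by
  classical
  let K := IsLocalRing.ResidueField R
  let π := IsLocalRing.residue R
  let Bk : Fin N → Fin r → K := fun l j => π (B l j)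
  have htop : Submodule.span K (Set.range Bk) = ⊤ := by
    refine eq_top_iff.2 fun v _ => ?_
    choose v' hv' using fun j => IsLocalRing.residue_surjective (v j)
    obtain ⟨c, hc⟩ := hB v'
    rw [Submodule.mem_span_range_iff_exists_fun]
    refine ⟨fun l => π (c l), funext fun j => ?_⟩
    rw [← hv' j, ← hc]
    simp [Fintype.linearCombination_apply, Finset.sum_apply, Bk, π, map_sum]
  obtain ⟨f, hf, hspan, -⟩ := Submodule.exists_fun_fin_finrank_span_eq K (Set.range Bk)
  have hfin : Module.finrank K (Submodule.span K (Set.range Bk)) = r := by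
    rw [htop, finrank_top, Module.finrank_fin_fun]
  let f' : Fin r → Fin r → K := f ∘ Fin.cast hfin.symm
  have hf' : Submodule.span K (Set.range f') = ⊤ := by
    rw [Set.range_comp f, show Set.range (Fin.cast hfin.symm) = Set.univ from
      Set.range_eq_univ.2 (finCongr hfin.symm).surjective, Set.image_univ, hspan, htop]
  choose l hl using fun i => hf (Fin.cast hfin.symm i)
  refine ⟨l, ?_⟩
  have hu : IsUnit (Matrix.det (f' : Matrix (Fin r) (Fin r) K)) := by
    rw [← Matrix.isUnit_iff_isUnit_det, ← Matrix.linearIndependent_rows_iff_isUnit]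
    exact linearIndependent_of_top_le_span_of_card_eq_finrank hf'.ge (by simp)
  have he : π (Matrix.det fun i j => B (l i) j) = Matrix.det (f' : Matrix (Fin r) (Fin r) K) := by
    rw [RingHom.map_det]
    exact congrArg Matrix.det (funext fun i => funext fun j => congrFun (hl i) j)
  exact IsLocalRing.residue_ne_zero_iff_isUnit _ |>.1 fun h => hu.ne_zero (he.symm.trans h)

variable {X : Scheme.{u}} {r : ℕ} {E L : X.Modules}

/-- The wedge of global sections. -/
theorem exists_wedge (φ : ExtIso r E L) (hc : Compat φ) (g : Fin r → Γ(E, ⊤)) :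
    ∃ w : Γ(L, ⊤), ∀ V : X.affineOpens, L.presheaf.map (homOfLE (le_top : V.1 ≤ ⊤)).op w =
      wsec φ V fun i => E.presheaf.map (homOfLE (le_top : V.1 ≤ ⊤)).op (g i) := by
  let ω : ∀ V : X.affineOpens, Γ(L, V.1) := fun V =>
    wsec φ V fun i => E.presheaf.map (homOfLE (le_top : V.1 ≤ ⊤)).op (g i)
  have hres : ∀ (V W : X.affineOpens) (h : W.1 ≤ V.1), L.presheaf.map (homOfLE h).op (ω V) = ω W := fun V W h =>
    (hc V W h _).trans (congrArg _ (funext fun i => ParaFLib.res_res le_top h (g i)))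
  have hcov : (⊤ : X.Opens) ≤ iSup fun V : X.affineOpens => V.1 := by
    rw [iSup_affineOpens_eq_top]
  have hcomp : TopCat.Presheaf.IsCompatible L.presheaf (fun V : X.affineOpens => V.1) ω := fun a b => by
    refine TopCat.Presheaf.section_ext (⟨L.presheaf, L.isSheaf⟩ : TopCat.Sheaf Ab X) (a.1 ⊓ b.1) _ _ fun y hy => ?_
    obtain ⟨_, ⟨D : X.Opens, hD, rfl⟩, hyD, hDab₀⟩ := X.isBasis_affineOpens.exists_subset_of_mem_open hy (a.1 ⊓ b.1).2
    have hDab : D ≤ a.1 ⊓ b.1 := hDab₀
    show L.presheaf.germ (a.1 ⊓ b.1) y hy _ = L.presheaf.germ (a.1 ⊓ b.1) y hy _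
    rw [L.presheaf.germ_res_apply, L.presheaf.germ_res_apply,
      ← L.presheaf.germ_res_apply (homOfLE (hDab.trans inf_le_left)) y hyD (ω a),
      ← L.presheaf.germ_res_apply (homOfLE (hDab.trans inf_le_right)) y hyD (ω b),
      hres a ⟨D, hD⟩ (hDab.trans inf_le_left), hres b ⟨D, hD⟩ (hDab.trans inf_le_right)]
  obtain ⟨s, hs, -⟩ := TopCat.Sheaf.existsUnique_gluing' (⟨L.presheaf, L.isSheaf⟩ : TopCat.Sheaf Ab X.carrier)
    (fun V : X.affineOpens => V.1) ⊤ (fun V => homOfLE le_top) hcov ω hcomp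
  exact ⟨s, hs⟩

/-- The coordinates of a global section in a frame. -/
theorem exists_coord {D : X.affineOpens} {f : Fin r → Γ(E, D.1)} (hf : IsFrame D.1 f) (v : Γ(E, ⊤)) :
    ∃ c : Fin r → Γ(X, D.1), ∑ j, c j • f j = E.presheaf.map (homOfLE (le_top : D.1 ≤ ⊤)).op v := by
  obtain ⟨c, hc⟩ := hf.bijective.2 (E.presheaf.map (homOfLE (le_top : D.1 ≤ ⊤)).op v)
  exact ⟨c, (Fintype.linearCombination_apply _ f c).symm.trans hc⟩

/-- The germ of a section with given coordinates. -/
theorem germ_coord {y : X} {D : X.affineOpens} (hy : y ∈ D.1) {f : Fin r → Γ(E, D.1)} {c : Fin r → Γ(X, D.1)}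
    {v : Γ(E, ⊤)} (h : ∑ j, c j • f j = E.presheaf.map (homOfLE (le_top : D.1 ≤ ⊤)).op v) :
    E.presheaf.germ ⊤ y trivial v = Fintype.linearCombination (X.presheaf.stalk y)
      (fun j => E.presheaf.germ D.1 y hy (f j)) (fun j => X.presheaf.germ D.1 y hy (c j)) := by
  rw [← E.presheaf.germ_res_apply (homOfLE (le_top : D.1 ≤ ⊤)) y hy v, ← h, map_sum, Fintype.linearCombination_apply]
  exact Finset.sum_congr rfl fun j _ => ParaFLib.germ_smul' _ _ _ _

/-- The germ of the wedge of global sections in a frame. -/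
theorem germ_wedge (φ : ExtIso r E L) {g : Fin r → Γ(E, ⊤)} {w : Γ(L, ⊤)}
    (hw : ∀ V : X.affineOpens, L.presheaf.map (homOfLE (le_top : V.1 ≤ ⊤)).op w =
      wsec φ V fun i => E.presheaf.map (homOfLE (le_top : V.1 ≤ ⊤)).op (g i))
    {y : X} {D : X.affineOpens} (hy : y ∈ D.1) {f : Fin r → Γ(E, D.1)} (hf : IsFrame D.1 f)
    (A : Matrix (Fin r) (Fin r) Γ(X, D.1))
    (hA : ∀ i, ∑ j, A i j • f j = E.presheaf.map (homOfLE (le_top : D.1 ≤ ⊤)).op (g i)) :
    L.presheaf.germ ⊤ y trivial w =
      X.presheaf.germ D.1 y hy A.det • L.presheaf.germ D.1 y hy (wsec φ D f) := by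
  rw [← L.presheaf.germ_res_apply (homOfLE (le_top : D.1 ≤ ⊤)) y hy w, hw D,
    ← show (fun i => ∑ j, A i j • f j) = _ from funext hA, wsec_smul φ hf A]
  exact ParaFLib.germ_smul' _ _ _ _

/-- The function of a section of a trivialised line bundle. -/
def trivSec (e : L ≅ Coh.structureModule X) (w : Γ(L, ⊤)) : Γ(X, ⊤) := e.hom.app ⊤ w

/-- A section of a trivialised line bundle on a stalk. -/
theorem germ_triv (e : L ≅ Coh.structureModule X) (w : Γ(L, ⊤)) (y : X) :
    L.presheaf.germ ⊤ y trivial w =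
      X.presheaf.germ ⊤ y trivial (trivSec e w) • stalkLin e.inv y (oneG y) := by
  rw [← map_smul]
  have : stalkLin e.hom y (L.presheaf.germ ⊤ y trivial w) =
      X.presheaf.germ ⊤ y trivial (trivSec e w) • oneG y := by
    rw [stalkLin_germ, oneG, ← ParaFLib.germ_smul']
    exact congrArg _ (show (trivSec e w) = (trivSec e w) * (1 : Γ(X, ⊤)) from (mul_one _).symm)
  rw [← this, ← LinearMap.comp_apply, ← stalkLin_comp, e.hom_inv_id, stalkLin_id]
  rfl

/-- The determinant where a trivialised wedge is a unit. -/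
theorem isUnit_germ_det (φ : ExtIso r E L) (hc : Compat φ) (e : L ≅ Coh.structureModule X) {g : Fin r → Γ(E, ⊤)}
    {w : Γ(L, ⊤)}
    (hw : ∀ V : X.affineOpens, L.presheaf.map (homOfLE (le_top : V.1 ≤ ⊤)).op w =
      wsec φ V fun i => E.presheaf.map (homOfLE (le_top : V.1 ≤ ⊤)).op (g i))
    (hu : IsUnit (trivSec e w)) {y : X} {D : X.affineOpens} (hy : y ∈ D.1) {f : Fin r → Γ(E, D.1)}
    (hf : IsFrame D.1 f) (A : Matrix (Fin r) (Fin r) Γ(X, D.1))
    (hA : ∀ i, ∑ j, A i j • f j = E.presheaf.map (homOfLE (le_top : D.1 ≤ ⊤)).op (g i)) :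
    IsUnit (X.presheaf.germ D.1 y hy A.det) := by
  obtain ⟨b, hb⟩ := ((gen_wsec φ hc hf).bijective_germ y hy).2 (stalkLin e.inv y (oneG y))
  have hd : X.presheaf.germ D.1 y hy A.det = X.presheaf.germ ⊤ y trivial (trivSec e w) * b :=
    ((gen_wsec φ hc hf).bijective_germ y hy).1 (by
      refine ((germ_wedge φ hw hy hf A hA).symm.trans (germ_triv e w y)).trans ?_
      rw [← hb]
      exact (mul_smul _ _ _).symm)
  obtain ⟨c, hc'⟩ := (bijective_oneG y).2 (stalkLin e.hom y (L.presheaf.germ D.1 y hy (wsec φ D f)))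
  have hcb : c * b = 1 := ((gen_wsec φ hc hf).bijective_germ y hy).1 (by
    refine (mul_smul c b _).trans (Eq.trans ?_ (one_smul _ _).symm)
    refine (congrArg (c • ·) hb).trans ((map_smul _ c (oneG y)).symm.trans ?_)
    refine (congrArg (stalkLin e.inv y) hc').trans ?_
    rw [← LinearMap.comp_apply, ← stalkLin_comp, e.hom_inv_id, stalkLin_id]
    rfl)
  rw [hd]
  exact (hu.map _).mul (IsUnit.of_mul_eq_one c (by rw [mul_comm, hcb]))

/-- Sections with unit determinant in a frame are a basis of the stalk. -/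
theorem bijective_descS {g : Fin r → Γ(E, ⊤)} {y : X} {D : X.affineOpens} (hy : y ∈ D.1) {f : Fin r → Γ(E, D.1)}
    (hf : IsFrame D.1 f) (A : Matrix (Fin r) (Fin r) Γ(X, D.1))
    (hA : ∀ i, ∑ j, A i j • f j = E.presheaf.map (homOfLE (le_top : D.1 ≤ ⊤)).op (g i))
    (hd : IsUnit (X.presheaf.germ D.1 y hy A.det)) : Function.Bijective (stalkLin (descS g) y) := by
  classical
  let A' : Matrix (Fin r) (Fin r) (X.presheaf.stalk y) := fun i j => X.presheaf.germ D.1 y hy (A i j)
  have hA' : IsUnit A' := by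
    rw [Matrix.isUnit_iff_isUnit_det]
    have he : A'.det = X.presheaf.germ D.1 y hy A.det := (RingHom.map_det _ _).symm
    rw [he]
    exact hd
  have hcomp : (fun v => stalkLin (descS g) y (Fintype.linearCombination (X.presheaf.stalk y) (stdGerm r y) v)) =
      Fintype.linearCombination (X.presheaf.stalk y) (fun j => E.presheaf.germ D.1 y hy (f j)) ∘
        fun v => Matrix.vecMul v A' := by
    funext v
    rw [Function.comp_apply, Fintype.linearCombination_apply, map_sum, Fintype.linearCombination_apply]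
    simp only [map_smul, descS_stdGerm, Matrix.vecMul, dotProduct, Finset.sum_smul, mul_smul]
    rw [Finset.sum_comm]
    refine Finset.sum_congr rfl fun i _ => ?_
    rw [← Finset.smul_sum, germ_coord hy (hA i), Fintype.linearCombination_apply]
  have hv : Function.Bijective fun v : Fin r → X.presheaf.stalk y => Matrix.vecMul v A' :=
    ⟨Matrix.vecMul_injective_of_isUnit hA', Matrix.vecMul_surjective_iff_isUnit.2 hA'⟩
  have hb := Function.Bijective.comp (hf y hy) hv
  refine ⟨fun z z' h => ?_, fun z => ?_⟩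
  · obtain ⟨v, rfl⟩ := (stdGerm_bijective r y).2 z
    obtain ⟨v', rfl⟩ := (stdGerm_bijective r y).2 z'
    exact congrArg _ (hb.1 ((congrFun hcomp v).symm.trans (h.trans (congrFun hcomp v'))))
  · obtain ⟨v, hv'⟩ := hb.2 z
    exact ⟨_, (congrFun hcomp v).trans hv'⟩

variable {k : Type u} [Field k] [X.Over (Spec (CommRingCat.of k))] [IsProper (X ↘ Spec (CommRingCat.of k))]

/-- A globally generated bundle with trivial determinant is trivial. -/
theorem nonempty_iso_free (x₀ : X) (hO : Module.finrank k (Coh.HH X (Coh.structureModule X) 0) = 1)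
    (hE : FlatMod.IsFinLocFreeOfRank r E) {N : ℕ} (q : FlatMod.freeMod X N ⟶ E) [Epi q]
    (hL : ExtPow.IsExtPow r E L) (e : L ≅ Coh.structureModule X) : Nonempty (E ≅ FlatMod.freeMod X r) := by
  classical
  obtain ⟨φ, hc⟩ : ∃ φ : ExtIso r E L, Compat φ := hL
  have hfr : ∀ y : X, ∃ (D : X.affineOpens) (f : Fin r → Γ(E, D.1)), y ∈ D.1 ∧ IsFrame D.1 f := fun y => by
    obtain ⟨_, ⟨V : X.Opens, hV, rfl⟩, hyV, -⟩ :=
      X.isBasis_affineOpens.exists_subset_of_mem_open (Set.mem_univ y) isOpen_univ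
    obtain ⟨U, f, hyU, -, hf⟩ := exists_frame hE (Set.finite_singleton y) hV (Set.singleton_subset_iff.2 hyV)
    obtain ⟨_, ⟨D : X.Opens, hD, rfl⟩, hyD, hDU⟩ := X.isBasis_affineOpens.exists_subset_of_mem_open (hyU rfl) U.2
    exact ⟨⟨D, hD⟩, _, hyD, hf.res hDU⟩
  -- sections forming a basis at the given point
  let σ : Fin N → Γ(E, ⊤) := fun l => AmpleLib.sec (Sigma.ι (fun _ : Fin N => Coh.structureModule X) l ≫ q)
  obtain ⟨D₀, f₀, hx₀, hf₀⟩ := hfr x₀
  choose C hC using fun l => exists_coord hf₀ (σ l)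
  let lc := Fintype.linearCombination (X.presheaf.stalk x₀) fun j => E.presheaf.germ D₀.1 x₀ hx₀ (f₀ j)
  have hgen : Function.Surjective (Fintype.linearCombination (X.presheaf.stalk x₀)
      fun l j => X.presheaf.germ D₀.1 x₀ hx₀ (C l j)) := by
    intro v
    obtain ⟨z, hz⟩ := (epi_iff_stalk q).1 inferInstance x₀ (lc v)
    obtain ⟨a, rfl⟩ := (DegDevLib.stdGerm_bijective N x₀).2 z
    refine ⟨a, (hf₀ x₀ hx₀).1 ?_⟩
    show lc _ = lc v
    rw [← hz, Fintype.linearCombination_apply (X.presheaf.stalk x₀) (stdGerm N x₀) a, map_sum,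
      Fintype.linearCombination_apply (X.presheaf.stalk x₀) (fun l j => X.presheaf.germ D₀.1 x₀ hx₀ (C l j)) a, map_sum]
    refine Finset.sum_congr rfl fun l _ => ?_
    rw [map_smul, map_smul, ← germ_coord hx₀ (hC l)]
    refine congrArg _ ?_
    rw [stdGerm, ← LinearMap.comp_apply, ← stalkLin_comp, oneG, stalkLin_germ]
    rfl
  obtain ⟨l, hl⟩ := exists_det_unit _ hgen
  let g : Fin r → Γ(E, ⊤) := σ ∘ l
  obtain ⟨w, hw⟩ := exists_wedge φ hc g
  let a : Γ(X, ⊤) := trivSec e w
  have hu : IsUnit a := by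
    obtain ⟨c, hc'⟩ := exists_smul_eq_of_finrank_eq_one hO (one₀_ne_zero hO)
      ((CurveLib.secOf (Coh.structureModule X)).symm a)
    have h := congrArg (CurveLib.secOf (Coh.structureModule X)) hc'
    rw [CurveLib.secOf_smul, AddEquiv.apply_symm_apply, one₀, AddEquiv.apply_symm_apply] at h
    have h' : (show Γ(X, ⊤) from Coh.toGlobal (X ↘ Spec (CommRingCat.of k)) c) = a := (mul_one _).symm.trans h
    rcases eq_or_ne c 0 with rfl | hne
    · exfalso
      rw [map_zero] at h'
      let A : Matrix (Fin r) (Fin r) Γ(X, D₀.1) := fun i j => C (l i) j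
      have h1 := germ_wedge φ hw hx₀ hf₀ A fun i => hC (l i)
      rw [germ_triv e, show (trivSec e w) = 0 from h'.symm, map_zero, zero_smul] at h1
      have h2 : IsUnit (X.presheaf.germ D₀.1 x₀ hx₀ A.det) := by
        rw [RingHom.map_det]; exact hl
      refine h2.ne_zero (((gen_wsec φ hc hf₀).bijective_germ x₀ hx₀).1 ?_)
      exact h1.symm.trans (zero_smul _ _).symm
    · rw [← h']
      exact (isUnit_iff_ne_zero.2 hne).map _
  have hbas : ∀ y : X, Function.Bijective (stalkLin (descS g) y) := fun y => by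
    obtain ⟨D, f, hy, hf⟩ := hfr y
    choose A hA using fun i => exists_coord hf (g i)
    exact bijective_descS hy hf A hA (isUnit_germ_det φ hc e hw hu hy hf A hA)
  haveI : IsIso (descS g) := (PullbackMod.isIso_iff_stalk _).2 hbas
  exact ⟨(asIso (descS g)).symm⟩

end Groth.Agent.HodgePnLib
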